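import Mathlib

/-!
# Local symmetric algebras with few traces: the setting

`N` is the radical of a local corner of a symmetric algebra, the commutators of `N` have
codimension at most four in `N`.
-/

set_option linter.unusedSectionVars false

namespace Cfsg.Agent.Blocks.FiveTraces

open Module
open scoped Pointwise

universe u v

variable {F : Type u} [Field F] {𝒜 : Type v} [Ring 𝒜] [Algebra F 𝒜]

/-- The span of the commutators of a subspace. -/
def comms (N : Submodule F 𝒜) : Submodule F 𝒜 :=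
  Submodule.span F {z | ∃ a ∈ N, ∃ b ∈ N, a * b - b * a = z}

/-- The radical of a local symmetric algebra with at most five traces. -/
structure Setting (lam : 𝒜 →ₗ[F] F) (N : Submodule F 𝒜) : Prop where
  mul_le : N * N ≤ N
  nil : ∃ L : ℕ, N ^ (L + 1) = ⊥
  trace : ∀ x y, lam (x * y) = lam (y * x)
  nondeg : ∀ x ∈ N, lam x = 0 → (∀ y ∈ N, lam (x * y) = 0) → x = 0
  codim : finrank F N ≤ finrank F (comms N) + 4

/-- Congruence classes modulo a power. -/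
abbrev cl (N : Submodule F 𝒜) (n : ℕ) : 𝒜 →ₗ[F] 𝒜 ⧸ N ^ n := (N ^ n).mkQ

theorem cl_eq_zero {N : Submodule F 𝒜} {n : ℕ} {x : 𝒜} : cl N n x = 0 ↔ x ∈ N ^ n :=
  Submodule.Quotient.mk_eq_zero _

theorem cl_eq_cl {N : Submodule F 𝒜} {n : ℕ} {x y : 𝒜} :
    cl N n x = cl N n y ↔ x - y ∈ N ^ n := by
  rw [← sub_eq_zero, ← map_sub, cl_eq_zero]

variable {lam : 𝒜 →ₗ[F] F} {N : Submodule F 𝒜}

theorem mul_mem_pow {i j : ℕ} {a b : 𝒜} (ha : a ∈ N ^ i) (hb : b ∈ N ^ j) :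
    a * b ∈ N ^ (i + j) := by
  rw [pow_add]
  exact Submodule.mul_mem_mul ha hb

theorem mem_pow_one {a : 𝒜} (ha : a ∈ N) : a ∈ N ^ 1 := by rwa [pow_one]

theorem mul_mem_two {a b : 𝒜} (ha : a ∈ N) (hb : b ∈ N) : a * b ∈ N ^ 2 :=
  mul_mem_pow (mem_pow_one ha) (mem_pow_one hb)

theorem comm_mem_comms {a b : 𝒜} (ha : a ∈ N) (hb : b ∈ N) : a * b - b * a ∈ comms N :=
  Submodule.subset_span ⟨a, ha, b, hb, rfl⟩

theorem comms_le_sq : comms N ≤ N ^ 2 := by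
  refine Submodule.span_le.2 ?_
  rintro _ ⟨a, ha, b, hb, rfl⟩
  exact (N ^ 2).sub_mem (mul_mem_two ha hb) (mul_mem_two hb ha)

/-- A linear and bilinear membership test on spans. -/
theorem bilin_mem {P : Type*} [AddCommGroup P] [Module F P] (f : 𝒜 →ₗ[F] 𝒜 →ₗ[F] P)
    {S T : Set 𝒜} {U : Submodule F P} (h : ∀ s ∈ S, ∀ t ∈ T, f s t ∈ U) {a b : 𝒜}
    (ha : a ∈ Submodule.span F S) (hb : b ∈ Submodule.span F T) : f a b ∈ U := by
  have h1 : Submodule.span F T ≤ U.comap (f a) := by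
    refine Submodule.span_le.2 fun t ht => ?_
    exact (Submodule.span_le.2 fun s hs => (h s hs t ht : s ∈ U.comap (f.flip t)) :
      Submodule.span F S ≤ U.comap (f.flip t)) ha
  exact h1 hb

/-- The commutator as a bilinear map. -/
def bracket (F : Type u) [Field F] (𝒜 : Type v) [Ring 𝒜] [Algebra F 𝒜] : 𝒜 →ₗ[F] 𝒜 →ₗ[F] 𝒜 :=
  LinearMap.mul F 𝒜 - (LinearMap.mul F 𝒜).flip

theorem bracket_apply (a b : 𝒜) : bracket F 𝒜 a b = a * b - b * a := rfl

/-- Products of spanning sets. -/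
theorem mem_sup_mul {S T : Set 𝒜} {A B A' B' U : Submodule F 𝒜} (hA : A ≤ Submodule.span F S ⊔ A')
    (hB : B ≤ Submodule.span F T ⊔ B') (h1 : ∀ s ∈ S, ∀ t ∈ T, s * t ∈ U) (h2 : A' * B ≤ U)
    (h3 : Submodule.span F S * B' ≤ U) : A * B ≤ U := by
  refine Submodule.mul_le.2 fun a ha b hb => ?_
  obtain ⟨a₁, ha₁, a₂, ha₂, rfl⟩ := Submodule.mem_sup.1 (hA ha)
  rw [add_mul]
  refine U.add_mem ?_ (h2 (Submodule.mul_mem_mul ha₂ hb))
  obtain ⟨b₁, hb₁, b₂, hb₂, rfl⟩ := Submodule.mem_sup.1 (hB hb)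
  rw [mul_add]
  exact U.add_mem (bilin_mem (LinearMap.mul F 𝒜) h1 ha₁ hb₁)
    (h3 (Submodule.mul_mem_mul ha₁ hb₂))

namespace Setting

variable (h : Setting lam N)
include h

theorem pow_succ_le (i : ℕ) (hi : 1 ≤ i) : N ^ (i + 1) ≤ N ^ i := by
  obtain ⟨i, rfl⟩ : ∃ j, i = j + 1 := ⟨i - 1, by omega⟩
  rw [pow_succ, pow_succ, mul_assoc]
  exact Submodule.mul_le.2 fun a ha b hb => Submodule.mul_mem_mul ha (h.mul_le hb)

theorem pow_anti {i j : ℕ} (hi : 1 ≤ i) (hij : i ≤ j) : N ^ j ≤ N ^ i := by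
  induction hij with
  | refl => rfl
  | step hle ih => exact (h.pow_succ_le _ (hi.trans hle)).trans ih

theorem pow_le {i : ℕ} (hi : 1 ≤ i) : N ^ i ≤ N := by
  have := h.pow_anti le_rfl hi
  rwa [pow_one] at this

theorem mem_of_mem_pow {i : ℕ} (hi : 1 ≤ i) {x : 𝒜} (hx : x ∈ N ^ i) : x ∈ N := h.pow_le hi hx

theorem mulL {n k : ℕ} (hk : 1 ≤ k) (hnk : k ≤ n + 1) {u a b : 𝒜} (hu : u ∈ N)
    (hab : cl N n a = cl N n b) : cl N k (u * a) = cl N k (u * b) := by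
  rw [cl_eq_cl, ← mul_sub]
  exact h.pow_anti hk (by omega) (mul_mem_pow (mem_pow_one hu) (cl_eq_cl.1 hab))

theorem mulR {n k : ℕ} (hk : 1 ≤ k) (hnk : k ≤ n + 1) {u a b : 𝒜} (hu : u ∈ N)
    (hab : cl N n a = cl N n b) : cl N k (a * u) = cl N k (b * u) := by
  rw [cl_eq_cl, ← sub_mul]
  exact h.pow_anti hk (by omega) (mul_mem_pow (cl_eq_cl.1 hab) (mem_pow_one hu))

theorem lam_comms {x : 𝒜} (hx : x ∈ comms N) : lam x = 0 := by
  refine (Submodule.span_le.2 ?_ : comms N ≤ LinearMap.ker lam) hx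
  rintro _ ⟨a, -, b, -, rfl⟩
  show lam (a * b - b * a) = 0
  rw [map_sub, h.trace, sub_self]

theorem eq_bot_of_lam {n : ℕ} (hn : 1 ≤ n) (hl : ∀ x ∈ N ^ n, lam x = 0) : N ^ n = ⊥ :=
  (Submodule.eq_bot_iff _).2 fun x hx => h.nondeg x (h.mem_of_mem_pow hn hx) (hl x hx) fun _ hy =>
    hl _ (h.pow_succ_le n hn (mul_mem_pow hx (mem_pow_one hy)))

theorem not_le_comms {n : ℕ} (hn : 1 ≤ n) (hne : N ^ n ≠ ⊥) : ¬ N ^ n ≤ comms N := fun hle =>
  hne (h.eq_bot_of_lam hn fun _ hx => h.lam_comms (hle hx))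

/-- The last non-zero power. -/
theorem exists_top {n : ℕ} (hn : 1 ≤ n) (hne : N ^ n ≠ ⊥) :
    ∃ L, n ≤ L ∧ N ^ L ≠ ⊥ ∧ N ^ (L + 1) = ⊥ := by
  classical
  obtain ⟨L, hL⟩ := h.nil
  have hex : ∃ j, n ≤ j ∧ N ^ (j + 1) = ⊥ := ⟨max n L, le_max_left _ _,
    le_bot_iff.1 ((h.pow_anti (by omega) (by omega : L + 1 ≤ max n L + 1)).trans hL.le)⟩
  obtain ⟨h1, h2⟩ := Nat.find_spec hex
  refine ⟨Nat.find hex, h1, fun h0 => ?_, h2⟩
  rcases eq_or_lt_of_le h1 with he | hlt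
  · exact hne (by rw [he]; exact h0)
  · have h3 : Nat.find hex - 1 + 1 = Nat.find hex := by omega
    exact Nat.find_min hex (m := Nat.find hex - 1) (by omega) ⟨by omega, by rw [h3]; exact h0⟩

theorem lam_mul_comms_eq_zero {w : 𝒜} (hw : ∀ a ∈ N, ∀ b ∈ N, lam (w * (a * b - b * a)) = 0)
    {k : 𝒜} (hk : k ∈ comms N) : lam (w * k) = 0 := by
  refine (Submodule.span_le.2 ?_ : comms N ≤ LinearMap.ker (lam.comp (LinearMap.mulLeft F w))) hk
  rintro _ ⟨a, ha, b, hb, rfl⟩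
  exact hw a ha b hb

variable [FiniteDimensional F 𝒜]

/-- A power annihilating another has small dimension. -/
theorem finrank_pow_add_le {a i : ℕ} (ha : 1 ≤ a) (hi : 1 ≤ i) (hbot : N ^ (a + i) = ⊥) :
    finrank F ↥(N ^ a) + finrank F ↥(N ^ i) ≤ finrank F N + 1 := by
  set W := Submodule.comap N.subtype (N ^ i) with hW
  have hWr : finrank F W = finrank F ↥(N ^ i) :=
    LinearEquiv.finrank_eq (Submodule.comapSubtypeEquivOfLe (h.pow_le hi))
  set Ψ : ↥(N ^ a) →ₗ[F] Module.Dual F ↥N :=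
    (((LinearMap.mul F 𝒜).compr₂ lam).compl₂ N.subtype).comp (N ^ a).subtype with hΨ
  have hle : LinearMap.range Ψ ≤ W.dualAnnihilator := by
    rintro _ ⟨x, rfl⟩
    refine (Submodule.mem_dualAnnihilator _).2 fun y hy => ?_
    show lam ((x : 𝒜) * y) = 0
    have h0 : (x : 𝒜) * y ∈ N ^ (a + i) := mul_mem_pow x.2 hy
    rw [hbot, Submodule.mem_bot] at h0
    rw [h0, map_zero]
  have hker : finrank F (LinearMap.ker Ψ) ≤ 1 := by
    refine (LinearMap.finrank_le_finrank_of_injective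
      (f := (lam.comp (N ^ a).subtype).comp (LinearMap.ker Ψ).subtype) ?_).trans
      (Module.finrank_self F).le
    intro x y hxy
    rw [← sub_eq_zero]
    refine Subtype.ext (Subtype.ext (h.nondeg _ (h.mem_of_mem_pow ha (x - y).1.2) ?_ fun z hz => ?_))
    · show lam (((x - y : LinearMap.ker Ψ) : ↥(N ^ a)) : 𝒜) = 0
      have hxy' : lam ((x : ↥(N ^ a)) : 𝒜) = lam ((y : ↥(N ^ a)) : 𝒜) := hxy
      simp [hxy']
    · exact LinearMap.congr_fun (LinearMap.mem_ker.1 (x - y).2) ⟨z, hz⟩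
  have h1 := Submodule.finrank_mono hle
  have h2 := Subspace.finrank_add_finrank_dualAnnihilator_eq W
  have h3 := LinearMap.finrank_range_add_finrank_ker Ψ
  omega

omit h in
theorem finrank_le_add {n : ℕ} {S : Finset 𝒜} (hle : N ^ n ≤ Submodule.span F S ⊔ N ^ (n + 1)) :
    finrank F ↥(N ^ n) ≤ S.card + finrank F ↥(N ^ (n + 1)) := by
  refine (Submodule.finrank_mono hle).trans ((Submodule.finrank_add_le_finrank_add_finrank _ _).trans
    (Nat.add_le_add_right ?_ _))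
  exact finrank_span_finset_le_card S

theorem sq_le_comms_sup {n : ℕ} (h3 : finrank F ↥(N ^ 2) + 3 ≤ finrank F N) (hn : 2 ≤ n)
    (hne : N ^ n ≠ ⊥) : N ^ 2 ≤ comms N ⊔ N ^ n := by
  have hle : comms N ⊔ N ^ n ≤ N ^ 2 := sup_le comms_le_sq (h.pow_anti (by omega) hn)
  have hlt : comms N < comms N ⊔ N ^ n :=
    lt_of_le_of_ne le_sup_left fun he => h.not_le_comms (by omega) hne (he ▸ le_sup_right)
  have h1 := Submodule.finrank_lt_finrank_of_lt hlt
  have h2 := h.codim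
  exact (Submodule.eq_of_le_of_finrank_le hle (by omega)).ge

theorem cube_le_comms_sup {n : ℕ} (h2 : finrank F ↥(N ^ 2) + 2 ≤ finrank F N)
    (hnot : ¬ N ^ 2 ≤ comms N ⊔ N ^ 3) (hn : 3 ≤ n) (hne : N ^ n ≠ ⊥) :
    N ^ 3 ≤ comms N ⊔ N ^ n := by
  have hle : comms N ⊔ N ^ n ≤ comms N ⊔ N ^ 3 := sup_le_sup_left (h.pow_anti (by omega) hn) _
  have hlt : comms N < comms N ⊔ N ^ n :=
    lt_of_le_of_ne le_sup_left fun he => h.not_le_comms (by omega) hne (he ▸ le_sup_right)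
  have hlt' : comms N ⊔ N ^ 3 < N ^ 2 :=
    lt_of_le_not_ge (sup_le comms_le_sq (h.pow_anti (by omega) (by omega))) hnot
  have e1 := Submodule.finrank_lt_finrank_of_lt hlt
  have e2 := Submodule.finrank_lt_finrank_of_lt hlt'
  have e3 := h.codim
  exact le_sup_right.trans (Submodule.eq_of_le_of_finrank_le hle (by omega)).ge

end Setting

end Cfsg.Agent.Blocks.FiveTraces
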