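import Cfsg.Agent.Lib.Blocks.FiveTraces.Layer

/-!
# Commutators of the radical from its generators
-/

set_option linter.unusedSectionVars false

namespace Cfsg.Agent.Blocks.FiveTraces

open Module
open scoped Pointwise

universe u v

variable {F : Type u} [Field F] {𝒜 : Type v} [Ring 𝒜] [Algebra F 𝒜]
  {lam : 𝒜 →ₗ[F] F} {N : Submodule F 𝒜}

theorem comm_mem_of_sup {S T : Set 𝒜} {A' B' U : Submodule F 𝒜} {a b : 𝒜}
    (ha : a ∈ Submodule.span F S ⊔ A') (hb : b ∈ Submodule.span F T ⊔ B')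
    (h1 : ∀ s ∈ S, ∀ t ∈ T, s * t - t * s ∈ U) (h2 : ∀ s ∈ S, ∀ t ∈ B', s * t - t * s ∈ U)
    (h3 : ∀ s ∈ A', ∀ t ∈ T, s * t - t * s ∈ U) (h4 : ∀ s ∈ A', ∀ t ∈ B', s * t - t * s ∈ U) :
    a * b - b * a ∈ U := by
  rw [← bracket_apply (F := F)]
  rw [← Submodule.span_eq A', ← Submodule.span_union] at ha
  rw [← Submodule.span_eq B', ← Submodule.span_union] at hb
  refine bilin_mem _ (fun s hs t ht => ?_) ha hb
  rw [bracket_apply]
  rcases hs with hs | hs <;> rcases ht with ht | ht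
  · exact h1 s hs t ht
  · exact h2 s hs t ht
  · exact h3 s hs t ht
  · exact h4 s hs t ht

theorem comm_flip_mem {U : Submodule F 𝒜} {a b : 𝒜} (h : b * a - a * b ∈ U) :
    a * b - b * a ∈ U := by
  have := U.neg_mem h
  rwa [neg_sub] at this

theorem comms_le_of_gens {X : Set 𝒜} {U : Submodule F 𝒜} (hX : N ≤ Submodule.span F X ⊔ N ^ 2)
    (h1 : ∀ s ∈ X, ∀ t ∈ X, s * t - t * s ∈ U) (hXN : ∀ s ∈ X, s ∈ N) (hN : N ^ 2 ≤ N)
    (h2 : ∀ a ∈ N, ∀ b ∈ N ^ 2, a * b - b * a ∈ U) : comms N ≤ U := by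
  refine Submodule.span_le.2 ?_
  rintro _ ⟨a, ha, b, hb, rfl⟩
  exact comm_mem_of_sup (hX ha) (hX hb) h1 (fun s hs t ht => h2 s (hXN s hs) t ht)
    (fun s hs t ht => comm_flip_mem (h2 t (hXN t ht) s hs))
    (fun s hs t ht => h2 s (hN hs) t ht)

theorem comm_sq_mem_of_gens {X G : Set 𝒜} {U : Submodule F 𝒜}
    (hX : N ≤ Submodule.span F X ⊔ N ^ 2) (hG : N ^ 2 ≤ Submodule.span F G ⊔ N ^ 3)
    (h1 : ∀ s ∈ X, ∀ g ∈ G, s * g - g * s ∈ U) (hXN : ∀ s ∈ X, s ∈ N) (hN : N ^ 2 ≤ N)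
    (h2 : ∀ a ∈ N, ∀ b ∈ N ^ 3, a * b - b * a ∈ U)
    (h3 : ∀ a ∈ N ^ 2, ∀ g ∈ G, a * g - g * a ∈ U) {a b : 𝒜} (ha : a ∈ N) (hb : b ∈ N ^ 2) :
    a * b - b * a ∈ U :=
  comm_mem_of_sup (hX ha) (hG hb) h1 (fun s hs t ht => h2 s (hXN s hs) t ht)
    (fun s hs t ht => h3 s hs t ht) (fun s hs t ht => h2 s (hN hs) t ht)

theorem mem_sup_of_cl {n : ℕ} {f z : 𝒜} {t : F} (h : cl N n z = t • cl N n f) :
    z ∈ (F ∙ f) ⊔ N ^ n := by
  rw [← map_smul, cl_eq_cl] at h
  exact Submodule.mem_sup.2 ⟨t • f, Submodule.smul_mem _ _ (Submodule.mem_span_singleton_self f),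
    _, h, add_sub_cancel _ _⟩

theorem exists_cl_of_mem_sup {n : ℕ} {S : Set 𝒜} {z : 𝒜} (h : z ∈ Submodule.span F S ⊔ N ^ n) :
    cl N n z ∈ Submodule.span F (cl N n '' S) := by
  obtain ⟨a, ha, b, hb, rfl⟩ := Submodule.mem_sup.1 h
  rw [map_add, cl_eq_zero.2 hb, add_zero, ← Submodule.map_span]
  exact Submodule.mem_map_of_mem ha

/-- More elements than spanning elements are dependent. -/
theorem exists_relation {n k : ℕ} {S : Finset 𝒜} (hS : S.card < k) (e : Fin k → 𝒜)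
    (he : ∀ i, e i ∈ Submodule.span F S ⊔ N ^ n) :
    ∃ t : Fin k → F, t ≠ 0 ∧ ∑ i, t i • cl N n (e i) = 0 := by
  classical
  set Q := Submodule.span F (cl N n '' (S : Set 𝒜))
  have hfin : Q = Submodule.span F ((S.image (cl N n) : Finset (𝒜 ⧸ N ^ n)) : Set (𝒜 ⧸ N ^ n)) := by
    rw [Finset.coe_image]
  haveI : FiniteDimensional F Q := FiniteDimensional.span_of_finite F (S.finite_toSet.image _)
  have hdep : ¬ LinearIndependent F (fun i => (⟨cl N n (e i), exists_cl_of_mem_sup (he i)⟩ : Q)) := by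
    intro hli
    have h1 := hli.fintype_card_le_finrank
    have h2 : finrank F Q ≤ S.card := by
      rw [hfin]
      exact (finrank_span_finset_le_card _).trans Finset.card_image_le
    rw [Fintype.card_fin] at h1
    omega
  rw [Fintype.not_linearIndependent_iff] at hdep
  obtain ⟨t, ht, i, hi⟩ := hdep
  refine ⟨t, fun h0 => hi (congrFun h0 i), ?_⟩
  have := congrArg Subtype.val ht
  rw [Submodule.coe_sum] at this
  simpa using this

/-- Independent elements modulo a power of the right number generate. -/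
theorem gens_of_indep [FiniteDimensional F 𝒜] (hN : N ^ 2 ≤ N) {k : ℕ} (e : Fin k → 𝒜)
    (he : ∀ i, e i ∈ N) (hk : finrank F N ≤ finrank F ↥(N ^ 2) + k)
    (hind : ∀ t : Fin k → F, ∑ i, t i • e i ∈ N ^ 2 → t = 0) :
    N ≤ Submodule.span F (Set.range e) ⊔ N ^ 2 := by
  set S := Submodule.span F (Set.range e)
  have hSN : S ≤ N := Submodule.span_le.2 (Set.range_subset_iff.2 he)
  have hli : LinearIndependent F e := by
    refine Fintype.linearIndependent_iff.2 fun t ht i => ?_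
    exact congrFun (hind t (by rw [ht]; exact Submodule.zero_mem _)) i
  have hinf : S ⊓ N ^ 2 = ⊥ := by
    refine (Submodule.eq_bot_iff _).2 ?_
    rintro x ⟨hx1, hx2⟩
    obtain ⟨t, rfl⟩ := (Submodule.mem_span_range_iff_exists_fun F).1 hx1
    simp [hind t hx2]
  have h1 := Submodule.finrank_sup_add_finrank_inf_eq S (N ^ 2)
  rw [hinf, finrank_bot, finrank_span_eq_card hli, Fintype.card_fin] at h1
  exact (Submodule.eq_of_le_of_finrank_le (sup_le hSN hN) (by omega)).ge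

namespace Setting

variable (h : Setting lam N)
include h

/-- If the commutators with the generators fill a line in degree three, the layer is a line. -/
theorem layer_three {x y f : 𝒜} {G : Set 𝒜} (hx : x ∈ N) (hy : y ∈ N)
    (hX : N ≤ Submodule.span F {x, y} ⊔ N ^ 2) (hG : N ^ 2 ≤ Submodule.span F G ⊔ N ^ 3)
    (hGN : ∀ g ∈ G, g ∈ N ^ 2) (hc : x * y - y * x ∉ N ^ 3) (hf : f ∈ N ^ 3)
    (hK : N ^ 3 ≤ comms N ⊔ N ^ 4)
    (hC : ∀ g ∈ G, (∃ t : F, cl N 4 (x * g - g * x) = t • cl N 4 f) ∧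
      ∃ t : F, cl N 4 (y * g - g * y) = t • cl N 4 f) :
    N ^ 3 ≤ (F ∙ f) ⊔ N ^ 4 := by
  have hle : comms N ≤ (F ∙ (x * y - y * x)) ⊔ ((F ∙ f) ⊔ N ^ 4) := by
    refine comms_le_of_gens hX ?_ ?_ (h.pow_le (by omega)) fun a ha b hb => ?_
    · rintro s (rfl | rfl) t (rfl | rfl)
      · simp
      · exact Submodule.mem_sup_left (Submodule.mem_span_singleton_self _)
      · exact comm_flip_mem (Submodule.mem_sup_left (Submodule.mem_span_singleton_self _))
      · simp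
    · rintro s (rfl | rfl) <;> assumption
    refine Submodule.mem_sup_right (comm_sq_mem_of_gens hX hG ?_ ?_ (h.pow_le (by omega)) ?_ ?_ ha hb)
    · rintro s (rfl | rfl) g hg
      · obtain ⟨t, ht⟩ := (hC g hg).1
        exact mem_sup_of_cl ht
      · obtain ⟨t, ht⟩ := (hC g hg).2
        exact mem_sup_of_cl ht
    · rintro s (rfl | rfl) <;> assumption
    · exact fun a ha b hb => Submodule.mem_sup_right ((N ^ 4).sub_mem
        (by simpa using mul_mem_pow (mem_pow_one ha) hb)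
        (mul_mem_pow hb (mem_pow_one ha)))
    · exact fun a ha g hg => Submodule.mem_sup_right ((N ^ 4).sub_mem
        (mul_mem_pow ha (hGN g hg)) (mul_mem_pow (hGN g hg) ha))
  intro z hz
  obtain ⟨k, hk, r, hr, rfl⟩ := Submodule.mem_sup.1 (hK hz)
  refine Submodule.add_mem _ ?_ (Submodule.mem_sup_right hr)
  obtain ⟨u, hu, w, hw, rfl⟩ := Submodule.mem_sup.1 (hle hk)
  obtain ⟨t, rfl⟩ := Submodule.mem_span_singleton.1 hu
  suffices ht : t = 0 by rwa [ht, zero_smul, zero_add]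
  by_contra ht
  refine hc ?_
  have hw3 : w ∈ N ^ 3 := (sup_le (by rwa [Submodule.span_singleton_le_iff_mem])
    (h.pow_anti (by omega) (by omega)) : (F ∙ f) ⊔ N ^ 4 ≤ N ^ 3) hw
  have h3 := (N ^ 3).sub_mem ((N ^ 3).sub_mem hz (h.pow_anti (by omega) (by omega) hr)) hw3
  rw [add_sub_cancel_right, add_sub_cancel_right] at h3
  have := (N ^ 3).smul_mem t⁻¹ h3
  rwa [smul_smul, inv_mul_cancel₀ ht, one_smul] at this

end Setting

end Cfsg.Agent.Blocks.FiveTraces
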