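import Cfsg.Agent.Lib.Blocks.FiveTraces.Main
import Cfsg.Agent.BlockCharsA.RankOneSmall.Lift

/-!
# Corners with at most five traces
-/

set_option linter.unusedSectionVars false

namespace Cfsg.Agent.Blocks.FiveTraces

open Module Cfsg.Agent.BlockCharsA.RankOneSmall

universe u v w

variable {F : Type u} [Field F] {𝒜 : Type v} [Ring 𝒜] [Algebra F 𝒜] {W : Type w}
  [AddCommGroup W] [Module F W]

/-- A corner with at most five traces has dimension at most fourteen. -/
theorem cornerBound_five [IsAlgClosed F] [FiniteDimensional F 𝒜] (e : 𝒜) (Φ : 𝒜 →ₗ[F] W) {k : ℕ}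
    (hk : k ≤ 5) : CornerBound F e Φ k 14 := by
  intro E A N CA L lam hEE _ hAmem hNA hNN hNL hE00 hres hCA hkerA hrA hlam htr hnd
  have hEA : E ∈ A := (hAmem E).2 ⟨hEE, hEE⟩
  -- commutators of the corner are commutators of its radical
  have hle : CA ≤ comms N := by
    rw [hCA]
    refine Submodule.span_le.2 ?_
    rintro _ ⟨⟨x, y⟩, rfl⟩
    obtain ⟨c, hc⟩ := hres x x.2
    obtain ⟨d, hd⟩ := hres y y.2
    obtain ⟨hx1, hx2⟩ := (hAmem x).1 x.2
    obtain ⟨hy1, hy2⟩ := (hAmem y).1 y.2
    have hre : (x : 𝒜) * y - y * x =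
        ((x : 𝒜) - c • E) * (y - d • E) - (y - d • E) * (x - c • E) := by
      simp only [sub_mul, mul_sub, smul_mul_assoc, mul_smul_comm, hEE, hx1, hx2, hy1, hy2,
        smul_sub, smul_smul]
      module
    show (x : 𝒜) * y - y * x ∈ comms N
    rw [hre]
    exact comm_mem_comms hc hd
  have hge : comms N ≤ CA := by
    rw [hCA]
    refine Submodule.span_le.2 ?_
    rintro _ ⟨a, ha, b, hb, rfl⟩
    exact Submodule.subset_span ⟨(⟨a, hNA ha⟩, ⟨b, hNA hb⟩), rfl⟩
  -- the corner splits
  have hsplit : finrank F A = finrank F N + 1 := by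
    have hE0 : E ≠ 0 := fun h0 => one_ne_zero (hE00 1 (by rw [h0, smul_zero]; exact N.zero_mem))
    have hinf : N ⊓ (F ∙ E) = ⊥ := by
      refine (Submodule.eq_bot_iff _).2 ?_
      rintro x ⟨hxN, hxE⟩
      obtain ⟨c, rfl⟩ := Submodule.mem_span_singleton.1 hxE
      rw [hE00 c hxN, zero_smul]
    have hsup : N ⊔ (F ∙ E) = A := by
      refine le_antisymm (sup_le hNA (by rwa [Submodule.span_singleton_le_iff_mem])) fun x hx => ?_
      obtain ⟨c, hc⟩ := hres x hx
      exact Submodule.mem_sup.2 ⟨_, hc, c • E,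
        Submodule.smul_mem _ _ (Submodule.mem_span_singleton_self E), sub_add_cancel _ _⟩
    have := Submodule.finrank_sup_add_finrank_inf_eq N (F ∙ E)
    rw [hinf, hsup, finrank_bot, finrank_span_singleton hE0] at this
    omega
  -- the traces
  have hdim : finrank F A ≤ k + finrank F CA := by
    have h1 := LinearMap.finrank_range_add_finrank_ker (Φ.domRestrict A)
    rw [LinearMap.range_domRestrict] at h1
    have h2 : finrank F (LinearMap.ker (Φ.domRestrict A)) ≤ finrank F CA := by
      refine LinearMap.finrank_le_finrank_of_injective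
        (f := (A.subtype.comp (LinearMap.ker (Φ.domRestrict A)).subtype).codRestrict CA
          fun x => hkerA _ x.1.2 (LinearMap.mem_ker.1 x.2)) fun x y hxy => ?_
      exact Subtype.ext (Subtype.ext (congrArg (fun z : CA => (z : 𝒜)) hxy))
    omega
  have hset : Setting lam N := by
    refine ⟨hNN, ⟨L, hNL⟩, htr, fun x hx hlx hxN => hnd x (hNA hx) fun y hy => ?_, ?_⟩
    · obtain ⟨c, hc⟩ := hres y hy
      have h0 := hxN _ hc
      rwa [mul_sub, mul_smul_comm, ((hAmem x).1 (hNA hx)).2, map_sub, map_smul, hlx, smul_zero,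
        sub_zero] at h0
    · rw [le_antisymm hle hge] at hdim
      omega
  have := hset.finrank_le
  omega

end Cfsg.Agent.Blocks.FiveTraces
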