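import Cfsg.Agent.BlockCharsA.TwoChars.Algebra

/-!
# A twisted product on a three-dimensional algebra
-/

set_option linter.unusedSectionVars false

namespace Cfsg.Agent.Blocks.FiveTraces

open Module

universe u v

variable {F : Type u} [Field F] {V : Type v} [AddCommGroup V] [Module F V]

/-- A character of a bilinear product with unit. -/
structure IsChar (m : V →ₗ[F] V →ₗ[F] V) (one : V) (χ : V →ₗ[F] F) : Prop where
  map_one : χ one = 1
  map_mul : ∀ a b, χ (m a b) = χ a * χ b

/-- An associative product with unit in dimension at most three has a character. -/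
theorem exists_char [IsAlgClosed F] [FiniteDimensional F V] (hV : finrank F V ≤ 3)
    {one : V} (hne : one ≠ 0) (m : V →ₗ[F] V →ₗ[F] V)
    (assoc : ∀ a b c, m (m a b) c = m a (m b c)) (h1m : ∀ a, m one a = a) :
    ∃ χ, IsChar m one χ := by
  classical
  set A : Subalgebra F (Module.End F V) := (LinearMap.range m).toSubalgebra
    ⟨one, LinearMap.ext h1m⟩
    (by
      rintro _ _ ⟨a, rfl⟩ ⟨b, rfl⟩
      exact ⟨m a b, LinearMap.ext fun c => assoc a b c⟩) with hA
  set L : V →ₗ[F] A := m.codRestrict A.toSubmodule (fun a => ⟨a, rfl⟩) with hL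
  have hLs : Function.Surjective L := by
    rintro ⟨x, a, rfl⟩
    exact ⟨a, rfl⟩
  haveI : FiniteDimensional F A := Module.Finite.of_surjective L hLs
  have hdim : finrank F A ≤ 3 := by
    have := LinearMap.finrank_range_add_finrank_ker L
    rw [LinearMap.range_eq_top.2 hLs, finrank_top] at this
    omega
  have hLone : L one = 1 := Subtype.ext (LinearMap.ext h1m)
  have hLmul : ∀ a b, L (m a b) = L a * L b := fun a b =>
    Subtype.ext (LinearMap.ext fun c => assoc a b c)
  haveI : Nontrivial V := ⟨⟨one, 0, hne⟩⟩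
  haveI : Nontrivial A := ⟨⟨1, 0, fun h => hne (by
    have := LinearMap.congr_fun (congrArg Subtype.val h) one
    simpa using this)⟩⟩
  obtain ⟨s, n, hn, π, hsurj, hker, -⟩ := BlockCharsA.TwoChars.exists_pi_map (F := F) (𝒜 := A)
  rcases Nat.eq_zero_or_pos s with rfl | hs
  · exfalso
    have h1 : (1 : A) ∈ Ring.jacobson A := hker 1 (funext fun i => i.elim0)
    haveI : IsArtinianRing A := IsArtinianRing.of_finite F A
    obtain ⟨L, hL⟩ := IsSemiprimaryRing.isNilpotent (R := A)
    have := Ideal.pow_mem_pow h1 L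
    rw [hL, one_pow] at this
    exact one_ne_zero this
  set i : Fin s := ⟨0, hs⟩
  haveI := hn i
  have hn1 : n i = 1 := by
    set f := ((LinearMap.proj i).comp π.toLinearMap :
      A →ₗ[F] Matrix (Fin (n i)) (Fin (n i)) F) with hf
    have hfs : Function.Surjective f := fun Y => by
      obtain ⟨y, hy⟩ := hsurj (Pi.single i Y)
      exact ⟨y, show π y i = Y by rw [hy, Pi.single_eq_same]⟩
    have := LinearMap.finrank_range_add_finrank_ker f
    rw [LinearMap.range_eq_top.2 hfs, finrank_top, Module.finrank_matrix, Fintype.card_fin,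
      Module.finrank_self, mul_one] at this
    have h0 := (hn i).out
    rcases (by omega : n i = 1 ∨ 2 ≤ n i) with h1 | h1
    · exact h1
    · have := Nat.mul_le_mul h1 h1
      omega
  haveI : Subsingleton (Fin (n i)) := by rw [hn1]; infer_instance
  refine ⟨((Matrix.entryLinearMap F F (0 : Fin (n i)) (0 : Fin (n i))).comp
    ((LinearMap.proj i).comp π.toLinearMap)).comp L, ⟨?_, fun a b => ?_⟩⟩
  · show π (L one) i 0 0 = 1
    rw [hLone, map_one, Pi.one_apply, Matrix.one_apply_eq]
  · show π (L (m a b)) i 0 0 = π (L a) i 0 0 * π (L b) i 0 0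
    rw [hLmul, map_mul, Pi.mul_apply, Matrix.mul_apply, Fintype.sum_subsingleton _ (0 : Fin (n i))]

theorem IsChar.pair {m : V →ₗ[F] V →ₗ[F] V} {one : V} {χ ψ : V →ₗ[F] F} (hχ : IsChar m one χ)
    (hψ : IsChar m one ψ) (hne : χ ≠ ψ) {a b : F} (h : ∀ v, a * χ v + b * ψ v = 0) :
    a = 0 ∧ b = 0 := by
  obtain ⟨v, hv⟩ : ∃ v, χ v ≠ ψ v := by
    by_contra hn
    push Not at hn
    exact hne (LinearMap.ext hn)
  have h1 := h one
  rw [hχ.map_one, hψ.map_one, mul_one, mul_one] at h1
  have h2 : a * (χ v - ψ v) = 0 := by linear_combination h v - ψ v * h1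
  have ha := (mul_eq_zero.1 h2).resolve_right (sub_ne_zero.2 hv)
  exact ⟨ha, by linear_combination h1 - ha⟩

theorem IsChar.triple {m : V →ₗ[F] V →ₗ[F] V} {one : V} {χ ψ ω : V →ₗ[F] F}
    (hχ : IsChar m one χ) (hψ : IsChar m one ψ) (hω : IsChar m one ω) (h1 : χ ≠ ψ) (h2 : χ ≠ ω)
    (h3 : ψ ≠ ω) {a b c : F} (h : ∀ v, a * χ v + b * ψ v + c * ω v = 0) :
    a = 0 ∧ b = 0 ∧ c = 0 := by
  obtain ⟨x, hx⟩ : ∃ v, χ v ≠ ψ v := by
    by_contra hn
    push Not at hn
    exact h1 (LinearMap.ext hn)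
  have hbc := hψ.pair hω h3 (a := b * (ψ x - χ x)) (b := c * (ω x - χ x)) fun v => by
    have := h (m x v)
    rw [hχ.map_mul, hψ.map_mul, hω.map_mul] at this
    linear_combination this - χ x * h v
  have hb : b = 0 := (mul_eq_zero.1 hbc.1).resolve_right (sub_ne_zero.2 (Ne.symm hx))
  have hac := hχ.pair hω h2 (a := a) (b := c) fun v => by
    linear_combination h v - ψ v * hb
  exact ⟨hac.1, hb, hac.2⟩

/-- If the twisted commutators span, the twist permutes three characters cyclically. -/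
theorem exists_cyclic_form [IsAlgClosed F] [FiniteDimensional F V] (hV : finrank F V = 3) (one : V)
    (m : V →ₗ[F] V →ₗ[F] V) (assoc : ∀ a b c, m (m a b) c = m a (m b c))
    (h1m : ∀ a, m one a = a) (hm1 : ∀ a, m a one = a) (θ : V ≃ₗ[F] V)
    (hθ : ∀ a b, θ (m a b) = m (θ a) (θ b))
    (hspan : ∀ U : Submodule F V, (∀ v w, m (θ v) w - m (θ w) v ∈ U) → U = ⊤) :
    ∃ φ : V →ₗ[F] F, φ ≠ 0 ∧ ∀ v w, φ (m (θ (θ v)) w) = φ (m (θ w) v) := by
  classical
  haveI : Nontrivial V := Module.nontrivial_of_finrank_pos (R := F) (by omega)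
  have hne : one ≠ 0 := fun h0 => by
    obtain ⟨v, hv⟩ := exists_ne (0 : V)
    exact hv (by rw [← h1m v, h0, map_zero, LinearMap.zero_apply])
  have hθ1 : θ one = one := by
    have h := hθ one (θ.symm one)
    rw [h1m, θ.apply_symm_apply, hm1] at h
    exact h.symm
  have hfix : ∀ χ, IsChar m one χ → χ.comp θ.toLinearMap ≠ χ := by
    intro χ hχ he
    have hU := hspan (LinearMap.ker χ) fun v w => by
      rw [LinearMap.mem_ker, map_sub, hχ.map_mul, hχ.map_mul,
        show χ (θ v) = χ v from LinearMap.congr_fun he v,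
        show χ (θ w) = χ w from LinearMap.congr_fun he w, mul_comm (χ v), sub_self]
    have h1 : one ∈ LinearMap.ker χ := hU ▸ Submodule.mem_top
    rw [LinearMap.mem_ker, hχ.map_one] at h1
    exact one_ne_zero h1
  have hcomp : ∀ χ, IsChar m one χ → IsChar m one (χ.comp θ.toLinearMap) := fun χ hχ =>
    ⟨by show χ (θ one) = 1; rw [hθ1, hχ.map_one],
      fun a b => by show χ (θ (m a b)) = χ (θ a) * χ (θ b); rw [hθ, hχ.map_mul]⟩
  obtain ⟨χ, hχ⟩ := exists_char hV.le hne m assoc h1m
  set χ₁ := χ.comp θ.toLinearMap with hχ₁d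
  set χ₂ := χ₁.comp θ.toLinearMap with hχ₂d
  have hχ₁ : IsChar m one χ₁ := hcomp χ hχ
  have hχ₂ : IsChar m one χ₂ := hcomp _ hχ₁
  have h01 : χ ≠ χ₁ := fun h => hfix χ hχ h.symm
  have h12 : χ₁ ≠ χ₂ := fun h => hfix χ₁ hχ₁ h.symm
  by_cases h02 : χ = χ₂
  · -- the common kernel is a stable line
    exfalso
    set Ψ := χ.prod χ₁ with hΨ
    have hΨs : LinearMap.range Ψ = ⊤ := by
      obtain ⟨v, hv⟩ : ∃ v, χ v ≠ χ₁ v := by
        by_contra hn
        push Not at hn
        exact h01 (LinearMap.ext hn)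
      refine LinearMap.range_eq_top.2 fun p => ?_
      have hd : χ v - χ₁ v ≠ 0 := sub_ne_zero.2 hv
      refine ⟨((p.1 - p.2) / (χ v - χ₁ v)) • (v - χ₁ v • one) + p.2 • one, ?_⟩
      refine Prod.ext ?_ ?_
      · show χ _ = _
        simp only [map_add, map_smul, map_sub, hχ.map_one, smul_eq_mul]
        field_simp
        ring
      · show χ₁ _ = _
        simp only [map_add, map_smul, map_sub, hχ₁.map_one, smul_eq_mul]
        ring
    have hR := LinearMap.finrank_range_add_finrank_ker Ψ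
    rw [hΨs, finrank_top, Module.finrank_prod, Module.finrank_self, hV] at hR
    obtain ⟨⟨r, hr⟩, hr0, hgen⟩ :=
      finrank_eq_one_iff'.1 (show finrank F (LinearMap.ker Ψ) = 1 by omega)
    have hr0' : r ≠ 0 := fun h => hr0 (Subtype.ext h)
    have hmem : ∀ w, χ w = 0 → χ₁ w = 0 → ∃ t : F, w = t • r := fun w h0 h1 => by
      obtain ⟨t, ht⟩ := hgen ⟨w, by rw [LinearMap.mem_ker]; exact Prod.ext h0 h1⟩
      exact ⟨t, (congrArg Subtype.val ht).symm⟩
    have hr1 : χ r = 0 := congrArg Prod.fst (LinearMap.mem_ker.1 hr)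
    have hr2 : χ₁ r = 0 := congrArg Prod.snd (LinearMap.mem_ker.1 hr)
    obtain ⟨f, hf⟩ : ∃ f : Module.Dual F V, f r ≠ 0 := by
      by_contra hn
      push Not at hn
      exact hr0' ((Module.forall_dual_apply_eq_zero_iff F r).1 hn)
    set ε : V →ₗ[F] F := (f r)⁻¹ • f.comp (m.flip r) with hεd
    have hε : ∀ a, m a r = ε a • r := by
      intro a
      obtain ⟨t, ht⟩ := hmem (m a r) (by rw [hχ.map_mul, hr1, mul_zero])
        (by rw [hχ₁.map_mul, hr2, mul_zero])
      have : ε a = t := by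
        show (f r)⁻¹ * f (m a r) = t
        rw [ht, map_smul, smul_eq_mul, mul_left_comm, inv_mul_cancel₀ hf, mul_one]
      rw [this, ht]
    have hεc : IsChar m one ε := by
      refine ⟨?_, fun a b => ?_⟩
      · refine smul_left_injective F hr0' ?_
        show ε one • r = (1 : F) • r
        rw [← hε, h1m, one_smul]
      · refine smul_left_injective F hr0' ?_
        show ε (m a b) • r = (ε a * ε b) • r
        rw [← hε, assoc, hε b, map_smul, hε a, smul_smul, mul_comm]
    obtain ⟨μ, hμ⟩ := hmem (θ r) hr2 (by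
      show χ₂ r = 0
      rw [← h02, hr1])
    have hμ0 : μ ≠ 0 := fun h => hr0' (θ.injective (by rw [hμ, h, zero_smul, map_zero]))
    refine hfix ε hεc (LinearMap.ext fun a => ?_)
    show ε (θ a) = ε a
    refine smul_left_injective F (smul_ne_zero hμ0 hr0') ?_
    show ε (θ a) • μ • r = ε a • μ • r
    rw [smul_comm, ← hε, ← map_smul, ← hμ, ← hθ, hε, map_smul, hμ]
  -- three characters
  set Ψ : V →ₗ[F] (Fin 3 → F) := LinearMap.pi ![χ, χ₁, χ₂] with hΨ
  have hΨs : Function.Surjective Ψ := by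
    rw [← LinearMap.range_eq_top]
    by_contra hne'
    obtain ⟨g, hg, hgz⟩ := Submodule.exists_dual_map_eq_bot_of_lt_top (Ne.lt_top hne') inferInstance
    have hg' : ∀ v, g (Ψ v) = 0 := fun v => by
      have : g (Ψ v) ∈ (LinearMap.range Ψ).map g := Submodule.mem_map_of_mem ⟨v, rfl⟩
      rwa [hgz, Submodule.mem_bot] at this
    have hexp : ∀ p : Fin 3 → F, g p =
        g (Pi.single 0 1) * p 0 + g (Pi.single 1 1) * p 1 + g (Pi.single 2 1) * p 2 := fun p => by
      have hp : p = p 0 • Pi.single 0 1 + p 1 • Pi.single 1 1 + p 2 • Pi.single 2 1 := by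
        funext i; fin_cases i <;> simp
      conv_lhs => rw [hp]
      simp only [map_add, map_smul, smul_eq_mul]
      ring
    obtain ⟨g0, g1, g2⟩ := hχ.triple hχ₁ hχ₂ h01 h02 h12
      (fun v => by have := hg' v; rw [hexp] at this; exact this)
    exact hg (LinearMap.ext fun p => by rw [hexp, g0, g1, g2]; simp)
  have hΨi : Function.Injective Ψ := by
    have := (LinearMap.injective_iff_surjective_of_finrank_eq_finrank
      (f := Ψ) (by rw [hV, Module.finrank_fin_fun])).2 hΨs
    exact this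
  choose e he using fun i : Fin 3 => hΨs (Pi.single i 1)
  have hc : ∀ i j, ![χ, χ₁, χ₂] i (e j) = if i = j then 1 else 0 := fun i j => by
    have := congrFun (he j) i
    rw [Pi.single_apply] at this
    exact this
  have hdec : ∀ v, v = χ v • e 0 + χ₁ v • e 1 + χ₂ v • e 2 := fun v => by
    refine hΨi ?_
    simp only [map_add, map_smul, he]
    funext i
    fin_cases i <;> simp [hΨ]
  have hχ₃ : χ₂.comp θ.toLinearMap = χ := by
    set χ₃ := χ₂.comp θ.toLinearMap with hχ₃d
    have hχ₃ : IsChar m one χ₃ := hcomp _ hχ₂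
    have h31 : χ₃ ≠ χ₁ := fun h => h02 (LinearMap.ext fun v => by
      have := LinearMap.congr_fun h (θ.symm v)
      simpa [hχ₁d, hχ₂d, hχ₃d] using this.symm)
    have h32 : χ₃ ≠ χ₂ := fun h => hfix χ₂ hχ₂ h
    have hsq : ∀ i, χ₃ (e i) = 0 ∨ χ₃ (e i) = 1 := fun i => by
      have hee : m (e i) (e i) = e i := by
        refine hΨi (funext fun j => ?_)
        fin_cases j
        · show χ (m (e i) (e i)) = χ (e i)
          rw [hχ.map_mul, show χ (e i) = _ from hc 0 i]
          split_ifs <;> simp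
        · show χ₁ (m (e i) (e i)) = χ₁ (e i)
          rw [hχ₁.map_mul, show χ₁ (e i) = _ from hc 1 i]
          split_ifs <;> simp
        · show χ₂ (m (e i) (e i)) = χ₂ (e i)
          rw [hχ₂.map_mul, show χ₂ (e i) = _ from hc 2 i]
          split_ifs <;> simp
      have := hχ₃.map_mul (e i) (e i)
      rw [hee] at this
      rcases mul_eq_zero.1 (show χ₃ (e i) * (χ₃ (e i) - 1) = 0 by linear_combination -1 * this)
        with h | h
      · exact Or.inl h
      · exact Or.inr (sub_eq_zero.1 h)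
    have hlin : ∀ v, χ₃ v = χ v * χ₃ (e 0) + χ₁ v * χ₃ (e 1) + χ₂ v * χ₃ (e 2) := fun v => by
      conv_lhs => rw [hdec v]
      simp
    have horth : ∀ i j, i ≠ j → χ₃ (e i) * χ₃ (e j) = 0 := fun i j hij => by
      rw [← hχ₃.map_mul, hlin, hχ.map_mul, hχ₁.map_mul, hχ₂.map_mul,
        show ∀ l, χ (e l) = _ from hc 0, show ∀ l, χ₁ (e l) = _ from hc 1,
        show ∀ l, χ₂ (e l) = _ from hc 2, show ∀ l, χ (e l) = _ from hc 0,
        show ∀ l, χ₁ (e l) = _ from hc 1, show ∀ l, χ₂ (e l) = _ from hc 2]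
      fin_cases i <;> fin_cases j <;> simp at hij ⊢
    rcases hsq 1 with h1 | h1
    · rcases hsq 2 with h2 | h2
      · have h0 : χ₃ (e 0) = 1 := by
          have := hlin one
          rw [hχ₃.map_one, hχ.map_one, h1, h2] at this
          simpa using this.symm
        exact LinearMap.ext fun v => by rw [hlin, h0, h1, h2]; ring
      · have h0 := horth 0 2 (by decide)
        rw [h2, mul_one] at h0
        exact absurd (LinearMap.ext fun v => by rw [hlin, h0, h1, h2]; ring) h32
    · have h0 := horth 0 1 (by decide)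
      have h2 := horth 2 1 (by decide)
      rw [h1, mul_one] at h0 h2
      exact absurd (LinearMap.ext fun v => by rw [hlin, h0, h1, h2]; ring) h31
  refine ⟨χ + χ₁ + χ₂, fun h0 => ?_, fun v w => ?_⟩
  · have := (hχ.triple hχ₁ hχ₂ h01 h02 h12 (a := 1) (b := 1) (c := 1) (fun v => by
      simpa using LinearMap.congr_fun h0 v)).1
    exact one_ne_zero this
  · have e0 : ∀ x, χ (θ x) = χ₁ x := fun x => rfl
    have e1 : ∀ x, χ₁ (θ x) = χ₂ x := fun x => rfl
    have e2 : ∀ x, χ₂ (θ x) = χ x := LinearMap.congr_fun hχ₃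
    simp only [LinearMap.add_apply, hχ.map_mul, hχ₁.map_mul, hχ₂.map_mul, e0, e1, e2]
    ring

end Cfsg.Agent.Blocks.FiveTraces
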