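import Mathlib

/-!
# Automorphisms of odd order of abelian groups of order eight
-/

set_option linter.style.haveILetI false
set_option linter.unusedSectionVars false

namespace Cfsg.Agent.Blocks.FiveTraces.Eight

variable {V : Type*} [Group V] [Finite V]

/-- The fixed subgroup of an automorphism. -/
def fixedBy (α : MulAut V) : Subgroup V where
  carrier := {v | α v = v}
  mul_mem' {a b} ha hb := by
    show α (a * b) = a * b
    rw [map_mul, ha, hb]
  one_mem' := map_one α
  inv_mem' {a} ha := by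
    show α a⁻¹ = a⁻¹
    rw [map_inv, ha]

theorem mem_fixedBy {α : MulAut V} {v : V} : v ∈ fixedBy α ↔ α v = v := Iff.rfl

/-- An automorphism of odd prime order has one or two fixed points. -/
theorem prime_order (h8 : Nat.card V = 8) {α : MulAut V} {q : ℕ} (hq : q.Prime) (hq2 : q ≠ 2)
    (hα : orderOf α = q) :
    (q = 3 ∧ Nat.card (fixedBy α) = 2) ∨ (q = 7 ∧ Nat.card (fixedBy α) = 1) := by
  haveI := Fact.mk hq
  have hpg : IsPGroup q (Subgroup.zpowers α) := IsPGroup.of_card (n := 1) (by
    rw [Nat.card_zpowers, hα, pow_one])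
  have hmod := hpg.card_modEq_card_fixedPoints V
  have hfix : Nat.card (MulAction.fixedPoints (Subgroup.zpowers α) V) =
      Nat.card (fixedBy α) := by
    refine Nat.card_congr (Equiv.subtypeEquivRight fun v => ?_)
    constructor
    · intro hv
      exact hv ⟨α, Subgroup.mem_zpowers α⟩
    · intro hv
      rintro ⟨β, hβ⟩
      exact MulAction.mem_stabilizer_iff.1
        ((Subgroup.zpowers_le.2 (show α ∈ MulAction.stabilizer (MulAut V) v from hv)) hβ)
  rw [hfix, h8] at hmod
  have hne : Nat.card (fixedBy α) ≠ 8 := by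
    intro h
    have htop := Subgroup.eq_top_of_card_eq _ (h.trans h8.symm)
    have hα1 : α = 1 := MulEquiv.ext fun v => mem_fixedBy.1 (htop.ge (Subgroup.mem_top v))
    rw [hα1, orderOf_one] at hα
    exact hq.ne_one hα.symm
  have hdvd : Nat.card (fixedBy α) ∈ Nat.divisors 8 :=
    Nat.mem_divisors.2 ⟨h8 ▸ Subgroup.card_subgroup_dvd_card _, by norm_num⟩
  rw [show Nat.divisors 8 = {1, 2, 4, 8} from rfl] at hdvd
  simp only [Finset.mem_insert, Finset.mem_singleton] at hdvd
  have hq1 := hq.two_le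
  rcases hdvd with h | h | h | h
  · rw [h] at hmod
    have hd := (Nat.modEq_iff_dvd' (by norm_num)).1 hmod.symm
    exact Or.inr ⟨((Nat.dvd_prime (by norm_num : Nat.Prime 7)).1 hd).resolve_left hq.ne_one, h⟩
  · rw [h] at hmod
    have hd := (Nat.modEq_iff_dvd' (by norm_num)).1 hmod.symm
    have hle := Nat.le_of_dvd (by norm_num) hd
    norm_num at hd hle
    interval_cases q
    · exact absurd rfl hq2
    · exact Or.inl ⟨rfl, h⟩
    all_goals (first | (norm_num at hq; done) | omega)
  · rw [h] at hmod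
    have hd := (Nat.modEq_iff_dvd' (by norm_num)).1 hmod.symm
    have hle := Nat.le_of_dvd (by norm_num) hd
    norm_num at hd hle
    interval_cases q
    · exact absurd rfl hq2
    all_goals (first | (norm_num at hq; done) | omega)
  · exact absurd h hne

/-- The fixed point of an automorphism of order three. -/
theorem exists_fixed_three (h8 : Nat.card V = 8) {α : MulAut V} (hα : orderOf α = 3) :
    ∃ z : V, z ≠ 1 ∧ α z = z ∧ ∀ v, α v = v → v = 1 ∨ v = z := by
  rcases prime_order h8 Nat.prime_three (by norm_num) hα with ⟨-, h⟩ | ⟨h, -⟩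
  · obtain ⟨x, y, hxy, huniv⟩ := Nat.card_eq_two_iff.1 h
    have hall : ∀ w : fixedBy α, w = x ∨ w = y := fun w => by
      have := huniv ▸ Set.mem_univ w
      simpa using this
    rcases hall 1 with h1 | h1
    · refine ⟨y, fun hy => hxy (h1 ▸ Subtype.ext hy.symm), y.2, fun v hv => ?_⟩
      rcases hall ⟨v, hv⟩ with h2 | h2
      · exact Or.inl (congrArg Subtype.val (h2.trans h1.symm))
      · exact Or.inr (congrArg Subtype.val h2)
    · refine ⟨x, fun hx => hxy (h1 ▸ Subtype.ext hx), x.2, fun v hv => ?_⟩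
      rcases hall ⟨v, hv⟩ with h2 | h2
      · exact Or.inr (congrArg Subtype.val h2)
      · exact Or.inl (congrArg Subtype.val (h2.trans h1.symm))
  · norm_num at h

/-- An automorphism of order seven fixes only the identity. -/
theorem eq_one_of_fixed_seven (h8 : Nat.card V = 8) {α : MulAut V} (hα : orderOf α = 7) {v : V}
    (hv : α v = v) : v = 1 := by
  rcases prime_order h8 (by norm_num) (by norm_num) hα with ⟨h, -⟩ | ⟨-, h⟩
  · norm_num at h
  · have := Subgroup.eq_bot_of_card_eq _ h ▸ (show v ∈ fixedBy α from hv)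
    exact Subgroup.mem_bot.1 this

/-- A subgroup fixing a non-trivial element has no element of order seven. -/
theorem not_seven_dvd_fix (h8 : Nat.card V = 8) (H : Subgroup (MulAut V)) {v : V} (hv : v ≠ 1)
    (hfix : ∀ β ∈ H, β v = v) : ¬ 7 ∣ Nat.card H := by
  intro h
  haveI : Fact (Nat.Prime 7) := ⟨by norm_num⟩
  obtain ⟨β, hβ⟩ := exists_prime_orderOf_dvd_card' (G := H) 7 h
  exact hv (eq_one_of_fixed_seven h8 (α := β) (by rwa [Subgroup.orderOf_coe]) (hfix β β.2))

/-- The order of an odd group of automorphisms divides twenty-one. -/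
theorem card_dvd (h8 : Nat.card V = 8) (H : Subgroup (MulAut V)) (hodd : ¬ 2 ∣ Nat.card H) :
    Nat.card H ∣ 21 := by
  classical
  haveI := Fintype.ofFinite V
  refine (Nat.dvd_iff_prime_pow_dvd_dvd 21 (Nat.card H)).2 fun q k hq hk => ?_
  rcases Nat.eq_zero_or_pos k with rfl | hk0
  · simp
  have hq2 : q ≠ 2 := fun h => hodd (h ▸ (dvd_pow_self q hk0.ne').trans hk)
  haveI := Fact.mk hq
  obtain ⟨β, hβ⟩ := exists_prime_orderOf_dvd_card' (G := H) q ((dvd_pow_self q hk0.ne').trans hk)
  have hcase := prime_order h8 hq hq2 (α := β) (by rwa [Subgroup.orderOf_coe])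
  suffices hk1 : ¬ q ^ 2 ∣ Nat.card H by
    have : k = 1 := by
      by_contra hne
      exact hk1 ((pow_dvd_pow q (by omega)).trans hk)
    subst this
    rcases hcase with ⟨rfl, -⟩ | ⟨rfl, -⟩ <;> norm_num
  intro h2
  obtain ⟨A, hA⟩ := Sylow.exists_subgroup_card_pow_prime q (G := H) h2
  have hAp : IsPGroup q A := IsPGroup.of_card hA
  set A' : Subgroup (MulAut V) := A.map H.subtype
  have hA' : Nat.card A' = q ^ 2 := by
    rw [← hA]
    exact Nat.card_congr (A.equivMapOfInjective _ H.subtype_injective).toEquiv.symm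
  have hA'p : IsPGroup q A' := IsPGroup.of_card hA'
  -- the nontrivial elements
  have hmod := hA'p.card_modEq_card_fixedPoints V
  have horb : ∀ v : V, v ≠ 1 → ∃ γ ∈ A', γ ≠ 1 ∧ γ v = v := by
    intro v hv
    by_contra hno
    push Not at hno
    have hinj : Function.Injective fun γ : A' => (γ : MulAut V) v := by
      intro γ δ hγδ
      have h0 : ((γ⁻¹ * δ : A') : MulAut V) v = v := by
        show (γ : MulAut V)⁻¹ ((δ : MulAut V) v) = v
        rw [← show (γ : MulAut V) v = (δ : MulAut V) v from hγδ]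
        exact (γ : MulAut V).symm_apply_apply v
      have h1 : ((γ⁻¹ * δ : A') : MulAut V) = 1 := by
        by_contra hne
        exact hno _ (γ⁻¹ * δ).2 hne h0
      exact inv_mul_eq_one.1 (Subtype.ext h1)
    have h1 := Nat.card_le_card_of_injective _ hinj
    rw [hA', h8] at h1
    rcases hcase with ⟨rfl, -⟩ | ⟨rfl, -⟩ <;> norm_num at h1
  rcases hcase with ⟨rfl, -⟩ | ⟨rfl, -⟩
  · -- a common fixed element
    obtain ⟨z, hz, hzf⟩ : ∃ z : V, z ≠ 1 ∧ z ∈ MulAction.fixedPoints A' V := by
      by_contra hno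
      push Not at hno
      have hone : MulAction.fixedPoints A' V = {1} := by
        ext v
        refine ⟨fun hv => ?_, ?_⟩
        · by_contra hne
          exact hno v hne hv
        · rintro rfl γ
          exact map_one (γ : MulAut V)
      rw [hone, h8, Nat.card_unique] at hmod
      exact absurd hmod (by decide)
    -- an element of order three with two fixed points only
    have hcard3 : ∀ γ ∈ A', γ ≠ 1 → ∀ v, γ v = v → v = 1 ∨ v = z := by
      intro γ hγ hγ1 v hv
      obtain ⟨j, hj, hjo⟩ := (Nat.dvd_prime_pow Nat.prime_three).1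
        (hA' ▸ (Subgroup.orderOf_coe (⟨γ, hγ⟩ : A')).symm ▸ orderOf_dvd_natCard (⟨γ, hγ⟩ : A'))
      have hpow : ∀ n : ℕ, (γ ^ n) v = v := fun n => MulAction.mem_stabilizer_iff.1
        (pow_mem (show γ ∈ MulAction.stabilizer (MulAut V) v from hv) n)
      have hpowz : ∀ n : ℕ, (γ ^ n) z = z := fun n => MulAction.mem_stabilizer_iff.1
        (pow_mem (show γ ∈ MulAction.stabilizer (MulAut V) z from hzf ⟨γ, hγ⟩) n)
      have hj0 : j ≠ 0 := fun h => hγ1 (orderOf_eq_one_iff.1 (by rw [hjo, h, pow_zero]))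
      have ho : orderOf (γ ^ 3 ^ (j - 1)) = 3 := by
        rw [orderOf_pow' γ (by positivity), hjo, Nat.gcd_eq_right (pow_dvd_pow 3 (by omega)),
          Nat.pow_div (by omega) (by norm_num), show j - (j - 1) = 1 by omega, pow_one]
      obtain ⟨z', -, -, hz'⟩ := exists_fixed_three h8 ho
      have hz'' : z = z' := (hz' z (hpowz _)).resolve_left hz
      rw [hz'']
      exact hz' v (hpow _)
    obtain ⟨y, hy⟩ : ∃ y : V, y ∉ ({1, z} : Finset V) := by
      by_contra hno
      push Not at hno
      have h1 := Finset.card_le_card (fun v (_ : v ∈ (Finset.univ : Finset V)) => hno v)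
      rw [Finset.card_univ, ← Nat.card_eq_fintype_card, h8] at h1
      have h2 := Finset.card_le_two (a := (1 : V)) (b := z)
      omega
    simp only [Finset.mem_insert, Finset.mem_singleton, not_or] at hy
    obtain ⟨γ, hγ, hγ1, hγy⟩ := horb y hy.1
    rcases hcard3 γ hγ hγ1 y hγy with h | h
    · exact hy.1 h
    · exact hy.2 h
  · obtain ⟨v, hv⟩ : ∃ v : V, v ≠ 1 := by
      haveI : Nontrivial V := Finite.one_lt_card_iff_nontrivial.1 (by omega)
      exact exists_ne 1
    obtain ⟨γ, hγ, hγ1, hγv⟩ := horb v hv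
    refine not_seven_dvd_fix h8 (Subgroup.zpowers γ) hv (fun β hβ => MulAction.mem_stabilizer_iff.1
      ((Subgroup.zpowers_le.2 (show γ ∈ MulAction.stabilizer (MulAut V) v from hγv)) hβ)) ?_
    rw [Nat.card_zpowers]
    obtain ⟨j, hj, hjo⟩ := (Nat.dvd_prime_pow (by norm_num : Nat.Prime 7)).1
      (hA' ▸ (Subgroup.orderOf_coe (⟨γ, hγ⟩ : A')).symm ▸ orderOf_dvd_natCard (⟨γ, hγ⟩ : A'))
    rw [hjo]
    exact dvd_pow_self 7 fun h => hγ1 (orderOf_eq_one_iff.1 (by rw [hjo, h, pow_zero]))

/-- The orbit sizes over a set of representatives add up to the order. -/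
theorem sum_orbit (H : Subgroup (MulAut V)) (R : Finset V)
    (hcov : ∀ t : V, ∃ r ∈ R, ∃ β ∈ H, β r = t)
    (hsep : ∀ r ∈ R, ∀ r' ∈ R, ∀ β ∈ H, β r = r' → r = r') :
    Nat.card V = ∑ r ∈ R, Nat.card (MulAction.orbit H r) := by
  classical
  haveI := Fintype.ofFinite V
  have hun : (Finset.univ : Finset V) = R.biUnion fun r => (MulAction.orbit H r).toFinset := by
    ext t
    simp only [Finset.mem_univ, Finset.mem_biUnion, Set.mem_toFinset, true_iff]
    obtain ⟨r, hr, β, hβ, hrt⟩ := hcov t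
    exact ⟨r, hr, ⟨β, hβ⟩, hrt⟩
  rw [Nat.card_eq_fintype_card, ← Finset.card_univ, hun, Finset.card_biUnion fun r hr r' hr' hne => ?_]
  · exact Finset.sum_congr rfl fun r _ => by rw [Set.toFinset_card, Nat.card_eq_fintype_card]
  · rw [Function.onFun, Finset.disjoint_left]
    intro t ht ht'
    rw [Set.mem_toFinset] at ht ht'
    obtain ⟨⟨β, hβ⟩, hβt⟩ := ht
    obtain ⟨⟨γ, hγ⟩, hγt⟩ := ht'
    refine hne (hsep r hr r' hr' (γ⁻¹ * β) (H.mul_mem (H.inv_mem hγ) hβ) ?_)
    show γ⁻¹ (β r) = r'
    rw [show β r = t from hβt, ← show γ r' = t from hγt]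
    exact γ.symm_apply_apply r'

/-- An abelian non-cyclic group of order eight has three involutions at least. -/
theorem exists_involution {W : Type*} [CommGroup W] [Finite W] (h8 : Nat.card W = 8)
    (hnc : ¬ IsCyclic W) (z : W) : ∃ t : W, t ≠ 1 ∧ t ≠ z ∧ t * t = 1 := by
  classical
  by_contra hno
  push Not at hno
  have h4 : ∀ x : W, x ^ 4 = 1 := by
    intro x
    obtain ⟨i, hi, hix⟩ := (Nat.dvd_prime_pow Nat.prime_two).1
      (show orderOf x ∣ 2 ^ 3 by rw [show (2 : ℕ) ^ 3 = 8 by norm_num, ← h8]; exact orderOf_dvd_natCard x)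
    rcases Nat.lt_or_ge i 3 with h | h
    · refine orderOf_dvd_iff_pow_eq_one.1 ?_
      rw [hix]
      exact (pow_dvd_pow 2 (Nat.le_of_lt_succ h)).trans (by norm_num)
    · exact absurd (isCyclic_of_orderOf_eq_card x (by rw [hix, h8, le_antisymm hi h]; norm_num)) hnc
  set f : W →* W := powMonoidHom 2
  have hsmall : ∀ w : W, w * w = 1 → w = 1 ∨ w = z := fun w hw => by
    by_contra h
    push Not at h
    exact hno w h.1 h.2 hw
  have hK : Nat.card f.ker ≤ 2 ∧ Nat.card f.range ≤ 2 := by
    have hle : ∀ S : Subgroup W, (∀ w ∈ S, w * w = 1) → Nat.card S ≤ 2 := fun S hS => by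
      have h1 : (S : Set W) ⊆ {1, z} := fun w hw => hsmall w (hS w hw)
      have h2 := Nat.card_mono (Set.toFinite {1, z}) h1
      refine h2.trans ?_
      rw [Nat.card_coe_set_eq]
      exact (Set.ncard_insert_le 1 {z}).trans (by rw [Set.ncard_singleton])
    refine ⟨hle _ fun w hw => ?_, hle _ ?_⟩
    · rw [← pow_two]; exact hw
    · rintro _ ⟨x, rfl⟩
      show x ^ 2 * x ^ 2 = 1
      rw [← pow_add]
      exact h4 x
  have hmul := Subgroup.card_mul_index f.ker
  rw [Subgroup.index_ker, h8] at hmul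
  have := Nat.mul_le_mul hK.1 hK.2
  omega

end Cfsg.Agent.Blocks.FiveTraces.Eight
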