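import Mathlib
import Cfsg.Agent.Lib.Blocks.KleinFourBlock
import Cfsg.Agent.Lib.Blocks.FiveTraces.EightActions

/-!
# Blocks with abelian non-cyclic defect groups of order eight and five characters

Such a block does not have rank one.
-/

set_option linter.style.haveILetI false
set_option linter.unusedSectionVars false

namespace Cfsg.Agent.Blocks.FiveTraces.Eight

open Cfsg.Agent.Blocks Cfsg.Agent.Characters Cfsg.Agent.BlockCharsA
open Cfsg.Agent.BlockCharsA.BrauerPairs Cfsg.Agent.BlockCharsA.PairStab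
open Cfsg.Agent.BlockCharsA.PairMax Cfsg.Agent.BlockCharsA.PairConj
open Cfsg.Agent.BlockCharsA.PairLocal Cfsg.Agent.BlockCharsA.PairFusion
open Cfsg.Agent.BlockCharsA.PairCorr Cfsg.Agent.BlockCharsA.PairReceptive
open scoped ComplexConjugate

universe u

variable {G : Type u} [Group G] [Finite G] {M : Ideal Cfsg.AlgInt}
  {B : Set (Cfsg.IrrCharacter G)} {P : Subgroup G}
  {c : Set (Cfsg.IrrCharacter (Subgroup.centralizer (P : Set G)))}
  {f : ∀ t : P, Set (Cfsg.IrrCharacter (Subgroup.centralizer (Subgroup.zpowers (t : G) : Set G)))}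

/-- Six non-zero integers do not have squares of sum eight. -/
theorem card_bound {ι : Type*} (s : Finset ι) (a : ι → ℤ) (h0 : ∀ i ∈ s, a i ≠ 0)
    (hsum : ∑ i ∈ s, a i ^ 2 = 8) : s.card ≤ 8 ∧ s.card ≠ 6 := by
  classical
  have hge : ∀ i ∈ s, 1 ≤ a i ^ 2 := fun i hi => sq_pos_of_ne_zero (h0 i hi)
  have hle : (s.card : ℤ) ≤ 8 := by
    rw [← hsum, Finset.card_eq_sum_ones, Nat.cast_sum]
    exact Finset.sum_le_sum fun i hi => by simpa using hge i hi
  refine ⟨by omega, fun h6 => ?_⟩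
  by_cases hall : ∀ i ∈ s, a i ^ 2 = 1
  · rw [Finset.sum_congr rfl hall, Finset.sum_const, h6] at hsum
    norm_num at hsum
  push Not at hall
  obtain ⟨i, hi, hne⟩ := hall
  have h4 : 4 ≤ a i ^ 2 := by
    have h1 : a i ≤ -2 ∨ 2 ≤ a i := by
      have : a i ≠ 1 := fun h => hne (by rw [h]; norm_num)
      have : a i ≠ -1 := fun h => hne (by rw [h]; norm_num)
      have := h0 i hi
      omega
    rcases h1 with h1 | h1 <;> nlinarith
  have hrest : ((s.erase i).card : ℤ) ≤ ∑ j ∈ s.erase i, a j ^ 2 := by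
    rw [Finset.card_eq_sum_ones, Nat.cast_sum]
    exact Finset.sum_le_sum fun j hj => by simpa using hge j (Finset.mem_of_mem_erase hj)
  rw [← Finset.add_sum_erase s _ hi] at hsum
  rw [Finset.card_erase_of_mem hi, h6] at hrest
  push_cast at hrest
  omega

/-- An involution with a local block of rank one bounds the number of characters. -/
theorem card_bound_of_column (hM : Cfsg.IsPModular 2 M)
    (hmax : Cfsg.IsMaximalBrauerPair 2 M B P c) (hab : ∀ x ∈ P, ∀ y ∈ P, x * y = y * x)
    (h8 : Nat.card P = 8) {t : P} (ht : t ≠ 1) (htt : t * t = 1)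
    {ft : Set (Cfsg.IrrCharacter (Subgroup.centralizer (Subgroup.zpowers (t : G) : Set G)))}
    (hf : Cfsg.SubpairLE 2 M (Subgroup.zpowers (t : G)) ft P c)
    (hlt : Cfsg.blockRank 2 ft = 1) : Nat.card B ≤ 8 ∧ Nat.card B ≠ 6 := by
  classical
  haveI := fact_prime_of_pm hM
  haveI := Fintype.ofFinite G
  haveI := Fintype.ofFinite (Cfsg.IrrCharacter G)
  haveI := Fintype.ofFinite B
  have hD := isDefectGroup_of_maximal hM hmax
  have hB := hmax.1.2.1
  obtain ⟨b, hb, -, hr, hdb⟩ := NilpotentAbelian.exists_of_pair hM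
    ((block_of_subpairLE hM hf).2 hmax.1) (Subgroup.zpowers_le.2
      (mem_centralizer_zpowers.2 (Subgroup.mem_centralizer_singleton_iff.2 rfl)))
    (LocalBlock.centralizer_eq_zpowers (t : G))
  have hord : orderOf (t : G) = 2 ^ 1 := by
    rw [pow_one]
    refine orderOf_eq_prime (hp := ⟨Nat.prime_two⟩) ?_ fun h => ht (Subtype.ext h)
    rw [pow_two]
    exact congrArg Subtype.val htt
  have hζ : IsPrimitiveRoot (-1 : ℂ) (2 ^ 1) := by
    rw [pow_one]
    exact IsPrimitiveRoot.neg_one 0 two_ne_zero.symm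
  have hPC : P ≤ Subgroup.centralizer (Subgroup.zpowers (t : G) : Set G) := fun a ha =>
    mem_centralizer_zpowers.2 (Subgroup.mem_centralizer_singleton_iff.2 (hab a ha t t.2))
  have hDf := InducedPairs.defect_local_of_abelian hM hmax hab hf
  have hd8 : 2 ^ Cfsg.blockDefect 2 B = 8 := by rw [← card_defectGroup hM hB hD, h8]
  have hdef : Cfsg.blockDefect 2 b = Cfsg.blockDefect 2 B := by
    have e1 := card_defectGroup hM ((subpairLE_facts hM hf).2 hmax.1.1).2 hDf
    rw [Nat.card_congr (Subgroup.subgroupOfEquivOfLe hPC).toEquiv, card_defectGroup hM hB hD] at e1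
    rw [hdb]
    exact (Nat.pow_right_injective le_rfl e1).symm
  obtain ⟨s, v, n, hne, hsum⟩ :=
    MajorSubsection.exists_column hM hb hdef (hr.trans hlt) hord hζ
  set a : Cfsg.IrrCharacter G → ℤ := fun χ => ∑ η ∈ s, (v χ η : ℤ) * (-1) ^ n η
  have hcast : ∀ χ, (a χ : ℂ) = ∑ η ∈ s, (v χ η : ℂ) * (-1) ^ n η := fun χ => by simp [a]
  have hBc : Nat.card B = (Finset.univ.filter (· ∈ B)).card := by
    rw [Nat.card_eq_fintype_card, ← Set.toFinset_card]
    congr 1
    ext; simp
  rw [hBc]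
  refine card_bound _ a (fun χ hχ h0 => hne χ (Finset.mem_filter.1 hχ).2 ?_) ?_
  · rw [← hcast, h0, Int.cast_zero]
  · rw [hd8, ZStar.Principal.finsum_mem_eq_sum_filter] at hsum
    apply Int.cast_injective (α := ℂ)
    push_cast at hsum ⊢
    rw [← hsum]
    refine Finset.sum_congr rfl fun χ _ => ?_
    rw [hcast, pow_two]
    congr 1
    rw [← hcast, map_intCast]

/-- At a central element the local block has the rank of the block. -/
theorem rank_of_central (hM : Cfsg.IsPModular 2 M) (hmax : Cfsg.IsMaximalBrauerPair 2 M B P c)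
    (hf : ∀ t : P, Cfsg.SubpairLE 2 M (Subgroup.zpowers (t : G)) (f t) P c) {t : P}
    (ht : ∀ g : G, g * (t : G) = (t : G) * g) :
    Cfsg.blockRank 2 (f t) = Cfsg.blockRank 2 B := by
  obtain ⟨b, hb, -, hr, -⟩ := NilpotentAbelian.exists_of_pair hM
    ((block_of_subpairLE hM (hf t)).2 hmax.1) (Subgroup.zpowers_le.2
      (mem_centralizer_zpowers.2 (Subgroup.mem_centralizer_singleton_iff.2 rfl)))
    (LocalBlock.centralizer_eq_zpowers (t : G))
  have htop : Subgroup.centralizer ({(t : G)} : Set G) = ⊤ :=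
    eq_top_iff.2 fun z _ => Subgroup.mem_centralizer_singleton_iff.2 (ht z)
  rw [← hr, ← NilpotentAbelian.pullSet_top hM htop hb, NilpotentAbelian.blockRank_pullSet]

/-- An element moved by every non-trivial inertial automorphism has a local block of rank one. -/
theorem rank_of_free (hM : Cfsg.IsPModular 2 M) (hmax : Cfsg.IsMaximalBrauerPair 2 M B P c)
    (hab : ∀ x ∈ P, ∀ y ∈ P, x * y = y * x)
    (hf : ∀ t : P, Cfsg.SubpairLE 2 M (Subgroup.zpowers (t : G)) (f t) P c) {t : P}
    (ht : ∀ β ∈ (autHom P c).range, β t = t → β = 1) :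
    Cfsg.blockRank 2 (f t) = 1 := by
  refine LocalNilpotent.blockRank_eq_one hM hmax hab (hf t) fun x hx hxC => ?_
  refine PairNilpotent.mem_centralizer_of_autHom (t := ⟨x, hx⟩) (ht _ ⟨_, rfl⟩ (Subtype.ext ?_))
  rw [coe_autHom, ← hxC _ (Subgroup.mem_zpowers _), mul_inv_cancel_right]

/-- The order of the inertial automorphism group. -/
theorem card_range_dvd (hM : Cfsg.IsPModular 2 M) (hmax : Cfsg.IsMaximalBrauerPair 2 M B P c)
    (hab : ∀ x ∈ P, ∀ y ∈ P, x * y = y * x) (h8 : Nat.card P = 8) :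
    Nat.card (autHom P c).range ∈ ({1, 3, 7, 21} : Finset ℕ) := by
  haveI := fact_prime_of_pm hM
  have hS := isBlockFusion_blockSystem hM hmax
  have h4 := Fusion.Abelian.not_dvd_card_autGroup (p := 2) hmax.1.1.1 (isSaturated hM hS) hab
  rw [autGroup_eq hM hS (Q := P) (f := c) Relation.ReflTransGen.refl] at h4
  have h := Nat.mem_divisors.2 ⟨card_dvd h8 _ h4, show (21 : ℕ) ≠ 0 by norm_num⟩
  rwa [show Nat.divisors 21 = {1, 3, 7, 21} from rfl] at h

/-- Without inertial automorphisms the block has eight characters and rank one. -/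
theorem of_card_one (hM : Cfsg.IsPModular 2 M) (hmax : Cfsg.IsMaximalBrauerPair 2 M B P c)
    (hab : ∀ x ∈ P, ∀ y ∈ P, x * y = y * x) (he : Nat.card (autHom P c).range = 1) :
    Cfsg.blockRank 2 B = 1 ∧ Nat.card B = Nat.card P := by
  refine NilpotentAbelian.blockRank_eq_one hM (isDefectGroup_of_maximal hM hmax) hab
    ((PairNilpotent.nilpotent_iff_inertial hM hmax hab).2 fun x hxN hxst =>
      PairNilpotent.mem_centralizer_of_autHom (t := ⟨x, mem_stab.2 ⟨hxN, hxst⟩⟩) ?_)
  exact Subgroup.mem_bot.1 ((Subgroup.eq_bot_of_card_eq _ he).le ⟨_, rfl⟩)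

open scoped Classical in
/-- Representatives of the orbits of the inertial automorphisms. -/
theorem exists_reps (H : Subgroup (MulAut P)) :
    ∃ R : Finset P, 1 ∈ R ∧ (∀ t : P, ∃ r ∈ R, ∃ β ∈ H, β r = t) ∧
      ∀ r ∈ R, ∀ r' ∈ R, ∀ β ∈ H, β r = r' → r = r' := by
  haveI := Fintype.ofFinite P
  set st : Setoid P := MulAction.orbitRel H P
  set rep : P → P := fun t => (Quotient.mk st t).out
  have hrep : ∀ t, rep t ∈ MulAction.orbit H t := fun t => Quotient.mk_out (s := st) t
  refine ⟨Finset.univ.image rep, Finset.mem_image.2 ⟨1, Finset.mem_univ _, ?_⟩, fun t => ?_, ?_⟩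
  · obtain ⟨⟨β, hβ⟩, hb⟩ := hrep 1
    exact (show β 1 = rep 1 from hb).symm.trans (map_one β)
  · obtain ⟨⟨β, hβ⟩, hb⟩ := hrep t
    refine ⟨rep t, Finset.mem_image_of_mem _ (Finset.mem_univ _), β⁻¹, H.inv_mem hβ, ?_⟩
    rw [← show β t = rep t from hb]
    exact β.symm_apply_apply t
  · intro r hr r' hr' β hβ h
    obtain ⟨t, -, rfl⟩ := Finset.mem_image.1 hr
    obtain ⟨t', -, rfl⟩ := Finset.mem_image.1 hr'
    have h1 : Quotient.mk st (rep t') = Quotient.mk st (rep t) :=
      Quotient.sound (show rep t' ∈ MulAction.orbit H (rep t) from ⟨⟨β, hβ⟩, h⟩)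
    simp only [rep, Quotient.out_eq] at h1
    simp only [rep, h1]

/-- The characters counted over the orbits. -/
theorem card_eq_sum (hM : Cfsg.IsPModular 2 M) (hmax : Cfsg.IsMaximalBrauerPair 2 M B P c)
    (hab : ∀ x ∈ P, ∀ y ∈ P, x * y = y * x)
    (hf : ∀ t : P, Cfsg.SubpairLE 2 M (Subgroup.zpowers (t : G)) (f t) P c) :
    ∃ R : Finset P, 1 ∈ R ∧
      (∀ t : P, ∃ r ∈ R, ∃ β ∈ (autHom P c).range, β r = t) ∧
      (∀ r ∈ R, ∀ r' ∈ R, ∀ β ∈ (autHom P c).range, β r = r' → r = r') ∧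
      Nat.card B = ∑ r ∈ R, Cfsg.blockRank 2 (f r) := by
  obtain ⟨R, h1, hcov, hsep⟩ := exists_reps (autHom P c).range
  refine ⟨R, h1, hcov, hsep, OrbitCount.card_eq_sum_orbit hM hmax hab f hf R (fun t => ?_) ?_⟩
  · obtain ⟨r, hr, _, ⟨w, rfl⟩, hw⟩ := hcov t
    exact ⟨r, hr, w, w.2, by rw [← hw, coe_autHom]⟩
  · intro r hr r' hr' w hw h
    exact hsep r hr r' hr' _ ⟨⟨w, hw⟩, rfl⟩ (Subtype.ext (by rw [coe_autHom]; exact h))

/-- The count with three inertial automorphisms. -/
theorem of_card_three (hM : Cfsg.IsPModular 2 M) (hmax : Cfsg.IsMaximalBrauerPair 2 M B P c)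
    (hab : ∀ x ∈ P, ∀ y ∈ P, x * y = y * x) (h8 : Nat.card P = 8)
    (hf : ∀ t : P, Cfsg.SubpairLE 2 M (Subgroup.zpowers (t : G)) (f t) P c)
    (he : Nat.card (autHom P c).range = 3) :
    ∃ z : P, z ≠ 1 ∧
      Nat.card B = Cfsg.blockRank 2 B + Cfsg.blockRank 2 (f z) + 2 ∧
      (∀ v : P, (∀ β ∈ (autHom P c).range, β v = v) → v = 1 ∨ v = z) ∧
      ∀ t : P, t ≠ 1 → t ≠ z → Cfsg.blockRank 2 (f t) = 1 := by
  classical
  set H := (autHom P c).range with hH
  haveI : Fact (Nat.Prime 3) := ⟨Nat.prime_three⟩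
  have hord : ∀ β ∈ H, β ≠ 1 → orderOf β = 3 := fun β hβ hne => by
    have h := orderOf_dvd_natCard (⟨β, hβ⟩ : H)
    rw [he, Subgroup.orderOf_mk] at h
    exact ((Nat.dvd_prime Nat.prime_three).1 h).resolve_left fun h1 => hne (orderOf_eq_one_iff.1 h1)
  obtain ⟨⟨α, hα⟩, hα'⟩ := exists_prime_orderOf_dvd_card' (G := H) 3 (by rw [he])
  rw [Subgroup.orderOf_mk] at hα'
  obtain ⟨z, hz, hzf, hzu⟩ := exists_fixed_three h8 hα'
  have hgen : ∀ β ∈ H, β ∈ Subgroup.zpowers α := by
    intro β hβ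
    have hle : Subgroup.zpowers α ≤ H := Subgroup.zpowers_le.2 hα
    rw [Subgroup.eq_of_le_of_card_ge hle (by rw [Nat.card_zpowers, hα', he])]
    exact hβ
  have hfix : ∀ v : P, α v = v → ∀ β ∈ H, β v = v := fun v hv β hβ =>
    MulAction.mem_stabilizer_iff.1
      ((Subgroup.zpowers_le.2 (show α ∈ MulAction.stabilizer (MulAut P) v from hv)) (hgen β hβ))
  have hfree : ∀ t : P, t ≠ 1 → t ≠ z → ∀ β ∈ H, β t = t → β = 1 := by
    intro t ht htz β hβ hβt
    by_contra hne
    obtain ⟨z', -, -, hz'⟩ := exists_fixed_three h8 (hord β hβ hne)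
    have h1 := (hz' z (hfix z hzf β hβ)).resolve_left hz
    rcases hz' t hβt with h | h
    · exact ht h
    · exact htz (h.trans h1.symm)
  refine ⟨z, hz, ?_, fun v hv => hzu v (hv α hα),
    fun t ht htz => rank_of_free hM hmax hab hf (hfree t ht htz)⟩
  obtain ⟨R, h1R, hcov, hsep, hk⟩ := card_eq_sum hM hmax hab hf
  have hzR : z ∈ R := by
    obtain ⟨r, hr, β, hβ, hβr⟩ := hcov z
    have : r = z := by
      apply β.injective
      rw [hβr, hfix z hzf β hβ]
    rwa [← this]
  have horb : ∀ r ∈ R, Nat.card (MulAction.orbit H r) = if r = 1 ∨ r = z then 1 else 3 := by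
    intro r _
    split_ifs with h
    · haveI : Subsingleton (MulAction.orbit H r) := by
        refine ⟨fun a b => Subtype.ext ?_⟩
        obtain ⟨⟨β, hβ⟩, hb⟩ := a.2
        obtain ⟨⟨γ, hγ⟩, hc⟩ := b.2
        rw [← show β r = a.1 from hb, ← show γ r = b.1 from hc]
        rcases h with rfl | rfl
        · rw [map_one, map_one]
        · rw [hfix _ hzf β hβ, hfix _ hzf γ hγ]
      haveI : Nonempty (MulAction.orbit H r) := ⟨⟨r, MulAction.mem_orbit_self r⟩⟩
      exact Nat.card_unique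
    · push Not at h
      rw [← he]
      refine (Nat.card_eq_of_bijective (fun β : H => (⟨β • r, ⟨β, rfl⟩⟩ : MulAction.orbit H r))
        ⟨fun β γ hbc => ?_, fun ⟨t, β, hb⟩ => ⟨β, Subtype.ext hb⟩⟩).symm
      have h0 : ((γ⁻¹ * β : H) : MulAut P) r = r := by
        show (γ : MulAut P)⁻¹ ((β : MulAut P) r) = r
        rw [show (β : MulAut P) r = (γ : MulAut P) r from congrArg Subtype.val hbc]
        exact (γ : MulAut P).symm_apply_apply r
      have h2 := hfree r h.1 h.2 _ (γ⁻¹ * β).2 h0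
      exact (inv_mul_eq_one.1 (Subtype.ext h2)).symm
  set R' := (R.erase 1).erase z
  have hzR' : z ∈ R.erase 1 := Finset.mem_erase.2 ⟨hz, hzR⟩
  have hR' : ∀ r ∈ R', r ≠ 1 ∧ r ≠ z := fun r hr =>
    ⟨(Finset.mem_erase.1 (Finset.mem_erase.1 hr).2).1, (Finset.mem_erase.1 hr).1⟩
  have hsize := sum_orbit H R hcov hsep
  rw [Finset.sum_congr rfl horb, ← Finset.add_sum_erase R _ h1R,
    ← Finset.add_sum_erase (R.erase 1) _ hzR', if_pos (Or.inl rfl), if_pos (Or.inr rfl),
    Finset.sum_congr rfl (g := fun _ => 3) (fun r hr => if_neg (not_or.2 (hR' r hr))),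
    Finset.sum_const, smul_eq_mul, h8] at hsize
  have hc : R'.card = 2 := by
    have : 8 = 1 + (1 + R'.card * 3) := hsize
    omega
  rw [hk, ← Finset.add_sum_erase R _ h1R, ← Finset.add_sum_erase (R.erase 1) _ hzR',
    Finset.sum_congr rfl (g := fun _ => 1) (fun r hr => rank_of_free hM hmax hab hf
      (hfree r (hR' r hr).1 (hR' r hr).2)),
    rank_of_central hM hmax hf (t := 1) (fun g => by simp)]
  simp only [Finset.sum_const, smul_eq_mul, mul_one]
  show Cfsg.blockRank 2 B + (Cfsg.blockRank 2 (f z) + R'.card) = _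
  omega

/-- The local block at a non-trivial element has rank one or three. -/
theorem local_rank (hM : Cfsg.IsPModular 2 M) (hmax : Cfsg.IsMaximalBrauerPair 2 M B P c)
    (hab : ∀ x ∈ P, ∀ y ∈ P, x * y = y * x) (h8 : Nat.card P = 8)
    (hinv : ∀ z : P, ∃ t : P, t ≠ 1 ∧ t ≠ z ∧ t * t = 1)
    {z : P} (hz : z ≠ 1)
    {fz : Set (Cfsg.IrrCharacter (Subgroup.centralizer (Subgroup.zpowers (z : G) : Set G)))}
    (hfz : Cfsg.SubpairLE 2 M (Subgroup.zpowers (z : G)) fz P c) :
    Cfsg.blockRank 2 fz ≠ 2 ∧ Cfsg.blockRank 2 fz ≤ 3 := by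
  classical
  haveI := fact_prime_of_pm hM
  haveI := Fintype.ofFinite G
  have hPK : P ≤ (Subgroup.centralizer (Subgroup.zpowers (z : G) : Set G)) := fun a ha =>
    mem_centralizer_zpowers.2 (Subgroup.mem_centralizer_singleton_iff.2 (hab a ha z z.2))
  obtain ⟨a, hamax, -⟩ := LocalNilpotent.exists_maximal_local hM hmax hab hfz
  have hab' : ∀ x ∈ (P.subgroupOf (Subgroup.centralizer (Subgroup.zpowers (z : G) : Set G))), ∀ y ∈ (P.subgroupOf (Subgroup.centralizer (Subgroup.zpowers (z : G) : Set G))), x * y = y * x := fun x hx y hy => Subtype.ext (hab x hx y hy)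
  set σ : (P.subgroupOf (Subgroup.centralizer (Subgroup.zpowers (z : G) : Set G))) ≃* P := Subgroup.subgroupOfEquivOfLe hPK
  have h8' : Nat.card (P.subgroupOf (Subgroup.centralizer (Subgroup.zpowers (z : G) : Set G))) = 8 := (Nat.card_congr σ.toEquiv).trans h8
  set z' : (P.subgroupOf (Subgroup.centralizer (Subgroup.zpowers (z : G) : Set G))) := σ.symm z with hz'd
  have hz' : z' ≠ 1 := fun h => hz (σ.symm.injective (h.trans (map_one σ.symm).symm))
  have hzc : ∀ g : (Subgroup.centralizer (Subgroup.zpowers (z : G) : Set G)), g * (z' : (Subgroup.centralizer (Subgroup.zpowers (z : G) : Set G))) = (z' : (Subgroup.centralizer (Subgroup.zpowers (z : G) : Set G))) * g := fun g => Subtype.ext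
    (Subgroup.mem_centralizer_iff.1 g.2 (z : G) (Subgroup.mem_zpowers _)).symm
  have hfixz : ∀ β ∈ (autHom (P.subgroupOf (Subgroup.centralizer (Subgroup.zpowers (z : G) : Set G))) a).range, β z' = z' := by
    rintro _ ⟨w, rfl⟩
    refine Subtype.ext ?_
    rw [coe_autHom, hzc (w : (Subgroup.centralizer (Subgroup.zpowers (z : G) : Set G))), mul_inv_cancel_right]
  have he := card_range_dvd hM hamax hab' h8'
  have h7 := not_seven_dvd_fix h8' _ hz' hfixz
  simp only [Finset.mem_insert, Finset.mem_singleton] at he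
  rcases he with he | he | he | he
  · rw [(of_card_one hM hamax hab' he).1]
    omega
  · have hex : ∀ t : (P.subgroupOf (Subgroup.centralizer (Subgroup.zpowers (z : G) : Set G))), ∃ g, Cfsg.SubpairLE 2 M (Subgroup.zpowers (t : (Subgroup.centralizer (Subgroup.zpowers (z : G) : Set G)))) g (P.subgroupOf (Subgroup.centralizer (Subgroup.zpowers (z : G) : Set G))) a := fun t => by
      obtain ⟨g, -, hg⟩ :=
        exists_subpair hM _ (Subgroup.zpowers (t : (Subgroup.centralizer (Subgroup.zpowers (z : G) : Set G)))) (P.subgroupOf (Subgroup.centralizer (Subgroup.zpowers (z : G) : Set G))) a rfl hamax.1.1 (Subgroup.zpowers_le.2 t.2)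
      exact ⟨g, hg⟩
    choose g hg using hex
    obtain ⟨y, -, hk, hfix, hrk⟩ := of_card_three hM hamax hab' h8' hg he
    obtain rfl : z' = y := (hfix z' hfixz).resolve_left hz'
    rw [rank_of_central hM hamax hg hzc] at hk
    obtain ⟨t, ht1, htz, htt⟩ := hinv z
    have ht1' : σ.symm t ≠ 1 := fun h => ht1 (σ.symm.injective (h.trans (map_one σ.symm).symm))
    have htt' : σ.symm t * σ.symm t = 1 := by rw [← map_mul, htt, map_one]
    obtain ⟨hb1, hb2⟩ := card_bound_of_column hM hamax hab' h8' ht1' htt' (hg _)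
      (hrk _ ht1' fun h => htz (σ.symm.injective h))
    omega
  · exact absurd (by rw [he]) h7
  · exact absurd (by rw [he]; norm_num) h7

/-- A block with abelian non-cyclic defect group of order eight and rank one does not have five
characters. -/
theorem card_ne_five (hM : Cfsg.IsPModular 2 M) (hmax : Cfsg.IsMaximalBrauerPair 2 M B P c)
    (hab : ∀ x ∈ P, ∀ y ∈ P, x * y = y * x) (h8 : Nat.card P = 8)
    (hinv : ∀ z : P, ∃ t : P, t ≠ 1 ∧ t ≠ z ∧ t * t = 1)
    (hl : Cfsg.blockRank 2 B = 1) : Nat.card B ≠ 5 := by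
  classical
  haveI := fact_prime_of_pm hM
  haveI := Fintype.ofFinite G
  intro h5
  have hex : ∀ t : P, ∃ g, Cfsg.SubpairLE 2 M (Subgroup.zpowers (t : G)) g P c := fun t => by
    obtain ⟨g, -, hg⟩ :=
      exists_subpair hM _ (Subgroup.zpowers (t : G)) P c rfl hmax.1.1 (Subgroup.zpowers_le.2 t.2)
    exact ⟨g, hg⟩
  choose g hg using hex
  have he := card_range_dvd hM hmax hab h8
  simp only [Finset.mem_insert, Finset.mem_singleton] at he
  have hbig : 7 ∣ Nat.card (autHom P c).range → False := by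
    intro h7
    obtain ⟨R, h1R, hcov, hsep, hk⟩ := card_eq_sum hM hmax hab hg
    have horb : ∀ r ∈ R.erase 1, 7 ≤ Nat.card (MulAction.orbit (autHom P c).range r) := by
      intro r hr
      have hr1 := (Finset.mem_erase.1 hr).1
      haveI : Fact (Nat.Prime 7) := ⟨by norm_num⟩
      obtain ⟨⟨β, hβ⟩, hβ'⟩ := exists_prime_orderOf_dvd_card' (G := (autHom P c).range) 7 h7
      rw [Subgroup.orderOf_mk] at hβ'
      have hinj : Function.Injective fun i : Fin 7 =>
          (⟨(β ^ (i : ℕ)) r, ⟨⟨β ^ (i : ℕ), pow_mem hβ _⟩, rfl⟩⟩ :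
            MulAction.orbit (autHom P c).range r) := by
        intro i j hij
        by_contra hne
        wlog hlt : (i : ℕ) < j generalizing i j
        · exact this hij.symm (Ne.symm hne) (lt_of_le_of_ne (not_lt.1 hlt)
            fun h => hne (Fin.ext h.symm))
        have h0 : (β ^ ((j : ℕ) - i)) r = r := by
          apply (β ^ (i : ℕ)).injective
          show (β ^ (i : ℕ) * β ^ ((j : ℕ) - i)) r = (β ^ (i : ℕ)) r
          rw [← pow_add, Nat.add_sub_cancel' hlt.le]
          exact (congrArg Subtype.val hij).symm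
        refine hr1 (eq_one_of_fixed_seven h8 ?_ h0)
        rw [orderOf_pow' β (by omega), hβ', Nat.Coprime.gcd_eq_one, Nat.div_one]
        exact (Nat.Prime.coprime_iff_not_dvd (by norm_num)).2
          fun hd => by have := Nat.le_of_dvd (by omega) hd; omega
      have := Nat.card_le_card_of_injective _ hinj
      simpa using this
    have hsize := sum_orbit (autHom P c).range R hcov hsep
    rw [← Finset.add_sum_erase R _ h1R, h8] at hsize
    have h1o : 1 ≤ Nat.card (MulAction.orbit (autHom P c).range (1 : P)) := by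
      haveI : Nonempty (MulAction.orbit (autHom P c).range (1 : P)) :=
        ⟨⟨1, MulAction.mem_orbit_self 1⟩⟩
      exact Nat.card_pos
    have hcard : (R.erase 1).card ≤ 1 := by
      have := Finset.card_nsmul_le_sum (R.erase 1) _ 7 horb
      rw [smul_eq_mul] at this
      omega
    rw [h5, ← Finset.add_sum_erase R _ h1R, rank_of_central hM hmax hg (t := 1) (fun x => by simp),
      hl] at hk
    have hle : ∑ r ∈ R.erase 1, Cfsg.blockRank 2 (g r) ≤ (R.erase 1).card • 3 :=
      Finset.sum_le_card_nsmul _ _ 3 fun r hr =>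
        (local_rank hM hmax hab h8 hinv (Finset.mem_erase.1 hr).1 (hg r)).2
    rw [smul_eq_mul] at hle
    omega
  rcases he with he | he | he | he
  · rw [(of_card_one hM hmax hab he).2, h8] at h5
    omega
  · obtain ⟨z, hz, hk, -, -⟩ := of_card_three hM hmax hab h8 hg he
    obtain ⟨h2, -⟩ := local_rank hM hmax hab h8 hinv hz (hg z)
    omega
  · exact hbig (by rw [he])
  · exact hbig (by rw [he]; norm_num)

end Cfsg.Agent.Blocks.FiveTraces.Eight
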