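import Cfsg.Agent.Lib.Blocks.FiveTraces.Basic

/-!
# A layer of dimension one

If some power of the radical is one-dimensional modulo the next, it annihilates the commutators.
-/

set_option linter.unusedSectionVars false

namespace Cfsg.Agent.Blocks.FiveTraces

open Module
open scoped Pointwise

universe u v

variable {F : Type u} [Field F] {𝒜 : Type v} [Ring 𝒜] [Algebra F 𝒜]
  {lam : 𝒜 →ₗ[F] F} {N : Submodule F 𝒜}

namespace Setting

variable (h : Setting lam N)
include h

/-- A layer of dimension one annihilates the commutators. -/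
theorem layer_mul_comms {n : ℕ} (hn : 2 ≤ n) {c₀ : 𝒜}
    (hle : N ^ n ≤ (F ∙ c₀) ⊔ N ^ (n + 1)) {w : 𝒜} (hw : w ∈ N ^ n) {k : 𝒜} (hk : k ∈ comms N) :
    k * w = 0 := by
  classical
  obtain ⟨m, rfl⟩ : ∃ m, n = m + 1 := ⟨n - 1, by omega⟩
  by_cases hbot : N ^ (m + 1) ≤ N ^ (m + 1 + 1)
  · have h0 : N ^ (m + 1) = ⊥ := by
      obtain ⟨L, hL⟩ := h.nil
      have hj : ∀ j, N ^ (m + 1) ≤ N ^ (m + 1 + j) := by
        intro j
        induction j with
        | zero => rfl
        | succ j ih =>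
          refine hbot.trans ?_
          rw [pow_succ' N (m + 1), ← add_assoc, pow_succ' N (m + 1 + j)]
          exact Submodule.mul_le.2 fun a ha b hb => Submodule.mul_mem_mul ha (ih hb)
      exact le_bot_iff.1 ((hj L).trans ((h.pow_anti (by omega) (by omega)).trans hL.le))
    rw [h0, Submodule.mem_bot] at hw
    rw [hw, mul_zero]
  -- a product spanning the layer
  obtain ⟨a, ha, v, hv, hav⟩ : ∃ a ∈ N ^ m, ∃ v ∈ N, a * v ∉ N ^ (m + 1 + 1) := by
    by_contra hall
    push Not at hall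
    exact hbot (by rw [pow_succ]; exact Submodule.mul_le.2 hall)
  set c := a * v with hc
  have hcm : c ∈ N ^ (m + 1) := by rw [pow_succ]; exact Submodule.mul_mem_mul ha hv
  have hle' : N ^ (m + 1) ≤ (F ∙ c) ⊔ N ^ (m + 1 + 1) := by
    obtain ⟨y, hy, r, hr, hyr⟩ := Submodule.mem_sup.1 (hle hcm)
    obtain ⟨t, rfl⟩ := Submodule.mem_span_singleton.1 hy
    have ht : t ≠ 0 := fun ht => hav (by rwa [← hyr, ht, zero_smul, zero_add])
    refine hle.trans (sup_le ?_ le_sup_right)
    rw [Submodule.span_singleton_le_iff_mem]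
    refine Submodule.mem_sup.2 ⟨t⁻¹ • c, Submodule.smul_mem _ _ (Submodule.mem_span_singleton_self c),
      -(t⁻¹ • r), Submodule.neg_mem _ (Submodule.smul_mem _ _ hr), ?_⟩
    rw [← hyr, smul_add, smul_smul, inv_mul_cancel₀ ht, one_smul, add_neg_cancel_right]
  have hvpow : ∀ (j i : ℕ) (z : 𝒜), z ∈ N ^ i → z * v ^ j ∈ N ^ (i + j) := by
    intro j
    induction j with
    | zero => intro i z hz; rw [pow_zero, mul_one]; exact hz
    | succ j ih =>
      intro i z hz
      rw [pow_succ, ← mul_assoc, ← add_assoc, pow_succ]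
      exact Submodule.mul_mem_mul (ih i z hz) hv
  have hxc : ∀ x ∈ N, ∃ t : F, x * c - t • (c * v) ∈ N ^ (m + 1 + 1 + 1) := by
    intro x hx
    have hxa : x * a ∈ N ^ (m + 1) := by rw [pow_succ']; exact Submodule.mul_mem_mul hx ha
    obtain ⟨y, hy, r, hr, hyr⟩ := Submodule.mem_sup.1 (hle' hxa)
    obtain ⟨t, rfl⟩ := Submodule.mem_span_singleton.1 hy
    refine ⟨t, ?_⟩
    rw [show x * c = (x * a) * v by rw [hc, mul_assoc], ← hyr, add_mul, smul_mul_assoc,
      add_sub_cancel_left, pow_succ N (m + 1 + 1)]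
    exact Submodule.mul_mem_mul hr hv
  have hlayer : ∀ j, N ^ (m + 1 + j) ≤ (F ∙ (c * v ^ j)) ⊔ N ^ (m + 1 + j + 1) := by
    intro j
    induction j with
    | zero => simpa using hle'
    | succ j ih =>
      rw [show m + 1 + (j + 1) = m + 1 + j + 1 by omega, pow_succ']
      refine Submodule.mul_le.2 fun x hx z hz => ?_
      obtain ⟨y, hy, r, hr, rfl⟩ := Submodule.mem_sup.1 (ih hz)
      obtain ⟨s, rfl⟩ := Submodule.mem_span_singleton.1 hy
      rw [mul_add, mul_smul_comm]
      refine Submodule.add_mem _ (Submodule.smul_mem _ _ ?_) (Submodule.mem_sup_right (by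
        rw [pow_succ' N (m + 1 + j + 1)]; exact Submodule.mul_mem_mul hx hr))
      obtain ⟨t, ht⟩ := hxc x hx
      refine Submodule.mem_sup.2 ⟨t • (c * v ^ (j + 1)),
        Submodule.smul_mem _ _ (Submodule.mem_span_singleton_self _), (x * c - t • (c * v)) * v ^ j,
        ?_, ?_⟩
      · rw [show m + 1 + j + 1 + 1 = m + 1 + 1 + 1 + j by omega]
        exact hvpow j _ _ ht
      · rw [pow_succ', sub_mul, smul_mul_assoc, mul_assoc c v, ← mul_assoc x c, add_sub_cancel]
  set S : Submodule F 𝒜 := (Algebra.adjoin F {v}).toSubmodule.map (LinearMap.mulLeft F c) with hS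
  have hNS : N ^ (m + 1) ≤ S := by
    have hj : ∀ j, N ^ (m + 1) ≤ S ⊔ N ^ (m + 1 + j) := by
      intro j
      induction j with
      | zero => exact le_sup_right
      | succ j ih =>
        refine ih.trans (sup_le le_sup_left ((hlayer j).trans (sup_le_sup_right ?_ _)))
        rw [Submodule.span_singleton_le_iff_mem]
        exact ⟨v ^ j, pow_mem (Algebra.subset_adjoin (Set.mem_singleton v)) j, rfl⟩
    obtain ⟨L, hL⟩ := h.nil
    refine (hj L).trans (sup_le le_rfl ?_)
    exact ((h.pow_anti (by omega) (by omega)).trans hL.le).trans bot_le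
  have hT : ∀ x ∈ N, ∃ T ∈ Algebra.adjoin F {v}, x * c = c * T := by
    intro x hx
    obtain ⟨T, hT, hTx⟩ := hNS (h.pow_succ_le (m + 1) (by omega)
      (show x * c ∈ N ^ (m + 1 + 1) by rw [pow_succ']; exact Submodule.mul_mem_mul hx hcm))
    exact ⟨T, hT, hTx.symm⟩
  have hswap : ∀ x ∈ N, ∀ y ∈ N, x * y * c = y * x * c := by
    intro x hx y hy
    obtain ⟨T, hT', hxT⟩ := hT x hx
    obtain ⟨U, hU', hyU⟩ := hT y hy
    have hTU : Commute T U := Algebra.commute_of_mem_adjoin_singleton_of_commute hU' (Algebra.commute_of_mem_adjoin_self hT').symm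
    rw [mul_assoc, hyU, ← mul_assoc, hxT, mul_assoc c T U, hTU.eq, ← mul_assoc, ← hyU, mul_assoc,
      ← hxT, ← mul_assoc]
  obtain ⟨T, hT', rfl⟩ := hNS hw
  show k * (c * T) = 0
  rw [← mul_assoc]
  suffices h0 : k * c = 0 by rw [h0, zero_mul]
  refine (Submodule.span_le.2 ?_ : comms N ≤ LinearMap.ker (LinearMap.mulRight F c)) hk
  rintro _ ⟨x, hx, y, hy, rfl⟩
  show (x * y - y * x) * c = 0
  rw [sub_mul, hswap x hx y hy, sub_self]

/-- A layer of dimension one above a layer of commutators ends the powers. -/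
theorem pow_eq_bot_of_layer {n n₀ : ℕ} (hn : 2 ≤ n) (hn₀ : 1 ≤ n₀) {c₀ : 𝒜}
    (hle : N ^ n ≤ (F ∙ c₀) ⊔ N ^ (n + 1)) (hn₀K : N ^ n₀ ≤ comms N ⊔ N ^ (n₀ + 1)) :
    N ^ (n + n₀) = ⊥ := by
  obtain ⟨L, hL⟩ := h.nil
  have key : ∀ r i, n + n₀ ≤ i → L + 1 ≤ i + r → ∀ x ∈ N ^ i, lam x = 0 := by
    intro r
    induction r with
    | zero =>
      intro i hi hr x hx
      have hx0 := h.pow_anti (by omega) (show L + 1 ≤ i by omega) hx
      rw [hL, Submodule.mem_bot] at hx0
      rw [hx0, map_zero]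
    | succ r ih =>
      intro i hi hr x hx
      rw [show i = (i - n₀) + n₀ by omega, pow_add] at hx
      induction hx using Submodule.mul_induction_on' with
      | add a _ b _ iha ihb => rw [map_add, iha, ihb, add_zero]
      | mem_mul_mem a ha b hb =>
        obtain ⟨k, hk, s, hs, rfl⟩ := Submodule.mem_sup.1 (hn₀K hb)
        rw [mul_add, map_add, h.trace a k, h.layer_mul_comms hn hle
          (h.pow_anti (by omega) (by omega) ha) hk, map_zero, zero_add]
        exact ih (i + 1) (by omega) (by omega) _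
          (by rw [show i + 1 = (i - n₀) + (n₀ + 1) by omega]; exact mul_mem_pow ha hs)
  exact h.eq_bot_of_lam (by omega) fun x hx => key (L + 1) _ le_rfl (by omega) x hx

end Setting

end Cfsg.Agent.Blocks.FiveTraces
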