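import Mathlib

/-!
# Bilinear products all of whose partial maps are singular
-/

set_option linter.unusedSectionVars false

namespace Cfsg.Agent.Blocks.FiveTraces.Singular

open Module

universe u v w

variable {F : Type u} [Field F] {V : Type v} [AddCommGroup V] [Module F V] {W : Type w}
  [AddCommGroup W] [Module F W]

theorem exists_avoid [Infinite F] (s : Finset F) : ∃ t : F, t ∉ s := Infinite.exists_notMem_finset s

/-- If three linear forms have product zero everywhere one of them vanishes. -/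
theorem eq_zero_of_mul [Infinite F] (f g h : V →ₗ[F] F) (hf : f ≠ 0) (hg : g ≠ 0)
    (hz : ∀ u, f u * g u * h u = 0) : h = 0 := by
  classical
  obtain ⟨a, ha⟩ : ∃ a, f a ≠ 0 := by
    by_contra hn
    push Not at hn
    exact hf (LinearMap.ext hn)
  obtain ⟨b, hb⟩ : ∃ b, g b ≠ 0 := by
    by_contra hn
    push Not at hn
    exact hg (LinearMap.ext hn)
  obtain ⟨w, hwf, hwg⟩ : ∃ w, f w ≠ 0 ∧ g w ≠ 0 := by
    obtain ⟨t, ht⟩ := exists_avoid ({-(f b) / f a, -(g b) / g a} : Finset F)
    simp only [Finset.mem_insert, Finset.mem_singleton, not_or] at ht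
    refine ⟨t • a + b, fun h0 => ht.1 ?_, fun h0 => ?_⟩
    · rw [map_add, map_smul, smul_eq_mul] at h0
      rw [eq_div_iff ha]
      exact eq_neg_of_add_eq_zero_left h0
    · rw [map_add, map_smul, smul_eq_mul] at h0
      by_cases hga : g a = 0
      · rw [hga, mul_zero, zero_add] at h0
        exact hb h0
      · refine ht.2 ?_
        rw [eq_div_iff hga]
        exact eq_neg_of_add_eq_zero_left h0
  have hhw : h w = 0 := (mul_eq_zero.1 (hz w)).resolve_left (mul_ne_zero hwf hwg)
  refine LinearMap.ext fun u => ?_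
  obtain ⟨t, ht⟩ := exists_avoid ({-(f u) / f w, -(g u) / g w} : Finset F)
  simp only [Finset.mem_insert, Finset.mem_singleton, not_or] at ht
  have h1 := hz (u + t • w)
  simp only [map_add, map_smul, smul_eq_mul, hhw, mul_zero, add_zero] at h1
  refine (mul_eq_zero.1 h1).resolve_left (mul_ne_zero (fun h0 => ht.1 ?_) fun h0 => ht.2 ?_)
  · rw [eq_div_iff hwf]
    exact eq_neg_of_add_eq_zero_right h0
  · rw [eq_div_iff hwg]
    exact eq_neg_of_add_eq_zero_right h0

/-- Partial maps of rank at most one have a common kernel or a common image. -/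
theorem rank_le_one [Infinite F] [FiniteDimensional F V] [FiniteDimensional F W] (hV : 2 ≤ finrank F V)
    (β : V →ₗ[F] V →ₗ[F] W) (h1 : ∀ u, finrank F (LinearMap.range (β u)) ≤ 1) :
    (∃ v, v ≠ 0 ∧ ∀ u, β u v = 0) ∨ ∃ e, ∀ u v, β u v ∈ F ∙ e := by
  classical
  haveI : Nontrivial V := Module.nontrivial_of_finrank_pos (R := F) (by omega)
  by_cases h0 : ∀ u v, β u v = 0
  · obtain ⟨v, hv⟩ := exists_ne (0 : V)
    exact Or.inl ⟨v, hv, fun u => h0 u v⟩
  push Not at h0
  obtain ⟨u₀, w, hw⟩ := h0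
  set e := β u₀ w
  have hdep : ∀ u a b, β u a ≠ 0 → ∃ t : F, β u b = t • β u a := by
    intro u a b ha
    have hle : (F ∙ β u a) ≤ LinearMap.range (β u) := by
      rw [Submodule.span_singleton_le_iff_mem]; exact ⟨a, rfl⟩
    have heq := Submodule.eq_of_le_of_finrank_le hle (by rw [finrank_span_singleton ha]; exact h1 u)
    obtain ⟨t, ht⟩ := Submodule.mem_span_singleton.1 (heq.ge ⟨b, rfl⟩)
    exact ⟨t, ht.symm⟩
  obtain ⟨v, hvk, hv⟩ : ∃ v ∈ LinearMap.ker (β u₀), v ≠ 0 := by
    refine Submodule.exists_mem_ne_zero_of_ne_bot fun hk => ?_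
    have := LinearMap.finrank_range_add_finrank_ker (β u₀)
    rw [hk, finrank_bot] at this
    have := h1 u₀
    omega
  have key : ∀ u, β u v ≠ 0 → β u v ∈ F ∙ e ∧ β u w ∈ F ∙ e := by
    intro u hu
    obtain ⟨s, hs⟩ := exists_avoid ({0, 1} : Finset F)
    simp only [Finset.mem_insert, Finset.mem_singleton, not_or] at hs
    have hv0 : β u₀ v = 0 := hvk
    have hadd : ∀ t : F, t ≠ 0 → ∃ c : F, e + t • β u w = c • β u v := by
      intro t ht
      obtain ⟨c, hc⟩ := hdep (u₀ + t • u) v w (by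
        rw [map_add, map_smul, LinearMap.add_apply, LinearMap.smul_apply, hv0, zero_add]
        exact smul_ne_zero ht hu)
      refine ⟨c * t, ?_⟩
      rw [map_add, map_smul, LinearMap.add_apply, LinearMap.smul_apply, LinearMap.add_apply,
        LinearMap.smul_apply, hv0, zero_add, smul_smul] at hc
      exact hc
    obtain ⟨a, ha⟩ := hadd 1 one_ne_zero
    obtain ⟨b, hb⟩ := hadd s hs.1
    rw [one_smul] at ha
    have he : (s - 1) • e = (s * a - b) • β u v := by linear_combination (norm := module) s • ha - hb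
    have hne : s * a - b ≠ 0 := by
      intro h'
      rw [h', zero_smul, smul_eq_zero] at he
      exact he.elim (fun h'' => hs.2 (sub_eq_zero.1 h'')) hw
    have h2 : β u v ∈ F ∙ e := by
      refine Submodule.mem_span_singleton.2 ⟨(s * a - b)⁻¹ * (s - 1), ?_⟩
      rw [← smul_smul, he, smul_smul, inv_mul_cancel₀ hne, one_smul]
    refine ⟨h2, ?_⟩
    rw [eq_sub_of_add_eq' ha]
    exact Submodule.sub_mem _ (Submodule.smul_mem _ _ h2) (Submodule.mem_span_singleton_self e)
  by_cases hall : ∀ u, β u v = 0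
  · exact Or.inl ⟨v, hv, hall⟩
  push Not at hall
  obtain ⟨u₁, hu₁⟩ := hall
  refine Or.inr ⟨e, fun u a => ?_⟩
  have hw' : β u w ∈ F ∙ e := by
    by_cases hu : β u v = 0
    · have h2 := key (u + u₁) (by rw [map_add, LinearMap.add_apply, hu, zero_add]; exact hu₁)
      have h3 := Submodule.sub_mem _ h2.2 (key u₁ hu₁).2
      rwa [map_add, LinearMap.add_apply, add_sub_cancel_right] at h3
    · exact (key u hu).2
  by_cases huw : β u w = 0
  · by_cases hua : β u a = 0
    · rw [hua]; exact Submodule.zero_mem _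
    · -- a line meeting the image
      by_cases huv : β u v = 0
      · obtain ⟨t, ht⟩ := hdep (u + u₁) v a (by rw [map_add, LinearMap.add_apply, huv, zero_add]; exact hu₁)
        obtain ⟨t', ht'⟩ := hdep u₁ v a hu₁
        rw [map_add, LinearMap.add_apply, LinearMap.add_apply, huv, zero_add, ht'] at ht
        rw [eq_sub_of_add_eq ht]
        exact Submodule.sub_mem _ (Submodule.smul_mem _ _ (key u₁ hu₁).1)
          (Submodule.smul_mem _ _ (key u₁ hu₁).1)
      · obtain ⟨t, ht⟩ := hdep u v a huv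
        rw [ht]
        exact Submodule.smul_mem _ _ (key u huv).1
  · obtain ⟨t, ht⟩ := hdep u w a huw
    rw [ht]
    exact Submodule.smul_mem _ _ hw'

/-- The three kinds of products with singular partial maps in dimension three. -/
theorem singular_three [Infinite F] [FiniteDimensional F V] [FiniteDimensional F W]
    (hV : finrank F V = 3) (hW : finrank F W = 3) (β : V →ₗ[F] V →ₗ[F] W)
    (hspan : ∀ U : Submodule F W, (∀ u v, β u v ∈ U) → U = ⊤)
    (hsing : ∀ u, ∃ v, v ≠ 0 ∧ β u v = 0) :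
    (∃ v, v ≠ 0 ∧ ∀ u, β u v = 0) ∨
      (∃ z₁ z₂ : V, ∃ e : W, (∀ s t : F, s • z₁ + t • z₂ = 0 → s = 0 ∧ t = 0) ∧
        ∀ u, β u z₁ ∈ F ∙ e ∧ β u z₂ ∈ F ∙ e) ∨
      ∃ φ : V →ₗ[F] V, Function.Injective φ ∧ ∀ u, β u (φ u) = 0 := by
  classical
  by_cases hr : ∀ u, finrank F (LinearMap.range (β u)) ≤ 1
  · rcases rank_le_one (by omega) β hr with h | ⟨e, he⟩
    · exact Or.inl h
    · have h1 := congrArg (fun U : Submodule F W => finrank F U) (hspan _ he)
      have h2 : finrank F (F ∙ e) ≤ 1 := (finrank_span_le_card ({e} : Set W)).trans (by simp)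
      rw [finrank_top, hW] at h1
      omega
  push Not at hr
  obtain ⟨u₀, hu₀⟩ := hr
  obtain ⟨v₃, hv₃, hv₃'⟩ := hsing u₀
  obtain ⟨a, ha⟩ := exists_linearIndependent_of_le_finrank (R := F) (M := LinearMap.range (β u₀))
    (n := 2) hu₀
  choose vv hvv using fun i => (a i).2
  have hA0 : LinearIndependent F (fun i => β u₀ (vv i)) := by
    simp only [hvv]
    exact ha.map' (LinearMap.range (β u₀)).subtype (Submodule.ker_subtype _)
  have hA : ∀ s t : F, s • β u₀ (vv 0) + t • β u₀ (vv 1) = 0 → s = 0 ∧ t = 0 := fun s t hst => by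
    have := Fintype.linearIndependent_iff.1 hA0 ![s, t] (by simpa [Fin.sum_univ_two] using hst)
    exact ⟨this 0, this 1⟩
  have hEli : LinearIndependent F ![vv 0, vv 1, v₃] := by
    refine Fintype.linearIndependent_iff.2 fun g hg => ?_
    simp only [Fin.sum_univ_three, Matrix.cons_val_zero, Matrix.cons_val_one, Matrix.cons_val] at hg
    have h1 := congrArg (β u₀) hg
    rw [map_add, map_add, map_smul, map_smul, map_smul, hv₃', smul_zero, add_zero, map_zero] at h1
    obtain ⟨g0, g1⟩ := hA _ _ h1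
    rw [g0, g1, zero_smul, zero_smul, zero_add, zero_add] at hg
    intro i
    fin_cases i
    · exact g0
    · exact g1
    · exact (smul_eq_zero.1 hg).resolve_right hv₃
  obtain ⟨f₃, hf₃⟩ : ∃ f₃ : W, f₃ ∉ Submodule.span F (Set.range fun i => β u₀ (vv i)) := by
    by_contra hn
    push Not at hn
    have h1 := finrank_range_le_card (R := F) (fun i => β u₀ (vv i))
    rw [Set.finrank, Submodule.eq_top_iff'.2 hn, finrank_top, hW, Fintype.card_fin] at h1
    omega
  have hFli : LinearIndependent F ![β u₀ (vv 0), β u₀ (vv 1), f₃] := by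
    refine Fintype.linearIndependent_iff.2 fun g hg => ?_
    simp only [Fin.sum_univ_three, Matrix.cons_val_zero, Matrix.cons_val_one, Matrix.cons_val] at hg
    have g2 : g 2 = 0 := by
      by_contra g2
      refine hf₃ ?_
      have : f₃ = -((g 2)⁻¹ * g 0) • β u₀ (vv 0) + -((g 2)⁻¹ * g 1) • β u₀ (vv 1) := by
        apply smul_right_injective _ g2
        show g 2 • f₃ = g 2 • _
        rw [smul_add, smul_smul, smul_smul, mul_neg, mul_neg, ← mul_assoc, ← mul_assoc,
          mul_inv_cancel₀ g2, one_mul, one_mul]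
        linear_combination (norm := module) hg
      rw [this]
      exact Submodule.add_mem _ (Submodule.smul_mem _ _ (Submodule.subset_span ⟨0, rfl⟩))
        (Submodule.smul_mem _ _ (Submodule.subset_span ⟨1, rfl⟩))
    rw [g2, zero_smul, add_zero] at hg
    obtain ⟨g0, g1⟩ := hA _ _ hg
    intro i
    fin_cases i
    · exact g0
    · exact g1
    · exact g2
  set bV := basisOfLinearIndependentOfCardEqFinrank hEli (by rw [Fintype.card_fin, hV]) with hbV
  set bW := basisOfLinearIndependentOfCardEqFinrank hFli (by rw [Fintype.card_fin, hW]) with hbW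
  have bV_apply : ∀ i, bV i = ![vv 0, vv 1, v₃] i := fun i => by simp [hbV]
  have bW_apply : ∀ i, bW i = ![β u₀ (vv 0), β u₀ (vv 1), f₃] i := fun i => by simp [hbW]
  set m : Fin 3 → Fin 3 → V →ₗ[F] F := fun i j => (bW.coord i).comp (β.flip (bV j)) with hm
  have hmv : ∀ i j u, m i j u = bW.repr (β u (bV j)) i := fun i j u => rfl
  have hexp : ∀ u j, β u (bV j) = m 0 j u • bW 0 + m 1 j u • bW 1 + m 2 j u • bW 2 := fun u j => by
    conv_lhs => rw [← bW.sum_repr (β u (bV j)), Fin.sum_univ_three]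
    rfl
  have hm₀ : ∀ i j, m i j u₀ = if i = j ∧ j ≠ 2 then 1 else 0 := by
    intro i j
    rw [hmv, bV_apply]
    fin_cases j
    · rw [show β u₀ (![vv 0, vv 1, v₃] ((fun k => k) ⟨0, by omega⟩)) = bW 0 by rw [bW_apply]; rfl,
        bW.repr_self]
      fin_cases i <;> simp
    · rw [show β u₀ (![vv 0, vv 1, v₃] ((fun k => k) ⟨1, by omega⟩)) = bW 1 by rw [bW_apply]; rfl,
        bW.repr_self]
      fin_cases i <;> simp
    · simp only [Fin.reduceFinMk, Matrix.cons_val]
      rw [hv₃', map_zero]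
      fin_cases i <;> simp
  have hdet : ∀ u, m 0 0 u * m 1 1 u * m 2 2 u - m 0 0 u * m 1 2 u * m 2 1 u
      - m 0 1 u * m 1 0 u * m 2 2 u + m 0 1 u * m 1 2 u * m 2 0 u
      + m 0 2 u * m 1 0 u * m 2 1 u - m 0 2 u * m 1 1 u * m 2 0 u = 0 := by
    intro u
    obtain ⟨v, hv, hv0⟩ := hsing u
    have hd : (LinearMap.toMatrix bV bW (β u)).det = 0 := by
      refine Matrix.exists_mulVec_eq_zero_iff.1 ⟨bV.repr v, fun h0 => hv ?_, ?_⟩
      · exact bV.repr.map_eq_zero_iff.1 (DFunLike.coe_injective h0)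
      · rw [LinearMap.toMatrix_mulVec_repr, hv0, map_zero, Finsupp.coe_zero]
    rw [Matrix.det_fin_three] at hd
    simpa only [LinearMap.toMatrix_apply, ← hmv] using hd
  have hlin : ∀ u, m 2 2 u = 0 ∧ m 0 2 u * m 2 0 u + m 1 2 u * m 2 1 u = 0 := by
    intro u
    obtain ⟨s, hs⟩ := exists_avoid ({0, 1} : Finset F)
    simp only [Finset.mem_insert, Finset.mem_singleton, not_or] at hs
    set B := m 0 0 u * m 2 2 u + m 1 1 u * m 2 2 u - m 0 2 u * m 2 0 u - m 1 2 u * m 2 1 u with hB
    have key : ∀ t : F, t * t * m 2 2 u + t * B = 0 := by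
      intro t
      have h0 := hdet u
      have h1 := hdet (u + t • u₀)
      simp only [map_add, map_smul, smul_eq_mul, hm₀, ne_eq, true_and, and_false, false_and,
        if_false, mul_one, mul_zero, add_zero, Fin.reduceEq, not_false_eq_true, not_true_eq_false,
        if_true] at h1
      rw [hB]
      linear_combination h1 - h0
    have e1 := key 1
    have e2 := key s
    have e3 : (s * s - s) * m 2 2 u = 0 := by linear_combination e2 - s * e1
    have h22 : m 2 2 u = 0 := by
      refine (mul_eq_zero.1 e3).resolve_left ?_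
      rw [show s * s - s = s * (s - 1) by ring]
      exact mul_ne_zero hs.1 (sub_ne_zero.2 hs.2)
    refine ⟨h22, ?_⟩
    rw [hB, h22] at e1
    linear_combination -1 * e1
  have hdet' : ∀ u, m 0 2 u * (m 1 0 u * m 2 1 u - m 1 1 u * m 2 0 u)
      - m 1 2 u * (m 0 0 u * m 2 1 u - m 0 1 u * m 2 0 u) = 0 := fun u => by
    have h := hdet u
    rw [(hlin u).1] at h
    linear_combination h
  have hcol : ∀ u, β u (bV 2) = m 0 2 u • bW 0 + m 1 2 u • bW 1 := fun u => by
    rw [hexp, (hlin u).1, zero_smul, add_zero]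
  by_cases hr0 : m 0 2 = 0 ∧ m 1 2 = 0
  · refine Or.inl ⟨bV 2, bV.ne_zero 2, fun u => ?_⟩
    rw [hcol, hr0.1, hr0.2, LinearMap.zero_apply, zero_smul, zero_smul, add_zero]
  have hp0 : ¬ (m 2 0 = 0 ∧ m 2 1 = 0) := by
    rintro ⟨h20, h21⟩
    have := hspan (LinearMap.ker (bW.coord 2)) fun u v => by
      rw [LinearMap.mem_ker, ← bV.sum_repr v, map_sum, map_sum, Fin.sum_univ_three]
      simp only [map_smul]
      rw [show bW.coord 2 (β u (bV 0)) = 0 from LinearMap.congr_fun h20 u,
        show bW.coord 2 (β u (bV 1)) = 0 from LinearMap.congr_fun h21 u,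
        show bW.coord 2 (β u (bV 2)) = 0 from (hlin u).1]
      simp
    have h2 : bW 2 ∈ LinearMap.ker (bW.coord 2) := this ▸ Submodule.mem_top
    simp at h2
  by_cases hrk : ∀ u u', m 2 0 u * m 2 1 u' - m 2 1 u * m 2 0 u' = 0
  · -- the last row is one form
    refine Or.inr (Or.inl ?_)
    obtain ⟨P, π, hP, hπ⟩ : ∃ P : F × F, ∃ π : V →ₗ[F] F,
        P ≠ 0 ∧ ∀ u, m 2 0 u = π u * P.1 ∧ m 2 1 u = π u * P.2 := by
      by_cases h : m 2 0 = 0
      · exact ⟨(0, 1), m 2 1, by simp, fun u => by simp [h]⟩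
      obtain ⟨w, hw⟩ : ∃ w, m 2 0 w ≠ 0 := by
        by_contra hn
        push Not at hn
        exact h (LinearMap.ext hn)
      refine ⟨(1, (m 2 0 w)⁻¹ * m 2 1 w), m 2 0, by simp, fun u => ⟨(mul_one _).symm, ?_⟩⟩
      have := hrk u w
      field_simp
      linear_combination -1 * this
    have hπ0 : π ≠ 0 := fun h => hp0 ⟨LinearMap.ext fun u => by rw [(hπ u).1, h]; simp,
      LinearMap.ext fun u => by rw [(hπ u).2, h]; simp⟩
    have hPr : P.1 • m 0 2 + P.2 • m 1 2 = 0 := eq_zero_of_mul π π _ hπ0 hπ0 fun u => by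
      have := (hlin u).2
      rw [(hπ u).1, (hπ u).2] at this
      simp only [LinearMap.add_apply, LinearMap.smul_apply, smul_eq_mul]
      linear_combination π u * this
    have hPr' : ∀ u, P.1 * m 0 2 u + P.2 * m 1 2 u = 0 := fun u => LinearMap.congr_fun hPr u
    obtain ⟨ρ, hρ⟩ : ∃ ρ : V →ₗ[F] F, ∀ u, m 0 2 u = ρ u * -P.2 ∧ m 1 2 u = ρ u * P.1 := by
      by_cases h1 : P.1 = 0
      · have h2 : P.2 ≠ 0 := fun h2 => hP (Prod.ext h1 h2)
        refine ⟨(-P.2)⁻¹ • m 0 2, fun u => ?_⟩
        have := hPr' u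
        rw [h1, zero_mul, zero_add] at this
        simp [h1, (mul_eq_zero.1 this).resolve_left h2, mul_comm, h2]
      · refine ⟨P.1⁻¹ • m 1 2, fun u => ?_⟩
        have := hPr' u
        simp only [LinearMap.smul_apply, smul_eq_mul]
        refine ⟨?_, by field_simp⟩
        field_simp
        linear_combination this
    have hρ0 : ρ ≠ 0 := fun h => hr0 ⟨LinearMap.ext fun u => by rw [(hρ u).1, h]; simp,
      LinearMap.ext fun u => by rw [(hρ u).2, h]; simp⟩
    have hΩ : -P.2 • (-P.2 • m 1 0 + P.1 • m 1 1) - P.1 • (-P.2 • m 0 0 + P.1 • m 0 1) = 0 :=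
      eq_zero_of_mul π ρ _ hπ0 hρ0 fun u => by
        have := hdet' u
        rw [(hπ u).1, (hπ u).2, (hρ u).1, (hρ u).2] at this
        simp only [LinearMap.sub_apply, LinearMap.add_apply, LinearMap.smul_apply, smul_eq_mul]
        linear_combination -1 * this
    set e := -P.2 • bW 0 + P.1 • bW 1
    refine ⟨-P.2 • bV 0 + P.1 • bV 1, bV 2, e, fun s t hst => ?_, fun u => ⟨?_, ?_⟩⟩
    · have h0 := congrArg (fun v => bV.repr v 0) hst
      have h1 := congrArg (fun v => bV.repr v 1) hst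
      have h2 := congrArg (fun v => bV.repr v 2) hst
      simp [Finsupp.single_apply] at h0 h1 h2
      refine ⟨?_, h2⟩
      rcases h1 with h | h
      · exact h
      · exact h0.resolve_right fun h' => hP (Prod.ext h h')
    · have hΩu := LinearMap.congr_fun hΩ u
      simp only [LinearMap.sub_apply, LinearMap.add_apply, LinearMap.smul_apply, smul_eq_mul,
        LinearMap.zero_apply] at hΩu
      rw [map_add, map_smul, map_smul, hexp, hexp, (hπ u).1, (hπ u).2]
      set A := -P.2 * m 0 0 u + P.1 * m 0 1 u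
      set B := -P.2 * m 1 0 u + P.1 * m 1 1 u
      have hAB : -P.2 * B - P.1 * A = 0 := hΩu
      have hgoal : -P.2 • (m 0 0 u • bW 0 + m 1 0 u • bW 1 + (π u * P.1) • bW 2) +
          P.1 • (m 0 1 u • bW 0 + m 1 1 u • bW 1 + (π u * P.2) • bW 2) =
          A • bW 0 + B • bW 1 := by simp only [A, B]; module
      rw [hgoal]
      by_cases h1 : P.1 = 0
      · have h2 : P.2 ≠ 0 := fun h2 => hP (Prod.ext h1 h2)
        rw [h1, zero_mul, sub_zero] at hAB
        have hB : B = 0 := (mul_eq_zero.1 hAB).resolve_left (neg_ne_zero.2 h2)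
        refine Submodule.mem_span_singleton.2 ⟨(-P.2)⁻¹ * A, ?_⟩
        rw [hB]
        simp [e, h1, smul_smul, h2, mul_comm _ P.2]
      · refine Submodule.mem_span_singleton.2 ⟨P.1⁻¹ * B, ?_⟩
        have hA' : A = (P.1⁻¹ * B) * -P.2 := by
          field_simp
          linear_combination -1 * hAB
        rw [hA']
        simp only [e, smul_add, smul_smul]
        rw [mul_assoc _ B P.1, mul_comm B P.1, ← mul_assoc, inv_mul_cancel₀ h1, one_mul]
    · rw [hcol, (hρ u).1, (hρ u).2]
      exact Submodule.mem_span_singleton.2 ⟨ρ u, by simp only [e]; module⟩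
  -- the last row is two forms
  push Not at hrk
  obtain ⟨a, b, hab⟩ := hrk
  set D := m 2 0 a * m 2 1 b - m 2 1 a * m 2 0 b with hD
  set u₁ := D⁻¹ • (m 2 1 b • a - m 2 1 a • b) with hu₁
  set u₂ := D⁻¹ • (-m 2 0 b • a + m 2 0 a • b) with hu₂
  have h101 : m 2 0 u₁ = 1 := by
    simp only [hu₁, map_smul, map_sub, smul_eq_mul]
    rw [show m 2 1 b * m 2 0 a - m 2 1 a * m 2 0 b = D by rw [hD]; ring, inv_mul_cancel₀ hab]
  have h111 : m 2 1 u₁ = 0 := by simp only [hu₁, map_smul, map_sub, smul_eq_mul]; ring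
  have h102 : m 2 0 u₂ = 0 := by simp only [hu₂, map_smul, map_add, smul_eq_mul]; ring
  have h112 : m 2 1 u₂ = 1 := by
    simp only [hu₂, map_smul, map_add, smul_eq_mul]
    rw [show -m 2 0 b * m 2 1 a + m 2 0 a * m 2 1 b = D by rw [hD]; ring, inv_mul_cancel₀ hab]
  have hUli : LinearIndependent F ![u₁, u₂, u₀] := by
    refine Fintype.linearIndependent_iff.2 fun g hg => ?_
    simp only [Fin.sum_univ_three, Matrix.cons_val_zero, Matrix.cons_val_one, Matrix.cons_val] at hg
    have g0 := congrArg (m 2 0) hg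
    have g1 := congrArg (m 2 1) hg
    have g2 := congrArg (m 0 0) hg
    simp only [map_add, map_smul, map_zero, smul_eq_mul, h101, h111, h102, h112, hm₀] at g0 g1 g2
    simp at g0 g1
    simp [g0, g1] at g2
    intro i
    fin_cases i <;> assumption
  set bU := basisOfLinearIndependentOfCardEqFinrank hUli (by rw [Fintype.card_fin, hV]) with hbU
  have hform : ∀ ψ : V →ₗ[F] F, ψ u₀ = 0 →
      ∀ u, ψ u = m 2 0 u * ψ u₁ + m 2 1 u * ψ u₂ := by
    intro ψ hψ u
    have key : ψ = ψ u₁ • m 2 0 + ψ u₂ • m 2 1 := by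
      refine bU.ext fun i => ?_
      simp only [hbU, coe_basisOfLinearIndependentOfCardEqFinrank]
      fin_cases i <;> simp [h101, h111, h102, h112, hψ, hm₀]
    conv_lhs => rw [key]
    simp only [LinearMap.add_apply, LinearMap.smul_apply, smul_eq_mul]
    ring
  have hr02 := hform (m 0 2) (by rw [hm₀]; simp)
  have hr12 := hform (m 1 2) (by rw [hm₀]; simp)
  set τ := m 1 2 u₁ with hτdef
  have e11 : m 0 2 u₁ = 0 := by
    have := (hlin u₁).2
    rwa [h101, h111, mul_one, mul_zero, add_zero] at this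
  have e22 : m 1 2 u₂ = 0 := by
    have := (hlin u₂).2
    rwa [h102, h112, mul_one, mul_zero, zero_add] at this
  have e12 : m 0 2 u₂ = -τ := by
    have := (hlin (u₁ + u₂)).2
    simp only [map_add, h101, h111, h102, h112, e11, e22, ← hτdef] at this
    linear_combination this
  have hr02' : ∀ u, m 0 2 u = -τ * m 2 1 u := fun u => by rw [hr02, e11, e12]; ring
  have hr12' : ∀ u, m 1 2 u = τ * m 2 0 u := fun u => by rw [hr12, e22]; ring
  have hτ : τ ≠ 0 := fun h => hr0 ⟨LinearMap.ext fun u => by rw [hr02', h]; simp,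
    LinearMap.ext fun u => by rw [hr12', h]; simp⟩
  have hb := hform (m 0 1) (by rw [hm₀]; simp)
  have hc := hform (m 1 0) (by rw [hm₀]; simp)
  have hd := hform (m 1 1 - m 0 0) (by simp [hm₀])
  set b1 := m 0 1 u₁
  set b2 := m 0 1 u₂
  set c1 := m 1 0 u₁
  set c2 := m 1 0 u₂
  set e1 := (m 1 1 - m 0 0) u₁
  set e2 := (m 1 1 - m 0 0) u₂
  have hcub : ∀ X Y : F, (X * b1 + Y * b2) * X ^ 2 + (X * e1 + Y * e2) * X * Y
      - (X * c1 + Y * c2) * Y ^ 2 = 0 := by
    intro X Y
    have hXY0 : m 2 0 (X • u₁ + Y • u₂) = X := by simp [h101, h102]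
    have hXY1 : m 2 1 (X • u₁ + Y • u₂) = Y := by simp [h111, h112]
    have h := hdet' (X • u₁ + Y • u₂)
    rw [hr02', hr12'] at h
    have hbb := hb (X • u₁ + Y • u₂)
    have hcc := hc (X • u₁ + Y • u₂)
    have hdd := hd (X • u₁ + Y • u₂)
    rw [hXY0, hXY1] at h hbb hcc hdd
    rw [LinearMap.sub_apply] at hdd
    refine (mul_eq_zero.1 (?_ : τ * _ = 0)).resolve_left hτ
    linear_combination h - τ * X ^ 2 * hbb - τ * X * Y * hdd + τ * Y ^ 2 * hcc
  have hb1 : b1 = 0 := by have := hcub 1 0; linear_combination this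
  have hc2 : c2 = 0 := by have := hcub 0 1; linear_combination -1 * this
  obtain ⟨s, hs⟩ := exists_avoid ({0, 1} : Finset F)
  simp only [Finset.mem_insert, Finset.mem_singleton, not_or] at hs
  have hS : b2 + e1 + (e2 - c1) = 0 := by have := hcub 1 1; rw [hb1, hc2] at this; linear_combination this
  have hS' : s * (b2 + e1) + s ^ 2 * (e2 - c1) = 0 := by
    have := hcub 1 s; rw [hb1, hc2] at this; linear_combination this
  have he2 : e2 - c1 = 0 := by
    have : (s ^ 2 - s) * (e2 - c1) = 0 := by linear_combination hS' - s * hS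
    refine (mul_eq_zero.1 this).resolve_left ?_
    rw [show s ^ 2 - s = s * (s - 1) by ring]
    exact mul_ne_zero hs.1 (sub_ne_zero.2 hs.2)
  have he1 : b2 + e1 = 0 := by linear_combination hS - he2
  set k₂ : V →ₗ[F] F := τ⁻¹ • (m 0 0 - b2 • m 2 0) with hk₂
  set φ : V →ₗ[F] V := (m 2 1).smulRight (bV 0) - (m 2 0).smulRight (bV 1) + k₂.smulRight (bV 2)
  refine Or.inr (Or.inr ⟨φ, ?_, fun u => ?_⟩)
  · refine LinearMap.ker_eq_bot.1 (LinearMap.ker_eq_bot'.2 fun u hu => ?_)
    have g1 := congrArg (fun v => bV.repr v 0) hu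
    have g0 := congrArg (fun v => bV.repr v 1) hu
    have g2 := congrArg (fun v => bV.repr v 2) hu
    simp [φ, Finsupp.single_apply] at g0 g1 g2
    simp [hk₂, hτ, g0] at g2
    rw [← bU.sum_repr u] at g0 g1 g2 ⊢
    simp [hbU, Fin.sum_univ_three, h101, h111, h102, h112, hm₀] at g0 g1 g2 ⊢
    simp [g0, g1] at g2 ⊢
    simp [g2]
  · have hk : τ * k₂ u = m 0 0 u - b2 * m 2 0 u := by
      simp only [hk₂, LinearMap.smul_apply, LinearMap.sub_apply, smul_eq_mul]
      rw [← mul_assoc, mul_inv_cancel₀ hτ, one_mul]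
    have hbu : m 0 1 u = m 2 1 u * b2 := by rw [hb, hb1, mul_zero, zero_add]
    have hcu : m 1 0 u = m 2 0 u * c1 := by rw [hc, hc2, mul_zero, add_zero]
    have hdu : m 1 1 u = m 0 0 u + (m 2 0 u * e1 + m 2 1 u * e2) := by
      have := hd u
      rw [LinearMap.sub_apply] at this
      linear_combination this
    have row0 : m 2 1 u * m 0 0 u - m 2 0 u * m 0 1 u + k₂ u * m 0 2 u = 0 := by
      rw [hr02']
      linear_combination -1 * m 2 0 u * hbu - m 2 1 u * hk
    have row1 : m 2 1 u * m 1 0 u - m 2 0 u * m 1 1 u + k₂ u * m 1 2 u = 0 := by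
      rw [hr12']
      linear_combination m 2 1 u * hcu - m 2 0 u * hdu + m 2 0 u * hk
        - m 2 0 u ^ 2 * he1 - m 2 0 u * m 2 1 u * he2
    have hφ : φ u = m 2 1 u • bV 0 - m 2 0 u • bV 1 + k₂ u • bV 2 := rfl
    rw [hφ, map_add, map_sub, map_smul, map_smul, map_smul, hexp, hexp, hexp, (hlin u).1]
    calc _ = (m 2 1 u * m 0 0 u - m 2 0 u * m 0 1 u + k₂ u * m 0 2 u) • bW 0 +
          (m 2 1 u * m 1 0 u - m 2 0 u * m 1 1 u + k₂ u * m 1 2 u) • bW 1 := by module
      _ = 0 := by rw [row0, row1, zero_smul, zero_smul, add_zero]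

end Cfsg.Agent.Blocks.FiveTraces.Singular
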