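import Cfsg.Agent.Lib.Blocks.FiveTraces.ThreeBasic
import Cfsg.Agent.Lib.Blocks.FiveTraces.Cyclic

/-!
# Three generators with a regular element
-/

set_option linter.unusedSectionVars false

namespace Cfsg.Agent.Blocks.FiveTraces

open Module
open scoped Pointwise

universe u v

variable {F : Type u} [Field F] {𝒜 : Type v} [Ring 𝒜] [Algebra F 𝒜]
  {lam : 𝒜 →ₗ[F] F} {N : Submodule F 𝒜}

/-- An element whose left and right multiples fill the square modulo the cube. -/
structure Regular (N : Submodule F 𝒜) (u : 𝒜) : Prop where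
  mem : u ∈ N
  left : N ^ 2 ≤ N.map (LinearMap.mulLeft F u) ⊔ N ^ 3
  right : N ^ 2 ≤ N.map (LinearMap.mulRight F u) ⊔ N ^ 3

namespace Setting

variable (h : Setting lam N)
include h

theorem pow_le_mulLeft {u : 𝒜} (hu : Regular N u) {n : ℕ} (hn : 1 ≤ n) :
    N ^ (n + 1) ≤ (N ^ n).map (LinearMap.mulLeft F u) ⊔ N ^ (n + 2) := by
  induction n, hn using Nat.le_induction with
  | base => rw [pow_one]; exact hu.left
  | succ n hn ih =>
    rw [pow_succ N (n + 1)]
    refine Submodule.mul_le.2 fun a ha b hb => ?_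
    obtain ⟨_, ⟨a', ha', rfl⟩, r, hr, rfl⟩ := Submodule.mem_sup.1 (ih ha)
    rw [add_mul]
    refine Submodule.add_mem _ (Submodule.mem_sup_left ⟨a' * b, ?_, (mul_assoc u a' b).symm⟩)
      (Submodule.mem_sup_right ?_)
    · show a' * b ∈ N ^ (n + 1)
      rw [pow_succ]
      exact Submodule.mul_mem_mul ha' hb
    · rw [show n + 1 + 2 = n + 2 + 1 by omega, pow_succ]
      exact Submodule.mul_mem_mul hr hb

variable [FiniteDimensional F 𝒜]

/-- The dimension of the annihilator of a regular element on a layer. -/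
theorem finrank_mulLeft_ker {u : 𝒜} (hu : Regular N u) {n : ℕ} (hn : 1 ≤ n) :
    finrank F ↥(N ^ n ⊓ (N ^ (n + 2)).comap (LinearMap.mulLeft F u)) + finrank F ↥(N ^ (n + 1)) =
      finrank F ↥(N ^ n) + finrank F ↥(N ^ (n + 2)) := by
  set g := ((cl N (n + 2)).comp (LinearMap.mulLeft F u)).domRestrict (N ^ n) with hg
  have hker : LinearMap.ker g =
      (N ^ n ⊓ (N ^ (n + 2)).comap (LinearMap.mulLeft F u)).comap (N ^ n).subtype := by
    ext x
    rw [LinearMap.mem_ker, Submodule.mem_comap]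
    exact ⟨fun hx => ⟨x.2, cl_eq_zero.1 hx⟩, fun hx => cl_eq_zero.2 hx.2⟩
  have hrange : LinearMap.range g = (N ^ (n + 1)).map (cl N (n + 2)) := by
    rw [hg, LinearMap.range_domRestrict, Submodule.map_comp]
    refine le_antisymm (Submodule.map_mono ?_) ?_
    · rw [Submodule.map_le_iff_le_comap]
      intro x hx
      show u * x ∈ N ^ (n + 1)
      rw [pow_succ']
      exact Submodule.mul_mem_mul hu.mem hx
    · refine (Submodule.map_mono (h.pow_le_mulLeft hu hn)).trans ?_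
      rw [Submodule.map_sup]
      refine sup_le le_rfl ?_
      rintro _ ⟨x, hx, rfl⟩
      rw [cl_eq_zero.2 hx]
      exact Submodule.zero_mem _
  have h1 := LinearMap.finrank_range_add_finrank_ker g
  rw [hrange, hker, LinearEquiv.finrank_eq (Submodule.comapSubtypeEquivOfLe inf_le_left)] at h1
  have h2 := h.finrank_layer (n := n + 1) (m := n + 2) (by omega) (by omega)
  omega

/-- Layers do not grow. -/
theorem layer_shift {u : 𝒜} (hu : Regular N u) {n : ℕ} (hn : 1 ≤ n) :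
    finrank F ↥(N ^ (n + 1)) + finrank F ↥(N ^ (n + 1)) ≤
      finrank F ↥(N ^ n) + finrank F ↥(N ^ (n + 2)) := by
  have h1 := h.finrank_mulLeft_ker hu hn
  have h2 : N ^ (n + 1) ≤ N ^ n ⊓ (N ^ (n + 2)).comap (LinearMap.mulLeft F u) :=
    le_inf (h.pow_succ_le n hn) fun x hx => by
      show u * x ∈ N ^ (n + 2)
      rw [pow_succ' N (n + 1)]
      exact Submodule.mul_mem_mul hu.mem hx
  have h3 := Submodule.finrank_mono h2
  omega

theorem mem_of_mulLeft {u : 𝒜} (hu : Regular N u) {n : ℕ} (hn : 1 ≤ n)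
    (hd : finrank F ↥(N ^ n) + finrank F ↥(N ^ (n + 2)) ≤
      finrank F ↥(N ^ (n + 1)) + finrank F ↥(N ^ (n + 1)))
    {a : 𝒜} (ha : a ∈ N ^ n) (hua : u * a ∈ N ^ (n + 2)) : a ∈ N ^ (n + 1) := by
  have h1 := h.finrank_mulLeft_ker hu hn
  have h2 : N ^ (n + 1) ≤ N ^ n ⊓ (N ^ (n + 2)).comap (LinearMap.mulLeft F u) :=
    le_inf (h.pow_succ_le n hn) fun x hx => by
      show u * x ∈ N ^ (n + 2)
      rw [pow_succ' N (n + 1)]
      exact Submodule.mul_mem_mul hu.mem hx
  exact (Submodule.eq_of_le_of_finrank_le h2 (by omega)).ge ⟨ha, hua⟩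

variable {ι : (Fin 3 → F) →ₗ[F] 𝒜}

/-- The layers are not of dimension two. -/
theorem false_of_rank_two (hT : Three N ι) {u : 𝒜} (hu : Regular N u)
    (hK : N ^ 2 ≤ comms N ⊔ N ^ 3)
    (h3 : finrank F ↥(N ^ 3) = finrank F ↥(N ^ 4) + 2)
    (h4 : finrank F ↥(N ^ 5) + 2 ≤ finrank F ↥(N ^ 4)) : False := by
  set f := ((cl N 4).comp (LinearMap.mulLeft F (u * u))).comp ι with hf
  obtain ⟨n₀, hn₀, hn⟩ : ∃ n₀ : Fin 3 → F, n₀ ≠ 0 ∧ u * u * ι n₀ ∈ N ^ 4 := by
    have hle : LinearMap.range f ≤ (N ^ 3).map (cl N 4) := by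
      rintro _ ⟨v, rfl⟩
      exact Submodule.mem_map_of_mem
        (mul_mem_pow (mul_mem_two hu.mem hu.mem) (mem_pow_one (hT.mem v)))
    have h1 := Submodule.finrank_mono hle
    have h2 := h.finrank_layer (n := 3) (m := 4) (by omega) (by omega)
    have hrk := LinearMap.finrank_range_add_finrank_ker f
    rw [Module.finrank_fin_fun] at hrk
    obtain ⟨x, hx, hx0⟩ := Submodule.exists_mem_ne_zero_of_ne_bot
      (show LinearMap.ker f ≠ ⊥ from fun hk => by rw [hk, finrank_bot] at hrk; omega)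
    exact ⟨x, hx0, cl_eq_zero.1 hx⟩
  set n := ι n₀
  have hnN : n ∈ N := hT.mem n₀
  have h35 : finrank F ↥(N ^ 3) + finrank F ↥(N ^ 5) ≤
      finrank F ↥(N ^ 4) + finrank F ↥(N ^ 4) := by omega
  have hinj : ∀ a ∈ N ^ 3, u * a ∈ N ^ 5 → a ∈ N ^ 4 := fun a ha hua =>
    h.mem_of_mulLeft hu (n := 3) (by omega) h35 ha hua
  -- everything between the regular element and n
  have hvun : ∀ w ∈ N, w * (u * n) ∈ N ^ 4 := by
    intro w hw
    have hw3 : w * (u * n) ∈ N ^ 3 := mul_mem_pow (mem_pow_one hw) (mul_mem_two hu.mem hnN)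
    refine hinj _ hw3 ?_
    obtain ⟨_, ⟨w', hw', rfl⟩, r, hr, hrw⟩ := Submodule.mem_sup.1 (hu.right (mul_mem_two hu.mem hw))
    rw [← mul_assoc, ← hrw, add_mul]
    refine (N ^ 5).add_mem ?_ (mul_mem_pow hr (mul_mem_two hu.mem hnN))
    show w' * u * (u * n) ∈ N ^ 5
    rw [mul_assoc, ← mul_assoc u u n]
    exact mul_mem_pow (mem_pow_one hw') hn
  set S := N ^ 2 ⊓ (N ^ 4).comap (LinearMap.mulLeft F u) with hS
  have hcomm : ∀ v ∈ N, n * v - v * n ∈ S := by
    intro v hv
    refine ⟨(N ^ 2).sub_mem (mul_mem_two hnN hv) (mul_mem_two hv hnN), ?_⟩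
    show u * (n * v - v * n) ∈ N ^ 4
    rw [mul_sub]
    refine (N ^ 4).sub_mem (hinj _ (mul_mem_pow (mem_pow_one hu.mem) (mul_mem_two hnN hv)) ?_) ?_
    · rw [← mul_assoc, ← mul_assoc, mul_assoc u u n, ← mul_assoc u u n]
      exact mul_mem_pow hn (mem_pow_one hv)
    · obtain ⟨_, ⟨v', hv', rfl⟩, r, hr, hrw⟩ := Submodule.mem_sup.1 (hu.right (mul_mem_two hu.mem hv))
      rw [← mul_assoc, ← hrw, add_mul]
      refine (N ^ 4).add_mem ?_ (mul_mem_pow hr (mem_pow_one hnN))
      show v' * u * n ∈ N ^ 4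
      rw [mul_assoc]
      exact hvun v' hv'
  obtain ⟨a, b, hbasis⟩ := exists_two_more hn₀
  have h3S : N ^ 3 ≤ S := le_inf (h.pow_anti (by omega) (by omega)) fun x hx => by
    show u * x ∈ N ^ 4
    exact mul_mem_pow (i := 1) (mem_pow_one hu.mem) hx
  have hle := h.sq_le_three hT hK hbasis (U := S ⊔ (F ∙ (ι a * ι b - ι b * ι a)))
    (h3S.trans le_sup_left) (Submodule.mem_sup_left (hcomm _ (hT.mem a)))
    (Submodule.mem_sup_left (hcomm _ (hT.mem b)))
    (Submodule.mem_sup_right (Submodule.mem_span_singleton_self _))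
  have e1 := Submodule.finrank_mono hle
  have e2 := Submodule.finrank_add_le_finrank_add_finrank S (F ∙ (ι a * ι b - ι b * ι a))
  have e3 : finrank F (F ∙ (ι a * ι b - ι b * ι a)) ≤ 1 :=
    (finrank_span_le_card ({ι a * ι b - ι b * ι a} : Set 𝒜)).trans (by simp)
  have e4 : finrank F ↥S + finrank F ↥(N ^ 3) = finrank F ↥(N ^ 2) + finrank F ↥(N ^ 4) :=
    h.finrank_mulLeft_ker hu (n := 2) (by omega)
  omega

/-- The layers are not of dimension three. -/
theorem false_of_rank_three [IsAlgClosed F] (hT : Three N ι) {u₀ : Fin 3 → F}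
    (hu : Regular N (ι u₀)) (hK3 : N ^ 2 ≤ comms N ⊔ N ^ 3) (hK4 : N ^ 2 ≤ comms N ⊔ N ^ 4)
    (h2 : finrank F ↥(N ^ 2) = finrank F ↥(N ^ 3) + 3)
    (h3 : finrank F ↥(N ^ 3) = finrank F ↥(N ^ 4) + 3) : False := by
  classical
  set u := ι u₀ with hud
  set P₂ := ((cl N 3).comp (LinearMap.mulLeft F u)).comp ι with hP₂
  set R₂ := ((cl N 3).comp (LinearMap.mulRight F u)).comp ι with hR₂
  set P₃ := ((cl N 4).comp (LinearMap.mulLeft F (u * u))).comp ι with hP₃
  have hd3 := h.finrank_layer (n := 2) (m := 3) (by omega) (by omega)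
  have hd4 := h.finrank_layer (n := 3) (m := 4) (by omega) (by omega)
  have hV : finrank F (Fin 3 → F) = 3 := Module.finrank_fin_fun F
  have hinj : ∀ {W : Type v} [AddCommGroup W] [Module F W] [FiniteDimensional F W]
      (g : (Fin 3 → F) →ₗ[F] W) (U : Submodule F W), finrank F U = 3 → U ≤ LinearMap.range g →
      Function.Injective g := by
    intro W _ _ _ g U hU hle
    have h1 := Submodule.finrank_mono hle
    have h2 := LinearMap.finrank_range_add_finrank_ker g
    rw [hV] at h2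
    exact LinearMap.ker_eq_bot.1 (Submodule.finrank_eq_zero.1 (by omega))
  have hN2L : N ^ 2 ≤ (LinearMap.range ι).map (LinearMap.mulLeft F u) ⊔ N ^ 3 := by
    refine hu.left.trans (sup_le ?_ le_sup_right)
    refine (Submodule.map_mono hT.gens).trans ?_
    rw [Submodule.map_sup]
    refine sup_le_sup_left ?_ _
    rw [Submodule.map_le_iff_le_comap]
    intro x hx
    exact mul_mem_pow (i := 1) (mem_pow_one hu.mem) hx
  have hN2R : N ^ 2 ≤ (LinearMap.range ι).map (LinearMap.mulRight F u) ⊔ N ^ 3 := by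
    refine hu.right.trans (sup_le ?_ le_sup_right)
    refine (Submodule.map_mono hT.gens).trans ?_
    rw [Submodule.map_sup]
    refine sup_le_sup_left ?_ _
    rw [Submodule.map_le_iff_le_comap]
    intro x hx
    exact mul_mem_pow (j := 1) hx (mem_pow_one hu.mem)
  have hN3 : N ^ 3 ≤ (LinearMap.range ι).map (LinearMap.mulLeft F (u * u)) ⊔ N ^ 4 := by
    refine (h.pow_le_mulLeft hu (n := 2) (by omega)).trans (sup_le ?_ le_sup_right)
    refine (Submodule.map_mono hN2L).trans ?_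
    rw [Submodule.map_sup, ← Submodule.map_comp, ← LinearMap.mulLeft_mul]
    refine sup_le_sup_left ?_ _
    rw [Submodule.map_le_iff_le_comap]
    intro x hx
    exact mul_mem_pow (i := 1) (mem_pow_one hu.mem) hx
  have hrange : ∀ {k : ℕ} {M : Submodule F 𝒜} (g : 𝒜 →ₗ[F] 𝒜),
      M ≤ (LinearMap.range ι).map g ⊔ N ^ k →
      M.map (cl N k) ≤ LinearMap.range (((cl N k).comp g).comp ι) := by
    intro k M g hle
    refine (Submodule.map_mono hle).trans ?_
    rw [Submodule.map_sup, LinearMap.range_comp, Submodule.map_comp]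
    refine sup_le le_rfl ?_
    rintro _ ⟨x, hx, rfl⟩
    rw [cl_eq_zero.2 hx]
    exact Submodule.zero_mem _
  have hr2 : (N ^ 2).map (cl N 3) ≤ LinearMap.range P₂ := hrange _ hN2L
  have hP₂i : Function.Injective P₂ := hinj P₂ _ (by omega) hr2
  have hR₂i : Function.Injective R₂ := hinj R₂ _ (by omega) (hrange _ hN2R)
  have hP₃i : Function.Injective P₃ := hinj P₃ _ (by omega) (hrange _ hN3)
  obtain ⟨g, hg⟩ := P₂.exists_leftInverse_of_injective (LinearMap.ker_eq_bot.2 hP₂i)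
  -- the product on the generators
  set M : (Fin 3 → F) →ₗ[F] (Fin 3 → F) →ₗ[F] (Fin 3 → F) :=
    ((LinearMap.mul F 𝒜).compl₁₂ ι ι).compr₂ (g.comp (cl N 3)) with hMd
  have hM : ∀ v w, cl N 3 (ι v * ι w) = cl N 3 (u * ι (M v w)) := by
    intro v w
    obtain ⟨x, hx⟩ := hr2 (Submodule.mem_map_of_mem (mul_mem_two (hT.mem v) (hT.mem w)))
    have hMx : M v w = x := by
      show g (cl N 3 (ι v * ι w)) = x
      rw [← hx]
      exact LinearMap.congr_fun hg x
    rw [hMx, ← hx]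
    rfl
  have hMu : ∀ w, M u₀ w = w := fun w => hP₂i (hM u₀ w).symm
  set θ := M.flip u₀ with hθd
  have hθ : ∀ v, cl N 3 (ι v * u) = cl N 3 (u * ι (θ v)) := fun v => hM v u₀
  have hθi : Function.Injective θ := by
    intro a b hab
    refine hR₂i ?_
    show cl N 3 (ι a * u) = cl N 3 (ι b * u)
    rw [hθ, hθ, hab]
  have h34 : (4 : ℕ) ≤ 3 + 1 := le_rfl
  have hA1 : ∀ a b c, cl N 4 (ι a * ι b * ι c) = P₃ (M (M a b) c) := by
    intro a b c
    calc cl N 4 (ι a * ι b * ι c) = cl N 4 (u * ι (M a b) * ι c) :=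
          h.mulR (by omega) h34 (hT.mem c) (hM a b)
      _ = cl N 4 (u * (ι (M a b) * ι c)) := by rw [mul_assoc]
      _ = cl N 4 (u * (u * ι (M (M a b) c))) := h.mulL (by omega) h34 hu.mem (hM _ c)
      _ = P₃ (M (M a b) c) := by rw [← mul_assoc]; rfl
  have hA2 : ∀ a b c, cl N 4 (ι a * ι b * ι c) = P₃ (M (θ a) (M b c)) := by
    intro a b c
    calc cl N 4 (ι a * ι b * ι c) = cl N 4 (ι a * (ι b * ι c)) := by rw [mul_assoc]
      _ = cl N 4 (ι a * (u * ι (M b c))) := h.mulL (by omega) h34 (hT.mem a) (hM b c)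
      _ = cl N 4 (ι a * u * ι (M b c)) := by rw [mul_assoc]
      _ = cl N 4 (u * ι (θ a) * ι (M b c)) := h.mulR (by omega) h34 (hT.mem _) (hθ a)
      _ = cl N 4 (u * (ι (θ a) * ι (M b c))) := by rw [mul_assoc]
      _ = cl N 4 (u * (u * ι (M (θ a) (M b c)))) := h.mulL (by omega) h34 hu.mem (hM _ _)
      _ = P₃ (M (θ a) (M b c)) := by rw [← mul_assoc]; rfl
  have hMM : ∀ a b c, M (M a b) c = M (θ a) (M b c) := fun a b c =>
    hP₃i ((hA1 a b c).symm.trans (hA2 a b c))
  have hθM : ∀ a b, θ (M a b) = M (θ a) (θ b) := fun a b => hMM a b u₀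
  set θe : (Fin 3 → F) ≃ₗ[F] (Fin 3 → F) := LinearEquiv.ofInjectiveEndo θ hθi with hθed
  have hθe : ∀ x, θe x = θ x := fun x => rfl
  have hθs : ∀ x, θ (θe.symm x) = x := fun x => θe.apply_symm_apply x
  set m := M.comp θe.symm.toLinearMap with hmd
  have hm : ∀ a b, m a b = M (θe.symm a) b := fun a b => rfl
  have hMm : ∀ a b, M a b = m (θ a) b := fun a b => by
    rw [hm, ← hθe, θe.symm_apply_apply]
  have hsM : ∀ a b, θe.symm (M a b) = M (θe.symm a) (θe.symm b) := fun a b => θe.injective (by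
    rw [θe.apply_symm_apply, hθe, hθM, hθs, hθs])
  have hθu : θ u₀ = u₀ := hMu u₀
  have hassoc : ∀ a b c, m (m a b) c = m a (m b c) := fun a b c => by
    simp only [hm]
    rw [hsM, hMM, hθs]
  have h1m : ∀ a, m u₀ a = a := fun a => by
    rw [hm, show θe.symm u₀ = u₀ from θe.injective (by rw [θe.apply_symm_apply, hθe, hθu]), hMu]
  have hm1 : ∀ a, m a u₀ = a := fun a => by
    rw [hm]
    exact hθs a
  have hmθ : ∀ a b, θe (m a b) = m (θe a) (θe b) := fun a b => by
    rw [hm, hm, hθe, hθM, hθs, θe.symm_apply_apply, hθe]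
  -- the commutators of the generators
  set E : Fin 3 → (Fin 3 → F) := fun i => Pi.basisFun F (Fin 3) i with hE
  have hbasis : ⊤ ≤ Submodule.span F ({E 0, E 1, E 2} : Set (Fin 3 → F)) := by
    rw [← (Pi.basisFun F (Fin 3)).span_eq]
    refine Submodule.span_mono ?_
    rintro _ ⟨i, rfl⟩
    fin_cases i <;> simp [hE]
  set br : (Fin 3 → F) → (Fin 3 → F) → 𝒜 := fun a b => ι a * ι b - ι b * ι a with hbr
  have hbru : ∀ a b, cl N 3 (br a b) = P₂ (m (θ a) b - m (θ b) a) := fun a b => by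
    rw [← hMm, ← hMm, map_sub]
    show cl N 3 (ι a * ι b - ι b * ι a) = _
    rw [map_sub, hM a b, hM b a, ← map_sub, ← mul_sub, ← map_sub]
    rfl
  have hspan : ∀ U : Submodule F (Fin 3 → F), (∀ v w, m (θe v) w - m (θe w) v ∈ U) → U = ⊤ := by
    intro U hU
    set T := (U.map P₂).comap (cl N 3) with hT'
    have hb : ∀ a b, br a b ∈ T := fun a b =>
      ⟨m (θ a) b - m (θ b) a, hU a b, (hbru a b).symm⟩
    have hle := h.sq_le_three hT hK3 hbasis (U := T) (fun x hx => ⟨0, U.zero_mem, by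
      rw [map_zero, cl_eq_zero.2 hx]⟩) (hb _ _) (hb _ _) (hb _ _)
    rw [eq_top_iff]
    intro a _
    obtain ⟨a', ha', he⟩ := hle (mul_mem_two hu.mem (hT.mem a))
    rwa [← hP₂i (show P₂ a' = P₂ a from he)]
  obtain ⟨φ, hφ0, hφ⟩ := exists_cyclic_form hV u₀ m hassoc h1m hm1 θe hmθ hspan
  -- the commutators in degree three
  set c : Fin 3 → 𝒜 := ![br (E 0) (E 1), br (E 0) (E 2), br (E 1) (E 2)] with hc
  have hc0 : ∀ j, c j ∈ N ^ 2 := fun j => by
    fin_cases j <;>
      exact (N ^ 2).sub_mem (mul_mem_two (hT.mem _) (hT.mem _)) (mul_mem_two (hT.mem _) (hT.mem _))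
  set Φ := Fintype.linearCombination F (fun j => cl N 3 (c j)) with hΦ
  have hΦi : Function.Injective Φ := by
    refine hinj Φ ((N ^ 2).map (cl N 3)) (by omega) ?_
    rw [Fintype.range_linearCombination]
    have hU : N ^ 2 ≤ (Submodule.span F (Set.range fun j => cl N 3 (c j))).comap (cl N 3) :=
      h.sq_le_three hT hK3 hbasis (fun x hx => by
          rw [Submodule.mem_comap, cl_eq_zero.2 hx]; exact Submodule.zero_mem _)
        (Submodule.subset_span ⟨0, rfl⟩) (Submodule.subset_span ⟨1, rfl⟩)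
        (Submodule.subset_span ⟨2, rfl⟩)
    exact Submodule.map_le_iff_le_comap.2 hU
  set U := (LinearMap.ker φ).map ((LinearMap.mulLeft F (u * u)).comp ι) ⊔ N ^ 4 with hU
  have hU3 : U ≤ N ^ 3 := by
    refine sup_le ?_ (h.pow_anti (by omega) (by omega))
    rintro _ ⟨v, -, rfl⟩
    exact mul_mem_pow (mul_mem_two hu.mem hu.mem) (mem_pow_one (hT.mem v))
  have hsq : ∀ a ∈ N, ∀ b ∈ N ^ 2, a * b - b * a ∈ U := by
    intro a ha b hb
    refine comm_sq_mem_of_gens (X := Set.range ι) (G := Set.range fun w => u * ι w) ?_ ?_ ?_ ?_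
      (h.pow_le (by omega)) ?_ ?_ ha hb
    · exact hT.gens.trans (sup_le_sup_right (fun x hx => Submodule.subset_span hx) _)
    · refine hN2L.trans (sup_le_sup_right ?_ _)
      rintro _ ⟨_, ⟨w, rfl⟩, rfl⟩
      exact Submodule.subset_span ⟨w, rfl⟩
    · rintro _ ⟨v, rfl⟩ _ ⟨w, rfl⟩
      show ι v * (u * ι w) - u * ι w * ι v ∈ U
      have e1 : cl N 4 (ι v * (u * ι w)) = P₃ (M (θ v) w) := by
        rw [← mul_assoc, hud, hA1 v u₀ w]
        rfl
      have e2 : cl N 4 (u * ι w * ι v) = P₃ (M w v) := by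
        rw [hud, hA1 u₀ w v, hMu]
      have hd : cl N 4 (ι v * (u * ι w) - u * ι w * ι v) =
          cl N 4 (u * u * ι (M (θ v) w - M w v)) := by
        rw [map_sub, e1, e2, ← map_sub]
        rfl
      refine Submodule.mem_sup.2 ⟨u * u * ι (M (θ v) w - M w v), ⟨_, ?_, rfl⟩, _, cl_eq_cl.1 hd,
        add_sub_cancel _ _⟩
      rw [SetLike.mem_coe, LinearMap.mem_ker, map_sub, hMm, hMm, sub_eq_zero]
      exact hφ v w
    · rintro _ ⟨v, rfl⟩
      exact hT.mem v
    · exact fun a ha b hb => Submodule.mem_sup_right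
        ((N ^ 4).sub_mem (by simpa using mul_mem_pow (mem_pow_one ha) hb)
          (mul_mem_pow hb (mem_pow_one ha)))
    · rintro a ha _ ⟨w, rfl⟩
      exact Submodule.mem_sup_right ((N ^ 4).sub_mem
        (mul_mem_pow ha (mul_mem_two hu.mem (hT.mem w)))
        (mul_mem_pow (mul_mem_two hu.mem (hT.mem w)) ha))
  have hcomms : comms N ≤ Submodule.span F (Set.range c) ⊔ U := by
    refine comms_le_of_gens (X := ι '' {E 0, E 1, E 2})
      (hT.gens.trans (sup_le_sup_right (range_le_span hbasis) _)) ?_ ?_ (h.pow_le (by omega))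
      (fun a ha b hb => Submodule.mem_sup_right (hsq a ha b hb))
    · rintro _ ⟨s, hs, rfl⟩ _ ⟨t, ht, rfl⟩
      have h01 : br (E 0) (E 1) ∈ Submodule.span F (Set.range c) ⊔ U :=
        Submodule.mem_sup_left (Submodule.subset_span ⟨0, rfl⟩)
      have h02 : br (E 0) (E 2) ∈ Submodule.span F (Set.range c) ⊔ U :=
        Submodule.mem_sup_left (Submodule.subset_span ⟨1, rfl⟩)
      have h12 : br (E 1) (E 2) ∈ Submodule.span F (Set.range c) ⊔ U :=
        Submodule.mem_sup_left (Submodule.subset_span ⟨2, rfl⟩)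
      rcases hs with rfl | rfl | rfl <;> rcases ht with rfl | rfl | rfl <;>
        first
          | (rw [sub_self]; exact Submodule.zero_mem _)
          | assumption
          | (apply comm_flip_mem; assumption)
    · rintro _ ⟨s, -, rfl⟩
      exact hT.mem s
  have hN3U : N ^ 3 ≤ U := by
    intro z hz
    obtain ⟨k, hk, r, hr, hkr⟩ := Submodule.mem_sup.1 (hK4 (h.pow_anti (by omega) (by omega) hz))
    have hk3 : k ∈ N ^ 3 := by
      rw [eq_sub_of_add_eq hkr]
      exact (N ^ 3).sub_mem hz (h.pow_anti (by omega) (by omega) hr)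
    obtain ⟨s, hs, r', hr', hsr⟩ := Submodule.mem_sup.1 (hcomms hk)
    obtain ⟨t, rfl⟩ := (Submodule.mem_span_range_iff_exists_fun F).1 hs
    have ht : t = 0 := by
      refine hΦi ?_
      rw [map_zero]
      show Fintype.linearCombination F (fun j => cl N 3 (c j)) t = 0
      rw [Fintype.linearCombination_apply]
      simp only [← map_smul, ← map_sum]
      refine cl_eq_zero.2 ?_
      rw [eq_sub_of_add_eq hsr]
      exact (N ^ 3).sub_mem hk3 (hU3 hr')
    subst ht
    rw [← hkr]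
    refine U.add_mem ?_ (Submodule.mem_sup_right hr)
    rw [← hsr]
    simpa using hr'
  refine hφ0 (LinearMap.ext fun a => ?_)
  obtain ⟨_, ⟨a', ha', rfl⟩, r, hr, har⟩ := Submodule.mem_sup.1
    (hN3U (mul_mem_pow (mul_mem_two hu.mem hu.mem) (mem_pow_one (hT.mem a))))
  have : P₃ a = P₃ a' := by
    show cl N 4 (u * u * ι a) = cl N 4 (u * u * ι a')
    rw [← har, map_add, cl_eq_zero.2 hr, add_zero]
    rfl
  rw [hP₃i this]
  exact ha'

end Setting

end Cfsg.Agent.Blocks.FiveTraces
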