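import Cfsg.Agent.Lib.Blocks.FiveTraces.ThreeBasic

/-!
# Three generators with singular products
-/

set_option linter.unusedSectionVars false

namespace Cfsg.Agent.Blocks.FiveTraces

open Module
open scoped Pointwise

universe u v

variable {F : Type u} [Field F] {𝒜 : Type v} [Ring 𝒜] [Algebra F 𝒜]
  {lam : 𝒜 →ₗ[F] F} {N : Submodule F 𝒜}

/-- Products on a line: either the next products vanish or the products are symmetric. -/
theorem two_alternatives {P : Set 𝒜} {c : 𝒜} {R₂ R₃ : Submodule F 𝒜}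
    (hR : ∀ a ∈ P, ∀ r ∈ R₂, a * r ∈ R₃ ∧ r * a ∈ R₃)
    (hB : ∀ a ∈ P, ∀ b ∈ P, a * b ∈ (F ∙ c) ⊔ R₂) :
    (∀ a ∈ P, a * c ∈ R₃ ∧ c * a ∈ R₃) ∨ ∀ a ∈ P, ∀ b ∈ P, a * b - b * a ∈ R₂ := by
  classical
  by_cases hall : ∀ a ∈ P, ∀ b ∈ P, a * b ∈ R₂
  · exact Or.inr fun a ha b hb => R₂.sub_mem (hall a ha b hb) (hall b hb a ha)
  push Not at hall
  obtain ⟨a₀, ha₀, b₀, hb₀, h₀⟩ := hall
  have hB' : ∀ a b : 𝒜, ∃ t : F, a ∈ P → b ∈ P → a * b - t • c ∈ R₂ := by
    intro a b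
    by_cases hab : a ∈ P ∧ b ∈ P
    · obtain ⟨y, hy, r, hr, hyr⟩ := Submodule.mem_sup.1 (hB a hab.1 b hab.2)
      obtain ⟨t, rfl⟩ := Submodule.mem_span_singleton.1 hy
      exact ⟨t, fun _ _ => by rwa [← hyr, add_sub_cancel_left]⟩
    · exact ⟨0, fun ha hb => (hab ⟨ha, hb⟩).elim⟩
  choose B hBr using hB'
  set π := R₃.mkQ with hπdef
  have hπ : ∀ {z : 𝒜}, π z = 0 ↔ z ∈ R₃ := fun {z} => Submodule.Quotient.mk_eq_zero _
  have hl : ∀ a ∈ P, ∀ b ∈ P, ∀ d ∈ P, π (a * b * d) = B a b • π (c * d) := by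
    intro a ha b hb d hd
    rw [← map_smul, ← sub_eq_zero, ← map_sub, ← smul_mul_assoc, ← sub_mul]
    exact hπ.2 (hR d hd _ (hBr a b ha hb)).2
  have hr : ∀ a ∈ P, ∀ b ∈ P, ∀ d ∈ P, π (a * b * d) = B b d • π (a * c) := by
    intro a ha b hb d hd
    rw [mul_assoc, ← map_smul, ← sub_eq_zero, ← map_sub, ← mul_smul_comm, ← mul_sub]
    exact hπ.2 (hR a ha _ (hBr b d hb hd)).1
  set t₀ := B a₀ b₀ with ht₀
  have ht : t₀ ≠ 0 := by
    intro h0
    have := hBr a₀ b₀ ha₀ hb₀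
    rw [← ht₀, h0, zero_smul, sub_zero] at this
    exact h₀ this
  set f := π (a₀ * c) with hf
  have hcd : ∀ d ∈ P, π (c * d) = (t₀⁻¹ * B b₀ d) • f := by
    intro d hd
    rw [← smul_smul, hf, ← hr a₀ ha₀ b₀ hb₀ d hd, hl a₀ ha₀ b₀ hb₀ d hd, smul_smul, ← ht₀,
      inv_mul_cancel₀ ht, one_smul]
  have hac : ∀ a ∈ P, π (a * c) = (t₀⁻¹ * B a a₀ * (t₀⁻¹ * B b₀ b₀)) • f := by
    intro a ha
    rw [← smul_smul, ← hcd b₀ hb₀, ← smul_smul, ← hl a ha a₀ ha₀ b₀ hb₀, hr a ha a₀ ha₀ b₀ hb₀,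
      smul_smul, ← ht₀, inv_mul_cancel₀ ht, one_smul]
  by_cases hz : f = 0 ∨ ∀ d ∈ P, B b₀ d = 0
  · refine Or.inl fun a ha => ⟨hπ.1 ?_, hπ.1 ?_⟩
    · rw [hac a ha]
      rcases hz with hz | hz
      · rw [hz, smul_zero]
      · rw [hz b₀ hb₀, mul_zero, mul_zero, zero_smul]
    · rw [hcd a ha]
      rcases hz with hz | hz
      · rw [hz, smul_zero]
      · rw [hz a ha, mul_zero, zero_smul]
  push Not at hz
  obtain ⟨hf0, d₁, hd₁, hd₁'⟩ := hz
  refine Or.inr ?_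
  set hh : 𝒜 → F := fun d => t₀⁻¹ * B b₀ d with hhh
  set gg : 𝒜 → F := fun a => t₀⁻¹ * B a a₀ * (t₀⁻¹ * B b₀ b₀) with hgg
  have E : ∀ a ∈ P, ∀ b ∈ P, ∀ d ∈ P, B a b * hh d = B b d * gg a := by
    intro a ha b hb d hd
    refine smul_left_injective F hf0 ?_
    show (B a b * hh d) • f = (B b d * gg a) • f
    have e1 : (B a b * hh d) • f = B a b • π (c * d) := by
      rw [hcd d hd]
      exact mul_smul _ _ _
    have e2 : (B b d * gg a) • f = B b d • π (a * c) := by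
      rw [hac a ha]
      exact mul_smul _ _ _
    rw [e1, e2, ← hl a ha b hb d hd, hr a ha b hb d hd]
  have hg₀ : gg a₀ = 1 := by
    refine smul_left_injective F hf0 ?_
    show gg a₀ • f = (1 : F) • f
    rw [← hac a₀ ha₀, one_smul, hf]
  have hk : ∀ b ∈ P, ∀ d ∈ P, B b d = B a₀ b * hh d := by
    intro b hb d hd
    have := E a₀ ha₀ b hb d hd
    rw [hg₀, mul_one] at this
    exact this.symm
  have hd₁'' : hh d₁ ≠ 0 := mul_ne_zero (inv_ne_zero ht) hd₁'
  have hsym : ∀ a ∈ P, ∀ b ∈ P, B a₀ a * hh b = B a₀ b * gg a := by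
    intro a ha b hb
    refine mul_right_cancel₀ hd₁'' ?_
    have := E a ha b hb d₁ hd₁
    rw [hk a ha b hb, hk b hb d₁ hd₁] at this
    linear_combination this
  intro a ha b hb
  have hb' : ∀ x ∈ P, t₀ * hh x = B a₀ x * gg b₀ := fun x hx => hsym b₀ hb₀ x hx
  have hBab : B a b = B b a := by
    refine mul_left_cancel₀ ht ?_
    rw [hk a ha b hb, hk b hb a ha, mul_left_comm, hb' b hb, mul_left_comm t₀, hb' a ha]
    ring
  have := R₂.sub_mem (hBr a b ha hb) (hBr b a hb ha)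
  rwa [hBab, sub_sub_sub_cancel_right] at this

namespace Setting

variable (h : Setting lam N)
include h

variable {ι : (Fin 3 → F) →ₗ[F] 𝒜}

/-- A generator annihilating the radical modulo the cube ends the powers. -/
theorem pow_eq_bot_of_kernel (hT : Three N ι) {L : ℕ} (hL4 : 4 ≤ L) (hL : N ^ (L + 1) = ⊥)
    (hK : N ^ 2 ≤ comms N ⊔ N ^ 3) {v : Fin 3 → F} (hv : v ≠ 0)
    (hker : (∀ u ∈ N, u * ι v ∈ N ^ 3) ∨ (∀ u ∈ N, ι v * u ∈ N ^ 3)) : N ^ L = ⊥ := by
  obtain ⟨l, rfl⟩ : ∃ l, L = l + 4 := ⟨L - 4, by omega⟩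
  have hx1 : ∀ w ∈ N ^ (l + 3), lam (ι v * w) = 0 := by
    intro w hw
    rcases hker with hk | hk
    · rw [show l + 3 = (l + 2) + 1 by omega, pow_succ] at hw
      refine (Submodule.mul_le.2 (fun a ha b hb => ?_) :
        N ^ (l + 2) * N ≤ LinearMap.ker (lam.comp (LinearMap.mulLeft F (ι v)))) hw
      show lam (ι v * (a * b)) = 0
      rw [h.trace, mul_assoc, h.mul_eq_zero_of_ge hL (by omega) ha (hk b hb), map_zero]
    · rw [show l + 3 = 1 + (l + 2) by omega, pow_add, pow_one] at hw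
      refine (Submodule.mul_le.2 (fun a ha b hb => ?_) :
        N * N ^ (l + 2) ≤ LinearMap.ker (lam.comp (LinearMap.mulLeft F (ι v)))) hw
      show lam (ι v * (a * b)) = 0
      rw [← mul_assoc, h.mul_eq_zero_of_ge hL (by omega) (hk a ha) hb, map_zero]
  set R₂ := orth lam (N ^ (l + 2)) with hR₂
  set R₃ := orth lam (N ^ (l + 1)) with hR₃
  have hxR : ∀ u ∈ N, ι v * u ∈ R₂ ∧ u * ι v ∈ R₂ := by
    intro u hu
    refine ⟨fun w hw => ?_, fun w hw => ?_⟩
    · rw [mul_assoc]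
      exact hx1 _ (by rw [pow_succ']; exact Submodule.mul_mem_mul hu hw)
    · rw [mul_assoc, h.trace, mul_assoc]
      exact hx1 _ (by rw [pow_succ]; exact Submodule.mul_mem_mul hw hu)
  have h3R : N ^ 3 ≤ R₂ := fun a ha w hw => by
    rw [h.mul_eq_zero_of_ge hL (by omega) ha hw, map_zero]
  obtain ⟨a, b, hbasis⟩ := exists_two_more hv
  set c := ι a * ι b - ι b * ι a with hc
  have hsq : N ^ 2 ≤ (F ∙ c) ⊔ R₂ :=
    h.sq_le_three hT hK hbasis (h3R.trans le_sup_right)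
      (Submodule.mem_sup_right (R₂.sub_mem (hxR _ (hT.mem a)).1 (hxR _ (hT.mem a)).2))
      (Submodule.mem_sup_right (R₂.sub_mem (hxR _ (hT.mem b)).1 (hxR _ (hT.mem b)).2))
      (Submodule.mem_sup_left (Submodule.mem_span_singleton_self c))
  have hR : ∀ a ∈ (N : Set 𝒜), ∀ r ∈ R₂, a * r ∈ R₃ ∧ r * a ∈ R₃ := by
    intro a ha r hr
    refine ⟨fun w hw => ?_, fun w hw => ?_⟩
    · rw [mul_assoc, h.trace, mul_assoc]
      exact hr _ (by rw [pow_succ]; exact Submodule.mul_mem_mul hw ha)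
    · rw [mul_assoc]
      exact hr _ (by rw [pow_succ']; exact Submodule.mul_mem_mul ha hw)
  rcases two_alternatives hR (fun a ha b hb => hsq (mul_mem_two ha hb)) with halt | halt
  · refine h.eq_bot_of_lam (by omega) fun z hz => ?_
    rw [show l + 4 = 3 + (l + 1) by omega, pow_add] at hz
    have h3 : N ^ 3 ≤ R₃ := by
      rw [show (3 : ℕ) = 2 + 1 by rfl, pow_succ]
      refine Submodule.mul_le.2 fun m hm d hd => ?_
      obtain ⟨y, hy, r, hr, rfl⟩ := Submodule.mem_sup.1 (hsq hm)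
      obtain ⟨t, rfl⟩ := Submodule.mem_span_singleton.1 hy
      rw [add_mul, smul_mul_assoc]
      exact R₃.add_mem (R₃.smul_mem t (halt d hd).2) (hR d hd r hr).2
    exact (Submodule.mul_le.2 (fun a ha b hb => h3 ha b hb) :
      N ^ 3 * N ^ (l + 1) ≤ LinearMap.ker lam) hz
  · have hKR : comms N ≤ R₂ := by
      refine Submodule.span_le.2 ?_
      rintro _ ⟨a, ha, b, hb, rfl⟩
      exact halt a ha b hb
    exact h.lam_pow_eq_zero_of_sq (by omega) (hK.trans (sup_le hKR h3R))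
      (by rw [show l + 4 - 2 = l + 2 by omega])

/-- Two generators with products on one line. -/
theorem plane_cube (hT : Three N ι) {x a b : Fin 3 → F} {e₀ : 𝒜}
    (hbasis : ⊤ ≤ Submodule.span F ({x, a, b} : Set (Fin 3 → F)))
    (hab : ι a * ι b - ι b * ι a ∉ N ^ 3)
    (hP : (∀ u ∈ N, ∀ p ∈ ({ι a, ι b} : Set 𝒜), u * p ∈ (F ∙ e₀) ⊔ N ^ 3) ∨
      (∀ u ∈ N, ∀ p ∈ ({ι a, ι b} : Set 𝒜), p * u ∈ (F ∙ e₀) ⊔ N ^ 3)) :
    ((∀ u ∈ N, ∀ p ∈ ({ι a, ι b} : Set 𝒜),
        u * p ∈ (F ∙ (ι a * ι b - ι b * ι a)) ⊔ N ^ 3) ∨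
      (∀ u ∈ N, ∀ p ∈ ({ι a, ι b} : Set 𝒜),
        p * u ∈ (F ∙ (ι a * ι b - ι b * ι a)) ⊔ N ^ 3)) ∧
      ∀ p ∈ ({ι a, ι b} : Set 𝒜), p * (ι a * ι b - ι b * ι a) ∈ N ^ 4 ∧
        (ι a * ι b - ι b * ι a) * p ∈ N ^ 4 := by
  set c := ι a * ι b - ι b * ι a with hc
  have hce : c ∈ (F ∙ e₀) ⊔ N ^ 3 := by
    rcases hP with hP | hP
    · exact Submodule.sub_mem _ (hP _ (hT.mem a) _ (by simp)) (hP _ (hT.mem b) _ (by simp))
    · exact Submodule.sub_mem _ (hP _ (hT.mem b) _ (by simp)) (hP _ (hT.mem a) _ (by simp))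
  have hle : (F ∙ e₀) ⊔ N ^ 3 ≤ (F ∙ c) ⊔ N ^ 3 := by
    refine sup_le ?_ le_sup_right
    rw [Submodule.span_singleton_le_iff_mem]
    obtain ⟨y, hy, r, hr, hyr⟩ := Submodule.mem_sup.1 hce
    obtain ⟨t, rfl⟩ := Submodule.mem_span_singleton.1 hy
    have ht : t ≠ 0 := fun ht => hab (by rwa [← hyr, ht, zero_smul, zero_add])
    refine Submodule.mem_sup.2 ⟨t⁻¹ • c, Submodule.smul_mem _ _ (Submodule.mem_span_singleton_self c),
      -(t⁻¹ • r), Submodule.neg_mem _ (Submodule.smul_mem _ _ hr), ?_⟩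
    rw [← hyr, smul_add, smul_smul, inv_mul_cancel₀ ht, one_smul, add_neg_cancel_right]
  have hP' : (∀ u ∈ N, ∀ p ∈ ({ι a, ι b} : Set 𝒜), u * p ∈ (F ∙ c) ⊔ N ^ 3) ∨
      (∀ u ∈ N, ∀ p ∈ ({ι a, ι b} : Set 𝒜), p * u ∈ (F ∙ c) ⊔ N ^ 3) :=
    hP.imp (fun g u hu p hp => hle (g u hu p hp)) fun g u hu p hp => hle (g u hu p hp)
  refine ⟨hP', ?_⟩
  have hPN : ∀ p ∈ ({ι a, ι b} : Set 𝒜), p ∈ N := by
    rintro p (rfl | rfl)
    · exact hT.mem a
    · exact hT.mem b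
  have hR : ∀ p ∈ ({ι a, ι b} : Set 𝒜), ∀ r ∈ N ^ 3, p * r ∈ N ^ 4 ∧ r * p ∈ N ^ 4 :=
    fun p hp r hr => ⟨mul_mem_pow (mem_pow_one (hPN p hp)) hr, mul_mem_pow hr (mem_pow_one (hPN p hp))⟩
  rcases two_alternatives hR (fun p hp q hq => hP'.elim (fun g => g p (hPN p hp) q hq)
    fun g => g q (hPN q hq) p hp) with halt | halt
  · exact halt
  · exact absurd (halt _ (by simp) _ (by simp)) hab

/-- Two generators with products on one line end the powers. -/
theorem pow_eq_bot_of_plane (hT : Three N ι) {L : ℕ} (hL4 : 4 ≤ L) (hL : N ^ (L + 1) = ⊥)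
    (hK : N ^ 2 ≤ comms N ⊔ N ^ 3) {x a b : Fin 3 → F} {e₀ : 𝒜}
    (hbasis : ⊤ ≤ Submodule.span F ({x, a, b} : Set (Fin 3 → F)))
    (hab : ι a * ι b - ι b * ι a ∉ N ^ 3)
    (hP : (∀ u ∈ N, ∀ p ∈ ({ι a, ι b} : Set 𝒜), u * p ∈ (F ∙ e₀) ⊔ N ^ 3) ∨
      (∀ u ∈ N, ∀ p ∈ ({ι a, ι b} : Set 𝒜), p * u ∈ (F ∙ e₀) ⊔ N ^ 3)) :
    N ^ L = ⊥ := by
  obtain ⟨hP', hcP⟩ := h.plane_cube hT hbasis hab hP
  obtain ⟨l, rfl⟩ : ∃ l, L = l + 4 := ⟨L - 4, by omega⟩
  set c := ι a * ι b - ι b * ι a with hc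
  -- the products that vanish
  have key : ∀ w ∈ N ^ (l + 2), ∀ p ∈ ({ι a, ι b} : Set 𝒜),
      lam (w * (ι x * p - p * ι x)) = 0 ∧ lam (w * c) = 0 := by
    rcases hP' with g | g
    · have hwc : ∀ w ∈ N ^ (l + 2), w * c = 0 := by
        intro w hw
        have hstep : ∀ p ∈ ({ι a, ι b} : Set 𝒜), ∀ q ∈ ({ι a, ι b} : Set 𝒜), w * p * q = 0 := by
          intro p hp q hq
          have hw' := hw
          rw [show l + 2 = (l + 1) + 1 by omega, pow_succ] at hw'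
          refine (Submodule.mul_le.2 (fun w' hw' d hd => ?_) : N ^ (l + 1) * N ≤
            LinearMap.ker ((LinearMap.mulRight F q).comp (LinearMap.mulRight F p))) hw'
          show w' * d * p * q = 0
          obtain ⟨y, hy, r, hr, hyr⟩ := Submodule.mem_sup.1 (g d hd p hp)
          obtain ⟨t, rfl⟩ := Submodule.mem_span_singleton.1 hy
          rw [mul_assoc w' d p, ← hyr, mul_add, add_mul, mul_smul_comm, smul_mul_assoc,
            mul_assoc w' c q, h.mul_eq_zero_of_ge hL (by omega) hw' (hcP q hq).2, smul_zero,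
            zero_add]
          have hq1 : q ∈ N ^ 1 := by
            rcases hq with rfl | rfl
            · exact mem_pow_one (hT.mem a)
            · exact mem_pow_one (hT.mem b)
          exact h.eq_zero_of_ge hL (by omega) (mul_mem_pow (mul_mem_pow hw' hr) hq1)
        rw [hc, mul_sub, ← mul_assoc, ← mul_assoc, hstep _ (by simp) _ (by simp),
          hstep _ (by simp) _ (by simp), sub_zero]
      intro w hw p hp
      refine ⟨?_, by rw [hwc w hw, map_zero]⟩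
      have hwd : ∀ i, l + 2 ≤ i → ∀ z ∈ N ^ i, ∀ d ∈ N, z * (d * p) = 0 := by
        intro i hi z hz d hd
        obtain ⟨y, hy, r, hr, hyr⟩ := Submodule.mem_sup.1 (g d hd p hp)
        obtain ⟨t, rfl⟩ := Submodule.mem_span_singleton.1 hy
        rw [← hyr, mul_add, mul_smul_comm, hwc z (h.pow_anti (by omega) hi hz), smul_zero, zero_add,
          h.mul_eq_zero_of_ge hL (by omega) hz hr]
      have h2 : lam (w * (p * ι x)) = 0 := by
        rw [← mul_assoc, h.trace, ← mul_assoc]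
        have hxw : ι x * w ∈ N ^ ((l + 2) + 1) := by
          rw [pow_succ']
          exact Submodule.mul_mem_mul (hT.mem x) hw
        rw [pow_succ] at hxw
        refine (Submodule.mul_le.2 (fun z hz d hd => ?_) : N ^ (l + 2) * N ≤
          LinearMap.ker (lam.comp (LinearMap.mulRight F p))) hxw
        show lam (z * d * p) = 0
        rw [mul_assoc, hwd _ le_rfl z hz d hd, map_zero]
      rw [mul_sub, map_sub, hwd _ le_rfl w hw _ (hT.mem x), map_zero, zero_sub, h2, neg_zero]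
    · have hcw : ∀ w ∈ N ^ (l + 2), c * w = 0 := by
        intro w hw
        have hstep : ∀ p ∈ ({ι a, ι b} : Set 𝒜), ∀ q ∈ ({ι a, ι b} : Set 𝒜), p * q * w = 0 := by
          intro p hp q hq
          have hw' := hw
          rw [show l + 2 = (l + 1) + 1 by omega, pow_succ'] at hw'
          refine (Submodule.mul_le.2 (fun d hd w' hw' => ?_) : N * N ^ (l + 1) ≤
            LinearMap.ker (LinearMap.mulLeft F (p * q))) hw'
          show p * q * (d * w') = 0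
          obtain ⟨y, hy, r, hr, hyr⟩ := Submodule.mem_sup.1 (g d hd q hq)
          obtain ⟨t, rfl⟩ := Submodule.mem_span_singleton.1 hy
          rw [mul_assoc p q, ← mul_assoc q d w', ← hyr, add_mul, mul_add, smul_mul_assoc,
            mul_smul_comm, ← mul_assoc p c w', h.mul_eq_zero_of_ge hL (by omega) (hcP p hp).1 hw',
            smul_zero, zero_add]
          have hp1 : p ∈ N ^ 1 := by
            rcases hp with rfl | rfl
            · exact mem_pow_one (hT.mem a)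
            · exact mem_pow_one (hT.mem b)
          exact h.eq_zero_of_ge hL (by omega) (mul_mem_pow hp1 (mul_mem_pow hr hw'))
        rw [hc, sub_mul, hstep _ (by simp) _ (by simp), hstep _ (by simp) _ (by simp), sub_zero]
      intro w hw p hp
      refine ⟨?_, by rw [h.trace, hcw w hw, map_zero]⟩
      have hwd : ∀ i, l + 2 ≤ i → ∀ z ∈ N ^ i, ∀ d ∈ N, p * d * z = 0 := by
        intro i hi z hz d hd
        obtain ⟨y, hy, r, hr, hyr⟩ := Submodule.mem_sup.1 (g d hd p hp)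
        obtain ⟨t, rfl⟩ := Submodule.mem_span_singleton.1 hy
        rw [← hyr, add_mul, smul_mul_assoc, hcw z (h.pow_anti (by omega) hi hz), smul_zero,
          zero_add, h.mul_eq_zero_of_ge hL (by omega) hr hz]
      have h2 : lam (ι x * p * w) = 0 := by
        rw [mul_assoc, h.trace, mul_assoc]
        have hwx : w * ι x ∈ N ^ ((l + 2) + 1) := by
          rw [pow_succ]
          exact Submodule.mul_mem_mul hw (hT.mem x)
        rw [pow_succ'] at hwx
        refine (Submodule.mul_le.2 (fun d hd z hz => ?_) : N * N ^ (l + 2) ≤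
          LinearMap.ker (lam.comp (LinearMap.mulLeft F p))) hwx
        show lam (p * (d * z)) = 0
        rw [← mul_assoc, hwd _ le_rfl z hz d hd, map_zero]
      rw [h.trace, sub_mul, map_sub, hwd _ le_rfl w hw _ (hT.mem x), map_zero, sub_zero, h2]
  have hU : N ^ 3 ≤ orth lam (N ^ (l + 2)) := fun z hz w hw => by
    rw [h.mul_eq_zero_of_ge hL (by omega) hz hw, map_zero]
  exact h.lam_pow_eq_zero_of_sq (by omega) (U := orth lam (N ^ (l + 2)))
    (h.sq_le_three hT hK hbasis hU (fun w hw => by rw [h.trace]; exact (key w hw _ (by simp)).1)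
      (fun w hw => by rw [h.trace]; exact (key w hw _ (by simp)).1)
      (fun w hw => by rw [h.trace]; exact (key w hw (ι a) (by simp)).2))
    (by rw [show l + 4 - 2 = l + 2 by omega])

/-- An anisotropic twist ends the fourth power. -/
theorem fourth_le_fifth (hT : Three N ι) (φ : (Fin 3 → F) →ₗ[F] (Fin 3 → F))
    (hφ : Function.Surjective φ) (h0 : ∀ v, ι v * ι (φ v) ∈ N ^ 3) : N ^ 4 ≤ N ^ 5 := by
  classical
  set E : Fin 3 → (Fin 3 → F) := fun i => Pi.basisFun F (Fin 3) i with hE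
  have hspanE : ⊤ ≤ Submodule.span F (Set.range E) := (Pi.basisFun F (Fin 3)).span_eq.ge
  set A : Fin 3 → 𝒜 := fun i => ι (E i)
  set B : Fin 3 → 𝒜 := fun i => ι (φ (E i))
  set C : Fin 3 → 𝒜 := fun i => ι (φ (φ (E i)))
  set D : Fin 3 → 𝒜 := fun i => ι (φ (φ (φ (E i))))
  have hgen : ∀ (g : (Fin 3 → F) →ₗ[F] (Fin 3 → F)), Function.Surjective g →
      N ≤ Submodule.span F (Set.range fun i => ι (g (E i))) ⊔ N ^ 2 := by
    intro g hg
    refine hT.gens.trans (sup_le_sup_right ?_ _)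
    rintro _ ⟨v, rfl⟩
    obtain ⟨w, rfl⟩ := hg v
    have h1 : ι (g w) ∈ (Submodule.span F (Set.range E)).map (ι.comp g) :=
      Submodule.mem_map_of_mem (hspanE Submodule.mem_top)
    rw [Submodule.map_span, ← Set.range_comp] at h1
    exact h1
  have hA := hgen LinearMap.id Function.surjective_id
  have hB := hgen φ hφ
  have hC := hgen (φ.comp φ) (hφ.comp hφ)
  have hD := hgen (φ.comp (φ.comp φ)) (hφ.comp (hφ.comp hφ))
  have hpol : ∀ v w, ι v * ι (φ w) + ι w * ι (φ v) ∈ N ^ 3 := by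
    intro v w
    have := (N ^ 3).sub_mem ((N ^ 3).sub_mem (h0 (v + w)) (h0 v)) (h0 w)
    simp only [map_add, add_mul, mul_add] at this
    convert this using 1
    abel
  have hs1 : ∀ i j k l, A i * B j * C k * D l + A j * B i * C k * D l ∈ N ^ 5 := fun i j k l => by
    rw [← add_mul, ← add_mul]
    exact mul_mem_pow (mul_mem_pow (hpol (E i) (E j)) (mem_pow_one (hT.mem _)))
      (mem_pow_one (hT.mem _))
  have hs2 : ∀ i j k l, A i * B j * C k * D l + A i * B k * C j * D l ∈ N ^ 5 := fun i j k l => by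
    rw [← add_mul, mul_assoc (A i), mul_assoc (A i), ← mul_add]
    exact mul_mem_pow (mul_mem_pow (mem_pow_one (hT.mem _)) (hpol (φ (E j)) (φ (E k))))
      (mem_pow_one (hT.mem _))
  have hs3 : ∀ i j k l, A i * B j * C k * D l + A i * B j * C l * D k ∈ N ^ 5 := fun i j k l => by
    rw [mul_assoc (A i * B j), mul_assoc (A i * B j), ← mul_add]
    exact mul_mem_pow (mul_mem_pow (mem_pow_one (hT.mem _)) (mem_pow_one (hT.mem _)))
      (hpol (φ (φ (E k))) (φ (φ (E l))))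
  have d12 : ∀ i k l, A i * B i * C k * D l ∈ N ^ 5 := fun i k l =>
    mul_mem_pow (mul_mem_pow (h0 (E i)) (mem_pow_one (hT.mem _))) (mem_pow_one (hT.mem _))
  have d23 : ∀ i j l, A i * B j * C j * D l ∈ N ^ 5 := fun i j l => by
    rw [mul_assoc (A i)]
    exact mul_mem_pow (mul_mem_pow (mem_pow_one (hT.mem _)) (h0 (φ (E j))))
      (mem_pow_one (hT.mem _))
  have d34 : ∀ i j k, A i * B j * C k * D k ∈ N ^ 5 := fun i j k => by
    rw [mul_assoc (A i * B j)]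
    exact mul_mem_pow (mul_mem_pow (mem_pow_one (hT.mem _)) (mem_pow_one (hT.mem _)))
      (h0 (φ (φ (E k))))
  have d13 : ∀ i j l, A i * B j * C i * D l ∈ N ^ 5 := fun i j l => by
    simpa using (N ^ 5).sub_mem (hs1 i j i l) (d23 j i l)
  have d24 : ∀ i j k, A i * B j * C k * D j ∈ N ^ 5 := fun i j k => by
    simpa using (N ^ 5).sub_mem (hs3 i j k j) (d23 i j k)
  have d14 : ∀ i j k, A i * B j * C k * D i ∈ N ^ 5 := fun i j k => by
    simpa using (N ^ 5).sub_mem (hs1 i j k i) (d24 j i k)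
  have hall : ∀ i j k l, A i * B j * C k * D l ∈ N ^ 5 := by
    intro i j k l
    have : i = j ∨ j = k ∨ k = l ∨ i = k ∨ j = l ∨ i = l := by omega
    rcases this with rfl | rfl | rfl | rfl | rfl | rfl
    · exact d12 _ _ _
    · exact d23 _ _ _
    · exact d34 _ _ _
    · exact d13 _ _ _
    · exact d24 _ _ _
    · exact d14 _ _ _
  have hsq : ∀ {X Y : Fin 3 → 𝒜}, (∀ i, X i ∈ N) → N ≤ Submodule.span F (Set.range X) ⊔ N ^ 2 →
      N ≤ Submodule.span F (Set.range Y) ⊔ N ^ 2 →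
      N ^ 2 ≤ Submodule.span F (Set.range fun q : Fin 3 × Fin 3 => X q.1 * Y q.2) ⊔ N ^ 3 := by
    intro X Y hXN hX hY
    rw [sq] at hX hY ⊢
    refine mem_sup_mul hX hY ?_ (le_sup_of_le_right ?_) (le_sup_of_le_right ?_)
    · rintro _ ⟨i, rfl⟩ _ ⟨j, rfl⟩
      exact Submodule.mem_sup_left (Submodule.subset_span ⟨(i, j), rfl⟩)
    · rw [← sq, ← pow_succ]
    · rw [← sq, pow_succ' N 2]
      exact mul_le_mul_left (Submodule.span_le.2 (Set.range_subset_iff.2 hXN)) _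
  have hAB := hsq (fun i => hT.mem _) hA hB
  have hCD := hsq (fun i => hT.mem _) hC hD
  rw [show (4 : ℕ) = 2 + 2 by rfl, pow_add]
  refine mem_sup_mul hAB hCD ?_ ?_ ?_
  · rintro _ ⟨p, rfl⟩ _ ⟨q, rfl⟩
    show A p.1 * B p.2 * (C q.1 * D q.2) ∈ N ^ 5
    rw [← mul_assoc]
    exact hall _ _ _ _
  · rw [← pow_add]
  · refine Submodule.mul_le.2 fun z hz w hw => ?_
    refine mul_mem_pow ((Submodule.span_le.2 ?_ : _ ≤ N ^ 2) hz) hw
    rintro _ ⟨q, rfl⟩
    exact mul_mem_two (hT.mem _) (hT.mem _)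

end Setting

end Cfsg.Agent.Blocks.FiveTraces
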