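import Cfsg.Agent.Lib.Blocks.FiveTraces.TwoGen
import Cfsg.Agent.Lib.Blocks.FiveTraces.Singular
import Cfsg.Agent.Lib.Blocks.FiveTraces.ThreeSingular
import Cfsg.Agent.Lib.Blocks.FiveTraces.ThreeRegular

/-!
# The radical with five traces has dimension at most thirteen
-/

set_option linter.unusedSectionVars false

namespace Cfsg.Agent.Blocks.FiveTraces

open Module
open scoped Pointwise

universe u v w

variable {F : Type u} [Field F] {𝒜 : Type v} [Ring 𝒜] [Algebra F 𝒜]
  {lam : 𝒜 →ₗ[F] F} {N : Submodule F 𝒜}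

/-- Finitely many members of a pencil through a surjective map are not surjective. -/
theorem exists_finite_bad {V : Type v} [AddCommGroup V] [Module F V] {W : Type w} [AddCommGroup W]
    [Module F W] [FiniteDimensional F W] (A B : V →ₗ[F] W) (hA : Function.Surjective A) :
    ∃ S : Set F, S.Finite ∧ ∀ t ∉ S, Function.Surjective (A + t • B) := by
  obtain ⟨σ, hσ⟩ := A.exists_rightInverse_of_surjective (LinearMap.range_eq_top.2 hA)
  refine ⟨(fun μ => -μ⁻¹) '' {μ | Module.End.HasEigenvalue (B.comp σ) μ},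
    (Module.End.finite_hasEigenvalue _).image _, fun t ht => ?_⟩
  have hi : Function.Injective ((A + t • B).comp σ) := by
    refine LinearMap.ker_eq_bot.1 (LinearMap.ker_eq_bot'.2 fun w hw => ?_)
    by_contra hw0
    have hw' : w + t • B (σ w) = 0 := by
      have h1 : A (σ w) = w := LinearMap.congr_fun hσ w
      simpa [h1] using hw
    have ht0 : t ≠ 0 := fun h => hw0 (by simpa [h] using hw')
    refine ht ⟨-t⁻¹, Module.End.hasEigenvalue_of_hasEigenvector (x := w)
      ⟨Module.End.mem_eigenspace_iff.2 ?_, hw0⟩, by simp⟩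
    show B (σ w) = (-t⁻¹) • w
    refine smul_right_injective W ht0 ?_
    show t • B (σ w) = t • (-t⁻¹) • w
    rw [smul_smul, mul_neg, mul_inv_cancel₀ ht0, neg_smul, one_smul]
    exact eq_neg_of_add_eq_zero_right hw'
  intro z
  obtain ⟨w, hw⟩ := LinearMap.surjective_of_injective hi z
  exact ⟨σ w, hw⟩

theorem finrank_le_card_add [FiniteDimensional F 𝒜] {A B : Submodule F 𝒜} {S : Finset 𝒜}
    (hle : A ≤ Submodule.span F S ⊔ B) : finrank F A ≤ S.card + finrank F B :=
  (Submodule.finrank_mono hle).trans ((Submodule.finrank_add_le_finrank_add_finrank _ _).trans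
    (Nat.add_le_add_right (finrank_span_finset_le_card S) _))

namespace Setting

variable (h : Setting lam N)
include h

variable [FiniteDimensional F 𝒜] {ι : (Fin 3 → F) →ₗ[F] 𝒜}

set_option maxHeartbeats 1000000 in
/-- With singular products the sixth power vanishes. -/
theorem false_of_singular [IsAlgClosed F] (hT : Three N ι) (hK : N ^ 2 ≤ comms N ⊔ N ^ 3)
    (h6 : N ^ 6 ≠ ⊥) (h23 : finrank F ↥(N ^ 3) + 2 ≤ finrank F ↥(N ^ 2))
    (h45 : finrank F ↥(N ^ 5) + 2 ≤ finrank F ↥(N ^ 4))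
    (h23' : finrank F ↥(N ^ 2) ≤ finrank F ↥(N ^ 3) + 3)
    (β : (Fin 3 → F) →ₗ[F] (Fin 3 → F) →ₗ[F] ↥((N ^ 2).map (cl N 3)))
    (hβ : (∀ a b, (β a b : 𝒜 ⧸ N ^ 3) = cl N 3 (ι a * ι b)) ∨
      ∀ a b, (β a b : 𝒜 ⧸ N ^ 3) = cl N 3 (ι b * ι a))
    (hspan : ∀ U : Submodule F ↥((N ^ 2).map (cl N 3)), (∀ a b, β a b ∈ U) → U = ⊤)
    (hns : ∀ a, ¬ Function.Surjective (β a)) : False := by
  obtain ⟨L, hL6, hLne, hL⟩ := h.exists_top (by omega) h6
  have hq := h.finrank_layer (n := 2) (m := 3) (by omega) (by omega)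
  have hlt : ∀ a, finrank F (LinearMap.range (β a)) < finrank F ↥((N ^ 2).map (cl N 3)) := fun a =>
    Submodule.finrank_lt (fun he => hns a (LinearMap.range_eq_top.1 he))
  have hdec : ∀ x ∈ N, ∃ a, x - ι a ∈ N ^ 2 := fun x hx => by
    obtain ⟨_, ⟨a, rfl⟩, r, hr, rfl⟩ := Submodule.mem_sup.1 (hT.gens hx)
    exact ⟨a, by rwa [add_sub_cancel_left]⟩
  have hkernel : ∀ v, v ≠ 0 → (∀ a, β a v = 0) → False := by
    intro v hv h0
    refine hLne (h.pow_eq_bot_of_kernel hT (by omega) hL hK hv ?_)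
    refine hβ.imp (fun g x hx => ?_) fun g x hx => ?_ <;> obtain ⟨a, ha⟩ := hdec x hx
    · have e := g a v
      rw [h0, ZeroMemClass.coe_zero] at e
      have h1 := cl_eq_zero.1 e.symm
      have h2 := mul_mem_pow ha (mem_pow_one (hT.mem v))
      have := (N ^ 3).add_mem h2 h1
      rwa [sub_mul, sub_add_cancel] at this
    · have e := g a v
      rw [h0, ZeroMemClass.coe_zero] at e
      have h1 := cl_eq_zero.1 e.symm
      have h2 : ι v * (x - ι a) ∈ N ^ 3 := mul_mem_pow (mem_pow_one (hT.mem v)) ha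
      have := (N ^ 3).add_mem h2 h1
      rwa [mul_sub, sub_add_cancel] at this
  have hV : finrank F (Fin 3 → F) = 3 := Module.finrank_fin_fun F
  by_cases h2 : finrank F ↥((N ^ 2).map (cl N 3)) = 2
  · rcases Singular.rank_le_one (by omega) β (fun a => by have := hlt a; omega) with
      ⟨v, hv, h0⟩ | ⟨e, he⟩
    · exact hkernel v hv h0
    · have h1 : finrank F (F ∙ e) ≤ 1 :=
        (finrank_span_le_card ({e} : Set ↥((N ^ 2).map (cl N 3)))).trans (by simp)
      rw [hspan _ he, finrank_top, h2] at h1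
      omega
  have h3 : finrank F ↥((N ^ 2).map (cl N 3)) = 3 := by omega
  have hsing : ∀ a, ∃ v, v ≠ 0 ∧ β a v = 0 := fun a => by
    have h1 := LinearMap.finrank_range_add_finrank_ker (β a)
    obtain ⟨v, hv, hv0⟩ := Submodule.exists_mem_ne_zero_of_ne_bot
      (show LinearMap.ker (β a) ≠ ⊥ from fun hk => by
        rw [hk, finrank_bot] at h1
        have := hlt a
        omega)
    exact ⟨v, hv0, hv⟩
  rcases Singular.singular_three hV h3 β hspan hsing with
    ⟨v, hv, h0⟩ | ⟨z₁, z₂, e, hz, he⟩ | ⟨φ, hφ, h0⟩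
  · exact hkernel v hv h0
  · obtain ⟨_, ⟨e₀, he₀, rfl⟩⟩ := e
    obtain ⟨x, hbasis⟩ := exists_one_more (LinearIndependent.pair_iff.2 hz)
    have hab : ι z₁ * ι z₂ - ι z₂ * ι z₁ ∉ N ^ 3 := by
      intro hc
      classical
      have hle := h.sq_le_three hT hK hbasis
        (U := Submodule.span F (({ι x * ι z₁ - ι z₁ * ι x, ι x * ι z₂ - ι z₂ * ι x} : Finset 𝒜) :
          Set 𝒜) ⊔ N ^ 3) le_sup_right
        (Submodule.mem_sup_left (Submodule.subset_span (by simp)))
        (Submodule.mem_sup_left (Submodule.subset_span (by simp)))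
        (Submodule.mem_sup_right hc)
      have h1 := finrank_le_card_add hle
      have h2 := Finset.card_le_two (a := ι x * ι z₁ - ι z₁ * ι x) (b := ι x * ι z₂ - ι z₂ * ι x)
      omega
    refine hLne (h.pow_eq_bot_of_plane hT (L := L) (e₀ := e₀) (by omega) hL hK hbasis hab ?_)
    have key : ∀ a z, z = z₁ ∨ z = z₂ →
        ∃ t : F, (β a z : 𝒜 ⧸ N ^ 3) = t • cl N 3 e₀ := by
      intro a z hz'
      obtain ⟨t, ht⟩ := Submodule.mem_span_singleton.1
        (show β a z ∈ F ∙ (⟨cl N 3 e₀, ⟨e₀, he₀, rfl⟩⟩ : ↥((N ^ 2).map (cl N 3))) by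
          rcases hz' with rfl | rfl
          · exact (he a).1
          · exact (he a).2)
      exact ⟨t, by rw [← ht]; rfl⟩
    refine hβ.imp (fun g x hx p hp => ?_) fun g x hx p hp => ?_ <;>
      obtain ⟨a, ha⟩ := hdec x hx <;>
      obtain ⟨z, hz', rfl⟩ : ∃ z, (z = z₁ ∨ z = z₂) ∧ p = ι z := by
        rcases hp with rfl | rfl
        · exact ⟨z₁, Or.inl rfl, rfl⟩
        · exact ⟨z₂, Or.inr rfl, rfl⟩
    · obtain ⟨t, ht⟩ := key a z hz'
      rw [g] at ht
      have h2 : (x - ι a) * ι z ∈ N ^ 3 := mul_mem_pow ha (mem_pow_one (hT.mem z))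
      have := Submodule.add_mem _ (Submodule.mem_sup_right (S := F ∙ e₀) h2) (mem_sup_of_cl ht)
      rwa [sub_mul, sub_add_cancel] at this
    · obtain ⟨t, ht⟩ := key a z hz'
      rw [g] at ht
      have h2 : ι z * (x - ι a) ∈ N ^ 3 := mul_mem_pow (mem_pow_one (hT.mem z)) ha
      have := Submodule.add_mem _ (Submodule.mem_sup_right (S := F ∙ e₀) h2) (mem_sup_of_cl ht)
      rwa [mul_sub, sub_add_cancel] at this
  · have hle : N ^ 4 ≤ N ^ 5 := by
      rcases hβ with g | g
      · refine h.fourth_le_fifth hT φ (LinearMap.surjective_of_injective hφ) fun v => ?_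
        have e := g v (φ v)
        rw [h0, ZeroMemClass.coe_zero] at e
        exact cl_eq_zero.1 e.symm
      · set ψ := LinearEquiv.ofInjectiveEndo φ hφ
        refine h.fourth_le_fifth hT ψ.symm.toLinearMap ψ.symm.surjective fun v => ?_
        have e := g (ψ.symm v) (φ (ψ.symm v))
        rw [h0, ZeroMemClass.coe_zero, show φ (ψ.symm v) = v from ψ.apply_symm_apply v] at e
        exact cl_eq_zero.1 e.symm
    have := Submodule.finrank_mono hle
    omega

set_option maxHeartbeats 1000000 in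
/-- With three generators the radical has dimension at most thirteen. -/
theorem finrank_le_of_three [IsAlgClosed F] (hm : finrank F ↥(N ^ 2) + 3 = finrank F N) :
    finrank F N ≤ 13 := by
  classical
  -- generators
  obtain ⟨ι, hT⟩ : ∃ ι : (Fin 3 → F) →ₗ[F] 𝒜, Three N ι := by
    obtain ⟨W', hW'⟩ := Submodule.exists_isCompl ((N ^ 2).comap N.subtype)
    have hd := Submodule.finrank_add_eq_of_isCompl hW'
    rw [LinearEquiv.finrank_eq (Submodule.comapSubtypeEquivOfLe (h.pow_le (by omega)))] at hd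
    haveI : Module.Free F W' := Module.Free.of_divisionRing F W'
    set b := Module.finBasisOfFinrankEq F W' (show finrank F W' = 3 by omega)
    refine ⟨(N.subtype.comp W'.subtype).comp b.equivFun.symm.toLinearMap,
      fun v => ((b.equivFun.symm v : W') : N).2, fun x hx => ?_⟩
    have := hW'.sup_eq_top.ge (Submodule.mem_top (x := (⟨x, hx⟩ : N)))
    obtain ⟨r, hr, w, hw, hrw⟩ := Submodule.mem_sup.1 this
    refine Submodule.mem_sup.2 ⟨(w : 𝒜), ⟨b.equivFun ⟨w, hw⟩, ?_⟩, (r : 𝒜), hr, ?_⟩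
    · simp
    · rw [add_comm]
      exact congrArg Subtype.val hrw
  have hd1 : finrank F ↥(N ^ 1) = finrank F N := by rw [pow_one]
  by_cases h6 : N ^ 6 = ⊥
  · have hb := h.finrank_pow_add_le (a := 3) (i := 3) (by omega) (by omega) h6
    by_cases h2 : N ^ 2 = ⊥
    · rw [h2, finrank_bot] at hm
      omega
    by_cases h3 : N ^ 3 = ⊥
    · have hb2 := h.finrank_pow_add_le (a := 2) (i := 1) (by omega) (by omega) h3
      omega
    have hK := h.sq_le_comms_sup (by omega) (by omega) h3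
    obtain ⟨a, b, hbasis⟩ := exists_two_more
      (v := Pi.single (0 : Fin 3) (1 : F)) (fun h0 => by simpa using congrFun h0 0)
    set v := Pi.single (M := fun _ : Fin 3 => F) (0 : Fin 3) (1 : F)
    have hle := h.sq_le_three hT hK hbasis
      (U := Submodule.span F (({ι v * ι a - ι a * ι v, ι v * ι b - ι b * ι v,
        ι a * ι b - ι b * ι a} : Finset 𝒜) : Set 𝒜) ⊔ N ^ 3) le_sup_right
      (Submodule.mem_sup_left (Submodule.subset_span (by simp)))
      (Submodule.mem_sup_left (Submodule.subset_span (by simp)))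
      (Submodule.mem_sup_left (Submodule.subset_span (by simp)))
    have h1 := finrank_le_card_add hle
    have hc := Finset.card_le_three (a := ι v * ι a - ι a * ι v) (b := ι v * ι b - ι b * ι v)
      (c := ι a * ι b - ι b * ι a)
    omega
  exfalso
  have hne : ∀ n, 1 ≤ n → n ≤ 6 → N ^ n ≠ ⊥ := fun n hn hn6 h0 =>
    h6 (le_bot_iff.1 ((h.pow_anti hn hn6).trans h0.le))
  have hK : ∀ n, 2 ≤ n → n ≤ 6 → N ^ 2 ≤ comms N ⊔ N ^ n := fun n hn hn6 =>
    h.sq_le_comms_sup (by omega) hn (hne n (by omega) hn6)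
  have hlayer : ∀ n, 2 ≤ n → n ≤ 4 →
      finrank F ↥(N ^ (n + 1)) + 2 ≤ finrank F ↥(N ^ n) := by
    intro n hn hn4
    by_contra hlt
    obtain ⟨c₀, -, hc₀⟩ := h.exists_line (n := n) (by omega) (by omega)
    exact hne (n + 2) (by omega) (by omega)
      (h.pow_eq_bot_of_layer hn (by omega) hc₀ (hK 3 (by omega) (by omega)))
  have h23' : finrank F ↥(N ^ 2) ≤ finrank F ↥(N ^ 3) + 3 := by
    obtain ⟨a, b, hbasis⟩ := exists_two_more
      (v := Pi.single (0 : Fin 3) (1 : F)) (fun h0 => by simpa using congrFun h0 0)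
    set v := Pi.single (M := fun _ : Fin 3 => F) (0 : Fin 3) (1 : F)
    have hle := h.sq_le_three hT (hK 3 (by omega) (by omega)) hbasis
      (U := Submodule.span F (({ι v * ι a - ι a * ι v, ι v * ι b - ι b * ι v,
        ι a * ι b - ι b * ι a} : Finset 𝒜) : Set 𝒜) ⊔ N ^ 3) le_sup_right
      (Submodule.mem_sup_left (Submodule.subset_span (by simp)))
      (Submodule.mem_sup_left (Submodule.subset_span (by simp)))
      (Submodule.mem_sup_left (Submodule.subset_span (by simp)))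
    have h1 := finrank_le_card_add hle
    have hc := Finset.card_le_three (a := ι v * ι a - ι a * ι v) (b := ι v * ι b - ι b * ι v)
      (c := ι a * ι b - ι b * ι a)
    omega
  have h23 : finrank F ↥(N ^ 3) + 2 ≤ finrank F ↥(N ^ 2) := hlayer 2 le_rfl (by omega)
  have h34 : finrank F ↥(N ^ 4) + 2 ≤ finrank F ↥(N ^ 3) := hlayer 3 (by omega) (by omega)
  have h45 : finrank F ↥(N ^ 5) + 2 ≤ finrank F ↥(N ^ 4) := hlayer 4 (by omega) le_rfl
  -- the products of the generators
  set W := (N ^ 2).map (cl N 3)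
  set β : (Fin 3 → F) →ₗ[F] (Fin 3 → F) →ₗ[F] ↥W :=
    LinearMap.mk₂ F (fun a b => (⟨cl N 3 (ι a * ι b),
      Submodule.mem_map_of_mem (mul_mem_two (hT.mem a) (hT.mem b))⟩ : ↥W))
      (fun a a' b => Subtype.ext (by simp [add_mul]))
      (fun c a b => Subtype.ext (by simp))
      (fun a b b' => Subtype.ext (by simp [mul_add]))
      (fun c a b => Subtype.ext (by simp)) with hβd
  have hβ : ∀ a b, (β a b : 𝒜 ⧸ N ^ 3) = cl N 3 (ι a * ι b) := fun a b => rfl
  have hspan : ∀ U : Submodule F ↥W, (∀ a b, β a b ∈ U) → U = ⊤ := by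
    intro U hU
    rw [eq_top_iff]
    rintro ⟨_, x, hx, rfl⟩ -
    have hle : N ^ 2 ≤ (U.map W.subtype).comap (cl N 3) := by
      refine h.sq_le_of_gens (X := Set.range ι) ?_ ?_ ?_ ?_
      · exact hT.gens.trans (sup_le_sup_right (fun y hy => Submodule.subset_span hy) _)
      · rintro _ ⟨v, rfl⟩
        exact hT.mem v
      · rintro _ ⟨a, rfl⟩ _ ⟨b, rfl⟩
        exact ⟨β a b, hU a b, hβ a b⟩
      · exact fun y hy => ⟨0, U.zero_mem, by rw [map_zero, cl_eq_zero.2 hy]⟩
    obtain ⟨y, hy, hyx⟩ := hle hx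
    rwa [show (⟨cl N 3 x, x, hx, rfl⟩ : ↥W) = y from Subtype.ext hyx.symm]
  by_cases hns : ∀ a, ¬ Function.Surjective (β a)
  · exact h.false_of_singular hT (hK 3 (by omega) (by omega)) h6 (by omega) (by omega) h23' β
      (Or.inl hβ) hspan hns
  by_cases hns' : ∀ a, ¬ Function.Surjective (β.flip a)
  · exact h.false_of_singular hT (hK 3 (by omega) (by omega)) h6 (by omega) (by omega) h23' β.flip
      (Or.inr fun a b => hβ b a) (fun U hU => hspan U fun a b => hU b a) hns'
  push Not at hns hns'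
  obtain ⟨u₁, hu₁⟩ := hns
  obtain ⟨u₂, hu₂⟩ := hns'
  obtain ⟨S₁, hS₁, hgood₁⟩ := exists_finite_bad (β u₁) (β u₂) hu₁
  obtain ⟨S₂, hS₂, hgood₂⟩ := exists_finite_bad (β.flip u₂) (β.flip u₁) hu₂
  haveI : Infinite F := IsAlgClosed.instInfinite
  obtain ⟨t, ht⟩ := ((hS₁.union (hS₂.image fun s => s⁻¹)).union (Set.finite_singleton 0)).exists_notMem
  simp only [Set.mem_union, Set.mem_singleton_iff, not_or] at ht
  obtain ⟨⟨ht1, ht2⟩, ht0⟩ := ht
  set u₀ := u₁ + t • u₂ with hu₀
  have hL : Function.Surjective (β u₀) := by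
    rw [hu₀, map_add, map_smul]
    exact hgood₁ t ht1
  have hR : Function.Surjective (β.flip u₀) := fun z => by
    obtain ⟨w, hw⟩ := hgood₂ t⁻¹ (fun hmem => ht2 ⟨t⁻¹, hmem, inv_inv t⟩) (t⁻¹ • z)
    refine ⟨w, ?_⟩
    have : t • ((β.flip u₂ + t⁻¹ • β.flip u₁) w) = β.flip u₀ w := by
      rw [hu₀, map_add, map_smul]
      simp only [LinearMap.add_apply, LinearMap.smul_apply, smul_add, smul_smul]
      rw [mul_inv_cancel₀ ht0, one_smul, add_comm]
    rw [← this, hw, smul_smul, mul_inv_cancel₀ ht0, one_smul]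
  have hu : Regular N (ι u₀) := by
    refine ⟨hT.mem u₀, fun x hx => ?_, fun x hx => ?_⟩
    · obtain ⟨w, hw⟩ := hL ⟨cl N 3 x, x, hx, rfl⟩
      have hw' : cl N 3 x = cl N 3 (ι u₀ * ι w) := (congrArg Subtype.val hw).symm
      exact Submodule.mem_sup.2 ⟨ι u₀ * ι w, ⟨ι w, hT.mem w, rfl⟩, x - ι u₀ * ι w,
        cl_eq_cl.1 hw', add_sub_cancel _ _⟩
    · obtain ⟨w, hw⟩ := hR ⟨cl N 3 x, x, hx, rfl⟩
      have hw' : cl N 3 x = cl N 3 (ι w * ι u₀) := (congrArg Subtype.val hw).symm
      exact Submodule.mem_sup.2 ⟨ι w * ι u₀, ⟨ι w, hT.mem w, rfl⟩, x - ι w * ι u₀,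
        cl_eq_cl.1 hw', add_sub_cancel _ _⟩
  have hshift : finrank F ↥(N ^ 3) + finrank F ↥(N ^ 3) ≤
      finrank F ↥(N ^ 2) + finrank F ↥(N ^ 4) := h.layer_shift hu (n := 2) (by omega)
  by_cases h3 : finrank F ↥(N ^ 3) = finrank F ↥(N ^ 4) + 2
  · exact h.false_of_rank_two hT hu (hK 3 (by omega) (by omega)) h3 h45
  · exact h.false_of_rank_three hT hu (hK 3 (by omega) (by omega)) (hK 4 (by omega) (by omega))
      (by omega) (by omega)

/-- The radical of a local symmetric algebra with at most five traces has dimension at most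
thirteen. -/
theorem finrank_le [IsAlgClosed F] : finrank F N ≤ 13 := by
  rcases Nat.lt_or_ge (finrank F N) (finrank F ↥(N ^ 2) + 2) with h1 | h1
  · obtain ⟨c₀, hc₀, hc⟩ := h.exists_line (n := 1) le_rfl
      (show finrank F ↥(N ^ 1) ≤ finrank F ↥(N ^ 2) + 1 by rw [pow_one]; omega)
    rw [pow_one] at hc₀ hc
    obtain ⟨L, hL⟩ := h.nil
    have hcomm := BlockCharsA.TwoChars.commute_of_gen (F := F) (E := 0) (A := N) (N := N)
      (fun x hx => ⟨0, by rwa [zero_smul, sub_zero]⟩) h.mul_le hL hc₀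
      (by rwa [← sq]) (Commute.zero_left c₀)
    have hK : comms N = ⊥ := le_bot_iff.1 (Submodule.span_le.2 (by
      rintro _ ⟨a, ha, b, hb, rfl⟩
      exact sub_eq_zero.2 (hcomm a ha b hb).eq))
    have := h.codim
    rw [hK, finrank_bot] at this
    omega
  rcases Nat.lt_or_ge (finrank F N) (finrank F ↥(N ^ 2) + 3) with h2 | h2
  · exact h.finrank_le_of_two (by omega)
  rcases Nat.lt_or_ge (finrank F N) (finrank F ↥(N ^ 2) + 4) with h3 | h3
  · exact h.finrank_le_of_three (by omega)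
  have hc := h.codim
  have hKeq : comms N = N ^ 2 := Submodule.eq_of_le_of_finrank_le comms_le_sq (by omega)
  have h0 : N ^ 2 = ⊥ := h.eq_bot_of_lam (by omega) fun x hx => h.lam_comms (hKeq.ge hx)
  rw [hKeq, h0, finrank_bot] at hc
  omega

end Setting

end Cfsg.Agent.Blocks.FiveTraces
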