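import Cfsg.Agent.Lib.Blocks.FiveTraces.Basic
import Cfsg.Agent.Lib.Blocks.FiveTraces.Commutators

/-!
# Three generators: layers and products
-/

set_option linter.unusedSectionVars false

namespace Cfsg.Agent.Blocks.FiveTraces

open Module
open scoped Pointwise

universe u v

variable {F : Type u} [Field F] {𝒜 : Type v} [Ring 𝒜] [Algebra F 𝒜]
  {lam : 𝒜 →ₗ[F] F} {N : Submodule F 𝒜}

/-- The elements paired to zero with a subspace. -/
def orth (lam : 𝒜 →ₗ[F] F) (S : Submodule F 𝒜) : Submodule F 𝒜 where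
  carrier := {a | ∀ w ∈ S, lam (a * w) = 0}
  add_mem' {a b} ha hb w hw := by rw [add_mul, map_add, ha w hw, hb w hw, add_zero]
  zero_mem' w _ := by rw [zero_mul, map_zero]
  smul_mem' c a ha w hw := by rw [smul_mul_assoc, map_smul, ha w hw, smul_zero]

theorem mem_orth {S : Submodule F 𝒜} {a : 𝒜} :
    a ∈ orth lam S ↔ ∀ w ∈ S, lam (a * w) = 0 := Iff.rfl

/-- Coordinates for three generators. -/
structure Three (N : Submodule F 𝒜) (ι : (Fin 3 → F) →ₗ[F] 𝒜) : Prop where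
  mem : ∀ v, ι v ∈ N
  gens : N ≤ LinearMap.range ι ⊔ N ^ 2

/-- A non-zero vector of a three-dimensional space extends to a basis. -/
theorem exists_two_more {v : Fin 3 → F} (hv : v ≠ 0) :
    ∃ a b : Fin 3 → F, ⊤ ≤ Submodule.span F ({v, a, b} : Set (Fin 3 → F)) := by
  have h3 : finrank F (Fin 3 → F) = 3 := Module.finrank_fin_fun F
  have h1 : LinearIndependent F ![v] := LinearIndependent.of_subsingleton (i := (0 : Fin 1)) (by simpa)
  obtain ⟨a, ha⟩ := exists_linearIndependent_cons_of_lt_finrank h1 (by omega)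
  obtain ⟨b, hb⟩ := exists_linearIndependent_cons_of_lt_finrank ha (by omega)
  refine ⟨a, b, ?_⟩
  rw [← hb.span_eq_top_of_card_eq_finrank (by rw [Fintype.card_fin, h3])]
  refine Submodule.span_mono ?_
  rintro _ ⟨i, rfl⟩
  fin_cases i <;> simp

/-- Two independent vectors of a three-dimensional space extend to a basis. -/
theorem exists_one_more {a b : Fin 3 → F} (hab : LinearIndependent F ![a, b]) :
    ∃ x : Fin 3 → F, ⊤ ≤ Submodule.span F ({x, a, b} : Set (Fin 3 → F)) := by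
  have h3 : finrank F (Fin 3 → F) = 3 := Module.finrank_fin_fun F
  obtain ⟨x, hx⟩ := exists_linearIndependent_cons_of_lt_finrank hab (by omega)
  refine ⟨x, ?_⟩
  rw [← hx.span_eq_top_of_card_eq_finrank (by rw [Fintype.card_fin, h3])]
  refine Submodule.span_mono ?_
  rintro _ ⟨i, rfl⟩
  fin_cases i <;> simp

theorem range_le_span {ι : (Fin 3 → F) →ₗ[F] 𝒜} {s : Set (Fin 3 → F)}
    (hs : ⊤ ≤ Submodule.span F s) : LinearMap.range ι ≤ Submodule.span F (ι '' s) := by
  rw [LinearMap.range_eq_map, ← Submodule.map_span]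
  exact Submodule.map_mono hs

namespace Setting

variable (h : Setting lam N)
include h

theorem eq_zero_of_ge {L k : ℕ} (hL : N ^ (L + 1) = ⊥) (hk : L + 1 ≤ k) {x : 𝒜} (hx : x ∈ N ^ k) :
    x = 0 := by
  have := h.pow_anti (by omega) hk hx
  rwa [hL, Submodule.mem_bot] at this

theorem mul_eq_zero_of_ge {L i j : ℕ} (hL : N ^ (L + 1) = ⊥) (hij : L + 1 ≤ i + j) {a b : 𝒜}
    (ha : a ∈ N ^ i) (hb : b ∈ N ^ j) : a * b = 0 :=
  h.eq_zero_of_ge hL hij (mul_mem_pow ha hb)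

theorem lam_mul_comm_zero {a b : 𝒜} (hab : lam (a * b) = 0) : lam (b * a) = 0 := by
  rw [h.trace, hab]

variable {ι : (Fin 3 → F) →ₗ[F] 𝒜}

theorem comms_le_three (hT : Three N ι) {a b c : Fin 3 → F}
    (hbasis : ⊤ ≤ Submodule.span F ({a, b, c} : Set (Fin 3 → F))) {U : Submodule F 𝒜}
    (h3 : N ^ 3 ≤ U) (hab : ι a * ι b - ι b * ι a ∈ U) (hac : ι a * ι c - ι c * ι a ∈ U)
    (hbc : ι b * ι c - ι c * ι b ∈ U) : comms N ≤ U := by
  refine comms_le_of_gens (X := ι '' {a, b, c})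
    (hT.gens.trans (sup_le_sup_right (range_le_span hbasis) _)) ?_ ?_ (h.pow_le (by omega))
    fun x hx y hy => ?_
  · rintro _ ⟨s, hs, rfl⟩ _ ⟨t, ht, rfl⟩
    rcases hs with rfl | rfl | rfl <;> rcases ht with rfl | rfl | rfl <;>
      first
        | (rw [sub_self]; exact U.zero_mem)
        | assumption
        | (apply comm_flip_mem; assumption)
  · rintro _ ⟨s, -, rfl⟩
    exact hT.mem s
  · exact U.sub_mem (h3 (by simpa using mul_mem_pow (mem_pow_one hx) hy))
      (h3 (mul_mem_pow hy (mem_pow_one hx)))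

theorem sq_le_three (hT : Three N ι) (hK : N ^ 2 ≤ comms N ⊔ N ^ 3) {a b c : Fin 3 → F}
    (hbasis : ⊤ ≤ Submodule.span F ({a, b, c} : Set (Fin 3 → F))) {U : Submodule F 𝒜}
    (h3 : N ^ 3 ≤ U) (hab : ι a * ι b - ι b * ι a ∈ U) (hac : ι a * ι c - ι c * ι a ∈ U)
    (hbc : ι b * ι c - ι c * ι b ∈ U) : N ^ 2 ≤ U :=
  hK.trans (sup_le (h.comms_le_three hT hbasis h3 hab hac hbc) h3)

theorem lam_pow_eq_zero_of_sq {L : ℕ} (hL3 : 3 ≤ L) {U : Submodule F 𝒜} (hsq : N ^ 2 ≤ U)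
    (hU : U ≤ orth lam (N ^ (L - 2))) : N ^ L = ⊥ := by
  refine h.eq_bot_of_lam (by omega) fun x hx => ?_
  rw [show L = 2 + (L - 2) by omega, pow_add] at hx
  exact (Submodule.mul_le.2 (fun a ha b hb => (hU (hsq ha)) b hb) :
    N ^ 2 * N ^ (L - 2) ≤ LinearMap.ker lam) hx

variable [FiniteDimensional F 𝒜]

/-- The dimension of a layer. -/
theorem finrank_layer {n m : ℕ} (hn : 1 ≤ n) (hnm : n ≤ m) :
    finrank F ↥((N ^ n).map (cl N m)) + finrank F ↥(N ^ m) = finrank F ↥(N ^ n) := by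
  have hker : LinearMap.ker ((cl N m).domRestrict (N ^ n)) = (N ^ m).comap (N ^ n).subtype := by
    ext x
    exact cl_eq_zero
  have h1 := LinearMap.finrank_range_add_finrank_ker ((cl N m).domRestrict (N ^ n))
  rw [LinearMap.range_domRestrict, hker,
    LinearEquiv.finrank_eq (Submodule.comapSubtypeEquivOfLe (h.pow_anti hn hnm))] at h1
  exact h1

/-- A layer of dimension at most one is spanned by one element. -/
theorem exists_line {n : ℕ} (hn : 1 ≤ n)
    (hd : finrank F ↥(N ^ n) ≤ finrank F ↥(N ^ (n + 1)) + 1) :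
    ∃ c₀ ∈ N ^ n, N ^ n ≤ (F ∙ c₀) ⊔ N ^ (n + 1) := by
  by_cases hle : N ^ n ≤ N ^ (n + 1)
  · exact ⟨0, Submodule.zero_mem _, hle.trans le_sup_right⟩
  obtain ⟨c₀, hc, hc'⟩ := SetLike.not_le_iff_exists.1 hle
  refine ⟨c₀, hc, ?_⟩
  have hsup : (F ∙ c₀) ⊔ N ^ (n + 1) ≤ N ^ n :=
    sup_le (by rwa [Submodule.span_singleton_le_iff_mem]) (h.pow_succ_le n hn)
  have hlt : N ^ (n + 1) < (F ∙ c₀) ⊔ N ^ (n + 1) :=
    lt_of_le_of_ne le_sup_right fun he => hc'
      (he.ge (Submodule.mem_sup_left (Submodule.mem_span_singleton_self c₀)))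
  have := Submodule.finrank_lt_finrank_of_lt hlt
  exact (Submodule.eq_of_le_of_finrank_le hsup (by omega)).ge

end Setting

end Cfsg.Agent.Blocks.FiveTraces
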