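import Cfsg.Agent.Lib.Blocks.FiveTraces.Commutators

/-!
# Two generators

With two generators of the radical the seventh power vanishes.
-/

set_option linter.unusedSectionVars false

namespace Cfsg.Agent.Blocks.FiveTraces

open Module
open scoped Pointwise

universe u v

variable {F : Type u} [Field F] {𝒜 : Type v} [Ring 𝒜] [Algebra F 𝒜]
  {lam : 𝒜 →ₗ[F] F} {N : Submodule F 𝒜}

/-- The situation of two generators with long powers. -/
structure Two (N : Submodule F 𝒜) (x y : 𝒜) : Prop where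
  memx : x ∈ N
  memy : y ∈ N
  gens : N ≤ Submodule.span F {x, y} ⊔ N ^ 2
  comm : x * y - y * x ∉ N ^ 3
  rel : ∀ e : Fin 3 → 𝒜, (∀ i, e i ∈ N ^ 2) →
    ∃ t : Fin 3 → F, t ≠ 0 ∧ ∑ i, t i • cl N 3 (e i) = 0
  cube : N ^ 3 ≤ comms N ⊔ N ^ 4
  four : N ^ 4 ≤ comms N ⊔ N ^ 5

namespace Setting

variable (h : Setting lam N)
include h

theorem sq_le_of_gens {X : Set 𝒜} (hX : N ≤ Submodule.span F X ⊔ N ^ 2) (hXN : ∀ s ∈ X, s ∈ N)
    {U : Submodule F 𝒜} (h1 : ∀ s ∈ X, ∀ t ∈ X, s * t ∈ U) (h3 : N ^ 3 ≤ U) : N ^ 2 ≤ U := by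
  rw [sq]
  refine mem_sup_mul hX hX h1 ?_ ?_
  · refine le_trans ?_ h3
    rw [pow_succ N 2]
  · refine le_trans ?_ h3
    rw [pow_succ' N 2]
    exact Submodule.mul_le.2 fun a ha b hb =>
      Submodule.mul_mem_mul (Submodule.span_le.2 hXN ha) hb

theorem cube_le_of_gens {X G : Set 𝒜} (hX : N ≤ Submodule.span F X ⊔ N ^ 2) (hXN : ∀ s ∈ X, s ∈ N)
    (hG : N ^ 2 ≤ Submodule.span F G ⊔ N ^ 3) {U : Submodule F 𝒜}
    (h1 : ∀ s ∈ X, ∀ g ∈ G, s * g ∈ U) (h4 : N ^ 4 ≤ U) : N ^ 3 ≤ U := by
  rw [pow_succ' N 2]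
  refine mem_sup_mul hX hG h1 ?_ ?_
  · refine le_trans ?_ h4
    rw [show (4 : ℕ) = 2 + 2 from rfl, pow_add]
  · refine le_trans ?_ h4
    rw [pow_succ' N 3]
    exact Submodule.mul_le.2 fun a ha b hb =>
      Submodule.mul_mem_mul (Submodule.span_le.2 hXN ha) hb

/-- Two generators with a vanishing product in degree two. -/
theorem layer_three_of_pair {x y : 𝒜} (hT : Two N x y) (hxy : cl N 3 (x * y) = 0) :
    ∃ f, N ^ 3 ≤ (F ∙ f) ⊔ N ^ 4 := by
  obtain ⟨hx, hy, hX, hc, hrel, hK, -⟩ := hT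
  have hXN : ∀ s ∈ ({x, y} : Set 𝒜), s ∈ N := by rintro s (rfl | rfl) <;> assumption
  obtain ⟨t, ht0, ht⟩ := hrel ![x * x, y * y, y * x] (fun i => by
    fin_cases i <;> exact mul_mem_two (by assumption) (by assumption))
  simp only [Fin.sum_univ_three, Matrix.cons_val_zero, Matrix.cons_val_one, Matrix.cons_val] at ht
  have hyx : cl N 3 (y * x) ≠ 0 := fun h0 => hc (cl_eq_zero.1 (by rw [map_sub, hxy, h0, sub_zero]))
  have hxy4 : ∀ u ∈ N, cl N 4 (u * (x * y)) = 0 ∧ cl N 4 (x * y * u) = 0 := fun u hu => by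
    have h1 := h.mulL (k := 4) (b := 0) (by omega) le_rfl hu (hxy.trans (map_zero _).symm)
    have h2 := h.mulR (k := 4) (b := 0) (by omega) le_rfl hu (hxy.trans (map_zero _).symm)
    simp only [mul_zero, zero_mul, map_zero] at h1 h2
    exact ⟨h1, h2⟩
  by_cases hb : t 1 = 0
  · have ha : t 0 ≠ 0 := by
      intro ha
      rw [ha, hb, zero_smul, zero_smul, zero_add, zero_add] at ht
      refine ht0 (funext fun i => ?_)
      fin_cases i
      · exact ha
      · exact hb
      · exact (smul_eq_zero.1 ht).resolve_right hyx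
    obtain ⟨γ, hxx⟩ : ∃ γ : F, cl N 3 (x * x) = γ • cl N 3 (y * x) := by
      refine ⟨-((t 0)⁻¹ * t 2), ?_⟩
      rw [hb, zero_smul, add_zero, add_eq_zero_iff_eq_neg, ← eq_inv_smul_iff₀ ha] at ht
      rw [ht, smul_neg, smul_smul, neg_smul]
    refine ⟨y * y * x, h.layer_three (x := x) (y := y) (G := {y * x, y * y}) hx hy hX
      (h.sq_le_of_gens hX hXN ?_ le_sup_right) ?_ hc (mul_mem_pow (mul_mem_two hy hy) (mem_pow_one hx))
      hK ?_⟩
    · rintro s (rfl | rfl) r (rfl | rfl)
      · rw [← map_smul, cl_eq_cl] at hxx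
        exact Submodule.mem_sup.2 ⟨γ • (y * _), Submodule.smul_mem _ _
          (Submodule.subset_span (Or.inl rfl)), _, hxx, add_sub_cancel _ _⟩
      · exact Submodule.mem_sup_right (cl_eq_zero.1 hxy)
      · exact Submodule.mem_sup_left (Submodule.subset_span (Or.inl rfl))
      · exact Submodule.mem_sup_left (Submodule.subset_span (Or.inr rfl))
    · rintro g (rfl | rfl) <;> exact mul_mem_two (by assumption) (by assumption)
    have e1 := h.mulL (k := 4) (by omega) le_rfl hy (hxx.trans (map_smul _ _ _).symm)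
    have hxyx := (hxy4 x hx).2
    have hxyy := (hxy4 y hy).2
    have hyxy := (hxy4 y hy).1
    simp only [mul_smul_comm, map_smul, ← mul_assoc] at e1 hxyx hxyy hyxy
    rintro g (rfl | rfl)
    · refine ⟨⟨-γ, ?_⟩, ⟨1, ?_⟩⟩
      · rw [map_sub, ← mul_assoc, hxyx, e1, neg_smul, zero_sub]
      · rw [map_sub, ← mul_assoc, hyxy, one_smul, sub_zero]
    · refine ⟨⟨-1, ?_⟩, ⟨0, ?_⟩⟩
      · rw [map_sub, ← mul_assoc, hxyy, neg_smul, one_smul, zero_sub]
      · rw [← mul_assoc, sub_self, map_zero, zero_smul]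
  · obtain ⟨α, γ, hyy⟩ : ∃ α γ : F,
        cl N 3 (y * y) = α • cl N 3 (x * x) + γ • cl N 3 (y * x) := by
      refine ⟨-((t 1)⁻¹ * t 0), -((t 1)⁻¹ * t 2), ?_⟩
      apply smul_right_injective _ hb
      show t 1 • _ = t 1 • _
      rw [smul_add, smul_smul, smul_smul, mul_neg, mul_neg, ← mul_assoc, ← mul_assoc,
        mul_inv_cancel₀ hb, one_mul, one_mul]
      linear_combination (norm := module) ht
    refine ⟨y * x * x, h.layer_three (x := x) (y := y) (G := {x * x, y * x}) hx hy hX
      (h.sq_le_of_gens hX hXN ?_ le_sup_right) ?_ hc (mul_mem_pow (mul_mem_two hy hx) (mem_pow_one hx))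
      hK ?_⟩
    · rintro s (rfl | rfl) r (rfl | rfl)
      · exact Submodule.mem_sup_left (Submodule.subset_span (Or.inl rfl))
      · exact Submodule.mem_sup_right (cl_eq_zero.1 hxy)
      · exact Submodule.mem_sup_left (Submodule.subset_span (Or.inr rfl))
      · rw [← map_smul, ← map_smul, ← map_add, cl_eq_cl] at hyy
        refine Submodule.mem_sup.2 ⟨_, ?_, _, hyy, add_sub_cancel _ _⟩
        exact Submodule.add_mem _ (Submodule.smul_mem _ _ (Submodule.subset_span (Or.inl rfl)))
          (Submodule.smul_mem _ _ (Submodule.subset_span (Or.inr rfl)))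
    · rintro g (rfl | rfl) <;> exact mul_mem_two (by assumption) (by assumption)
    have hyy' : cl N 3 (y * y) = cl N 3 (α • (x * x) + γ • (y * x)) := by
      rw [map_add, map_smul, map_smul, hyy]
    have e1 := h.mulL (k := 4) (by omega) le_rfl hx hyy'
    have e2 := h.mulR (k := 4) (by omega) le_rfl hx hyy'
    have hxyx := (hxy4 x hx).2
    have hxyy := (hxy4 y hy).2
    have hyxy := (hxy4 y hy).1
    have hxxy := (hxy4 x hx).1
    simp only [mul_add, add_mul, mul_smul_comm, smul_mul_assoc, map_add, map_smul, ← mul_assoc]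
      at e1 e2 hxyx hxyy hyxy hxxy
    rw [hxyy, hxyx, smul_zero, add_zero] at e1
    rintro g (rfl | rfl)
    · refine ⟨⟨0, ?_⟩, ⟨1, ?_⟩⟩
      · rw [← mul_assoc, sub_self, map_zero, zero_smul]
      · rw [map_sub, ← mul_assoc, hxxy, sub_zero, one_smul]
    · refine ⟨⟨-1, ?_⟩, ⟨γ, ?_⟩⟩
      · rw [map_sub, ← mul_assoc, hxyx, zero_sub, neg_smul, one_smul]
      · rw [map_sub, ← mul_assoc, hyxy, sub_zero, e2, ← e1, zero_add]

/-- Other generators. -/
theorem two_of_gens {x y u v : 𝒜} (hT : Two N x y) (hu : u ∈ N) (hv : v ∈ N)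
    (hg : N ≤ Submodule.span F {u, v} ⊔ N ^ 2) : Two N u v := by
  refine ⟨hu, hv, hg, fun hc => hT.comm ?_, hT.rel, hT.cube, hT.four⟩
  refine comms_le_of_gens (U := N ^ 3) hg ?_ ?_ (h.pow_le (by omega)) (fun a ha b hb => ?_)
    (comm_mem_comms hT.memx hT.memy)
  · rintro s (rfl | rfl) t (rfl | rfl)
    · simp
    · exact hc
    · exact comm_flip_mem hc
    · simp
  · rintro s (rfl | rfl) <;> assumption
  · exact (N ^ 3).sub_mem (by simpa using mul_mem_pow (mem_pow_one ha) hb)
      (mul_mem_pow hb (mem_pow_one ha))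

theorem two_symm {x y : 𝒜} (hT : Two N x y) : Two N y x :=
  h.two_of_gens hT hT.memy hT.memx (by rw [Set.pair_comm]; exact hT.gens)

/-- The case of two alternating words in every degree. -/
theorem layer_four_of_alternating {x y : 𝒜} (hT : Two N x y) (hxx : cl N 3 (x * x) = 0)
    (hyy : cl N 3 (y * y) = 0) :
    (∃ f, N ^ 3 ≤ (F ∙ f) ⊔ N ^ 4) ∨ ∃ d, N ^ 4 ≤ (F ∙ d) ⊔ N ^ 5 := by
  obtain ⟨hx, hy, hX, hc, -, -, hK⟩ := hT
  have hXN : ∀ s ∈ ({x, y} : Set 𝒜), s ∈ N := by rintro s (rfl | rfl) <;> assumption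
  set d := x * y * x * y - y * x * y * x with hd
  set Z := (F ∙ d) ⊔ N ^ 5 with hZ
  have hG : N ^ 2 ≤ Submodule.span F ({x * y, y * x} : Set 𝒜) ⊔ N ^ 3 := by
    refine h.sq_le_of_gens hX hXN ?_ le_sup_right
    rintro s (rfl | rfl) t (rfl | rfl)
    · exact Submodule.mem_sup_right (cl_eq_zero.1 hxx)
    · exact Submodule.mem_sup_left (Submodule.subset_span (Or.inl rfl))
    · exact Submodule.mem_sup_left (Submodule.subset_span (Or.inr rfl))
    · exact Submodule.mem_sup_right (cl_eq_zero.1 hyy)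
  have hGN : ∀ g ∈ ({x * y, y * x} : Set 𝒜), g ∈ N ^ 2 := by
    rintro g (rfl | rfl)
    · exact mul_mem_two hx hy
    · exact mul_mem_two hy hx
  have hxx' : x * x ∈ N ^ 3 := cl_eq_zero.1 hxx
  have hyy' : y * y ∈ N ^ 3 := cl_eq_zero.1 hyy
  have hx1 := mem_pow_one hx
  have hy1 := mem_pow_one hy
  have hG3 : N ^ 3 ≤ Submodule.span F ({x * y * x, y * x * y} : Set 𝒜) ⊔ N ^ 4 := by
    refine h.cube_le_of_gens hX hXN hG ?_ le_sup_right
    rintro s (rfl | rfl) g (rfl | rfl)
    · exact Submodule.mem_sup_right (by rw [← mul_assoc]; exact mul_mem_pow hxx' hy1)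
    · exact Submodule.mem_sup_left (Submodule.subset_span (Or.inl (mul_assoc _ _ _).symm))
    · exact Submodule.mem_sup_left (Submodule.subset_span (Or.inr (mul_assoc _ _ _).symm))
    · exact Submodule.mem_sup_right (by rw [← mul_assoc]; exact mul_mem_pow hyy' hx1)
  have h31 : ∀ a ∈ N, ∀ b ∈ N ^ 3, a * b - b * a ∈ Z := by
    intro a ha b hb
    refine comm_mem_of_sup (hX ha) (hG3 hb) ?_ ?_ ?_ ?_
    · rintro s (rfl | rfl) t (rfl | rfl)
      · refine Submodule.mem_sup_right ((N ^ 5).sub_mem ?_ ?_)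
        · rw [show s * (s * y * s) = s * s * (y * s) by simp only [mul_assoc]]
          exact mul_mem_pow hxx' (mul_mem_two hy hx)
        · rw [show s * y * s * s = s * y * (s * s) by simp only [mul_assoc]]
          exact mul_mem_pow (mul_mem_two hx hy) hxx'
      · refine Submodule.mem_sup_left (Submodule.mem_span_singleton.2 ⟨1, ?_⟩)
        rw [one_smul, hd]
        simp only [mul_assoc]
      · refine comm_flip_mem (Submodule.mem_sup_left (Submodule.mem_span_singleton.2 ⟨1, ?_⟩))
        rw [one_smul, hd]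
        simp only [mul_assoc]
      · refine Submodule.mem_sup_right ((N ^ 5).sub_mem ?_ ?_)
        · rw [show s * (s * x * s) = s * s * (x * s) by simp only [mul_assoc]]
          exact mul_mem_pow hyy' (mul_mem_two hx hy)
        · rw [show s * x * s * s = s * x * (s * s) by simp only [mul_assoc]]
          exact mul_mem_pow (mul_mem_two hy hx) hyy'
    · exact fun s hs t ht => Submodule.mem_sup_right ((N ^ 5).sub_mem
        (mul_mem_pow (i := 1) (mem_pow_one (hXN s hs)) ht)
        (mul_mem_pow (j := 1) ht (mem_pow_one (hXN s hs))))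
    · rintro s hs t (rfl | rfl)
      · exact Submodule.mem_sup_right ((N ^ 5).sub_mem
          (mul_mem_pow hs (mul_mem_pow (mul_mem_two hx hy) hx1))
          (mul_mem_pow (mul_mem_pow (mul_mem_two hx hy) hx1) hs))
      · exact Submodule.mem_sup_right ((N ^ 5).sub_mem
          (mul_mem_pow hs (mul_mem_pow (mul_mem_two hy hx) hy1))
          (mul_mem_pow (mul_mem_pow (mul_mem_two hy hx) hy1) hs))
    · exact fun s hs t ht => Submodule.mem_sup_right ((N ^ 5).sub_mem
        (h.pow_anti (by omega) (by omega) (mul_mem_pow hs ht))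
        (h.pow_anti (by omega) (by omega) (mul_mem_pow ht hs)))
  have h22 : ∀ a ∈ N ^ 2, ∀ g ∈ ({x * y, y * x} : Set 𝒜), a * g - g * a ∈ Z := by
    intro a ha g hg
    refine comm_mem_of_sup (T := ({g} : Set 𝒜)) (B' := ⊥) (hG ha)
      (Submodule.mem_sup_left (Submodule.subset_span rfl)) ?_ (by simp) ?_ (by simp)
    · have key : x * y * (y * x) - y * x * (x * y) ∈ Z := by
        refine Submodule.mem_sup_right ((N ^ 5).sub_mem ?_ ?_)
        · rw [show x * y * (y * x) = x * (y * y) * x by simp only [mul_assoc]]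
          exact mul_mem_pow (mul_mem_pow hx1 hyy') hx1
        · rw [show y * x * (x * y) = y * (x * x) * y by simp only [mul_assoc]]
          exact mul_mem_pow (mul_mem_pow hy1 hxx') hy1
      rintro s (rfl | rfl) t rfl <;> rcases hg with rfl | rfl
      · simp
      · exact key
      · exact comm_flip_mem key
      · simp
    · rintro s hs t rfl
      exact Submodule.mem_sup_right ((N ^ 5).sub_mem (mul_mem_pow hs (hGN _ hg))
        (mul_mem_pow (hGN _ hg) hs))
  set a₁ := x * (x * y) - x * y * x with ha₁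
  set b₁ := y * (y * x) - y * x * y with hb₁
  set U := Submodule.span F ({a₁, b₁} : Set 𝒜) ⊔ Z
  have hle : comms N ≤ (F ∙ (x * y - y * x)) ⊔ U := by
    refine comms_le_of_gens hX ?_ hXN (h.pow_le (by omega)) fun a ha b hb => ?_
    · rintro s (rfl | rfl) t (rfl | rfl)
      · simp
      · exact Submodule.mem_sup_left (Submodule.mem_span_singleton_self _)
      · exact comm_flip_mem (Submodule.mem_sup_left (Submodule.mem_span_singleton_self _))
      · simp
    refine Submodule.mem_sup_right (comm_sq_mem_of_gens hX hG ?_ hXN (h.pow_le (by omega))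
      (fun a ha b hb => Submodule.mem_sup_right (h31 a ha b hb))
      (fun a ha g hg => Submodule.mem_sup_right (h22 a ha g hg)) ha hb)
    rintro s (rfl | rfl) g (rfl | rfl)
    · exact Submodule.mem_sup_left (Submodule.subset_span (Or.inl rfl))
    · refine Submodule.mem_sup.2 ⟨-a₁, Submodule.neg_mem _ (Submodule.subset_span (Or.inl rfl)), _,
        comm_flip_mem (h31 y hy _ hxx'), ?_⟩
      rw [ha₁]; simp only [mul_assoc]; abel
    · refine Submodule.mem_sup.2 ⟨-b₁, Submodule.neg_mem _ (Submodule.subset_span (Or.inr rfl)), _,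
        comm_flip_mem (h31 x hx _ hyy'), ?_⟩
      rw [hb₁]; simp only [mul_assoc]; abel
    · exact Submodule.mem_sup_left (Submodule.subset_span (Or.inr rfl))
  have hd4 : d ∈ N ^ 4 := by
    have e1 := mul_mem_pow (mul_mem_pow (mul_mem_two hx hy) hx1) hy1
    have e2 := mul_mem_pow (mul_mem_pow (mul_mem_two hy hx) hy1) hx1
    exact (N ^ 4).sub_mem e1 e2
  have hZ4 : Z ≤ N ^ 4 := sup_le (by rwa [Submodule.span_singleton_le_iff_mem])
    (h.pow_anti (by omega) (by omega))
  by_cases hind : ∀ p q : F, p • cl N 4 (x * y * x) + q • cl N 4 (y * x * y) = 0 → p = 0 ∧ q = 0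
  · refine Or.inr ⟨d, fun z hz => ?_⟩
    obtain ⟨k, hk, r, hr, rfl⟩ := Submodule.mem_sup.1 (hK hz)
    refine Submodule.add_mem _ ?_ (Submodule.mem_sup_right hr)
    obtain ⟨u, hu, w, hw, rfl⟩ := Submodule.mem_sup.1 (hle hk)
    obtain ⟨t, rfl⟩ := Submodule.mem_span_singleton.1 hu
    obtain ⟨w₁, hw₁, z₁, hz₁, rfl⟩ := Submodule.mem_sup.1 hw
    obtain ⟨p, q, rfl⟩ := Submodule.mem_span_pair.1 hw₁
    have hk4 : t • (x * y - y * x) + (p • a₁ + q • b₁) ∈ N ^ 4 := by
      have := (N ^ 4).sub_mem ((N ^ 4).sub_mem hz (h.pow_anti (by omega) (by omega) hr)) (hZ4 hz₁)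
      rwa [add_sub_cancel_right, ← add_assoc, add_sub_cancel_right] at this
    have ht : t = 0 := by
      by_contra ht
      refine hc ?_
      have h3 := (N ^ 3).sub_mem (h.pow_anti (by omega) (by omega : 3 ≤ 4) hk4)
        ((N ^ 3).add_mem ((N ^ 3).smul_mem p ((N ^ 3).sub_mem (mul_mem_pow hx1 (mul_mem_two hx hy))
          (mul_mem_pow (mul_mem_two hx hy) hx1)))
          ((N ^ 3).smul_mem q ((N ^ 3).sub_mem (mul_mem_pow hy1 (mul_mem_two hy hx))
          (mul_mem_pow (mul_mem_two hy hx) hy1))))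
      rw [add_sub_cancel_right] at h3
      have := (N ^ 3).smul_mem t⁻¹ h3
      rwa [smul_smul, inv_mul_cancel₀ ht, one_smul] at this
    subst ht
    rw [zero_smul, zero_add] at hk4
    have e := cl_eq_zero.2 hk4
    have e1 : cl N 4 (x * (x * y)) = 0 := cl_eq_zero.2 (by
      rw [← mul_assoc]; exact mul_mem_pow hxx' hy1)
    have e2 : cl N 4 (y * (y * x)) = 0 := cl_eq_zero.2 (by
      rw [← mul_assoc]; exact mul_mem_pow hyy' hx1)
    rw [map_add, map_smul, map_smul, ha₁, hb₁, map_sub, map_sub, e1, e2] at e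
    obtain ⟨hp, hq⟩ := hind p q (by linear_combination (norm := module) (-1 : F) • e)
    subst hp hq
    rw [zero_smul, zero_add, zero_smul, zero_smul, zero_add, zero_add]
    exact hz₁
  · push Not at hind
    obtain ⟨p, q, hpq, hne⟩ := hind
    refine Or.inl ?_
    rw [← map_smul, ← map_smul, ← map_add, cl_eq_zero] at hpq
    by_cases hp : p = 0
    · refine ⟨x * y * x, hG3.trans (sup_le (Submodule.span_le.2 ?_) le_sup_right)⟩
      rintro s (rfl | rfl)
      · exact Submodule.mem_sup_left (Submodule.mem_span_singleton_self _)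
      · rw [hp, zero_smul, zero_add] at hpq
        have := (N ^ 4).smul_mem q⁻¹ hpq
        rw [smul_smul, inv_mul_cancel₀ (hne hp), one_smul] at this
        exact Submodule.mem_sup_right this
    · refine ⟨y * x * y, hG3.trans (sup_le (Submodule.span_le.2 ?_) le_sup_right)⟩
      rintro s (rfl | rfl)
      · refine Submodule.mem_sup.2 ⟨-(p⁻¹ * q) • (y * x * y), Submodule.smul_mem _ _
          (Submodule.mem_span_singleton_self _), p⁻¹ • (p • (x * y * x) + q • (y * x * y)),
          (N ^ 4).smul_mem _ hpq, ?_⟩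
        rw [smul_add, smul_smul, smul_smul, inv_mul_cancel₀ hp, one_smul, neg_smul]
        abel
      · exact Submodule.mem_sup_left (Submodule.mem_span_singleton_self _)

/-- A generator with vanishing square and no independent vanishing product. -/
theorem layer_of_square {x y : 𝒜} (hT : Two N x y) (hxx : cl N 3 (x * x) = 0) :
    (∃ f, N ^ 3 ≤ (F ∙ f) ⊔ N ^ 4) ∨ ∃ d, N ^ 4 ≤ (F ∙ d) ⊔ N ^ 5 := by
  have hx := hT.memx
  have hy := hT.memy
  have hX := hT.gens
  have hXN : ∀ s ∈ ({x, y} : Set 𝒜), s ∈ N := by rintro s (rfl | rfl) <;> assumption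
  obtain ⟨t, ht0, ht⟩ := hT.rel ![x * y, y * x, y * y] (fun i => by
    fin_cases i <;> exact mul_mem_two (by assumption) (by assumption))
  simp only [Fin.sum_univ_three, Matrix.cons_val_zero, Matrix.cons_val_one, Matrix.cons_val] at ht
  by_cases hg : t 2 = 0
  · rw [hg, zero_smul, add_zero] at ht
    by_cases ha : t 0 = 0
    · have hb : t 1 ≠ 0 := by
        intro hb
        refine ht0 (funext fun i => ?_)
        fin_cases i
        · exact ha
        · exact hb
        · exact hg
      rw [ha, zero_smul, zero_add] at ht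
      exact Or.inl (h.layer_three_of_pair (h.two_symm hT) ((smul_eq_zero.1 ht).resolve_left hb))
    by_cases hb : t 1 = 0
    · rw [hb, zero_smul, add_zero] at ht
      exact Or.inl (h.layer_three_of_pair hT ((smul_eq_zero.1 ht).resolve_left ha))
    obtain ⟨τ, hτ⟩ : ∃ τ : F, cl N 3 (y * x) = τ • cl N 3 (x * y) := by
      refine ⟨-((t 1)⁻¹ * t 0), ?_⟩
      apply smul_right_injective _ hb
      show t 1 • _ = t 1 • _
      rw [smul_smul, mul_neg, ← mul_assoc, mul_inv_cancel₀ hb, one_mul]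
      linear_combination (norm := module) ht
    refine Or.inl ⟨x * y * y, h.layer_three (x := x) (y := y) (G := {x * y, y * y}) hx hy hX
      (h.sq_le_of_gens hX hXN ?_ le_sup_right) ?_ hT.comm
      (mul_mem_pow (mul_mem_two hx hy) (mem_pow_one hy)) hT.cube ?_⟩
    · rintro s (rfl | rfl) r (rfl | rfl)
      · exact Submodule.mem_sup_right (cl_eq_zero.1 hxx)
      · exact Submodule.mem_sup_left (Submodule.subset_span (Or.inl rfl))
      · rw [← map_smul, cl_eq_cl] at hτ
        exact Submodule.mem_sup.2 ⟨_, Submodule.smul_mem _ τ (Submodule.subset_span (Or.inl rfl)), _,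
          hτ, add_sub_cancel _ _⟩
      · exact Submodule.mem_sup_left (Submodule.subset_span (Or.inr rfl))
    · rintro g (rfl | rfl) <;> exact mul_mem_two (by assumption) (by assumption)
    have hτ' : cl N 3 (y * x) = cl N 3 (τ • (x * y)) := by rw [map_smul, hτ]
    have e1 := h.mulR (k := 4) (b := 0) (by omega) le_rfl hy (hxx.trans (map_zero _).symm)
    have e2 := h.mulL (k := 4) (by omega) le_rfl hx hτ'
    have e3 := h.mulL (k := 4) (by omega) le_rfl hy hτ'
    have e4 := h.mulR (k := 4) (by omega) le_rfl hy hτ'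
    simp only [mul_zero, zero_mul, mul_smul_comm, smul_mul_assoc, map_smul, map_zero, ← mul_assoc]
      at e1 e2 e3 e4
    rw [e1, smul_zero] at e2
    rw [e4, smul_smul] at e3
    rintro g (rfl | rfl)
    · refine ⟨⟨0, ?_⟩, ⟨τ - 1, ?_⟩⟩
      · rw [map_sub, ← mul_assoc, e1, e2, sub_zero, zero_smul]
      · rw [map_sub, ← mul_assoc, e4, sub_smul, one_smul]
    · refine ⟨⟨1 - τ * τ, ?_⟩, ⟨0, ?_⟩⟩
      · rw [map_sub, ← mul_assoc, e3, sub_smul, one_smul]
      · rw [← mul_assoc, sub_self, map_zero, zero_smul]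
  obtain ⟨a, b, hyy⟩ : ∃ a b : F,
      cl N 3 (y * y) = a • cl N 3 (x * y) + b • cl N 3 (y * x) := by
    refine ⟨-((t 2)⁻¹ * t 0), -((t 2)⁻¹ * t 1), ?_⟩
    apply smul_right_injective _ hg
    show t 2 • _ = t 2 • _
    rw [smul_add, smul_smul, smul_smul, mul_neg, mul_neg, ← mul_assoc, ← mul_assoc,
      mul_inv_cancel₀ hg, one_mul, one_mul]
    linear_combination (norm := module) ht
  by_cases hab : a = b
  · subst hab
    set y' := y - a • x with hy'
    have hy'N : y' ∈ N := N.sub_mem hy (N.smul_mem _ hx)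
    have hg' : N ≤ Submodule.span F {x, y'} ⊔ N ^ 2 := by
      refine hX.trans (sup_le_sup_right (Submodule.span_le.2 ?_) _)
      rintro s (rfl | rfl)
      · exact Submodule.subset_span (Or.inl rfl)
      · exact Submodule.mem_span_pair.2 ⟨a, 1, by rw [hy', one_smul, add_sub_cancel]⟩
    refine h.layer_four_of_alternating (h.two_of_gens hT hx hy'N hg') hxx ?_
    rw [hy']
    simp only [sub_mul, mul_sub, smul_mul_assoc, mul_smul_comm, map_sub, map_smul, hxx, hyy]
    module
  by_cases hb : b = 0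
  · subst hb
    rw [zero_smul, add_zero] at hyy
    refine Or.inl (h.layer_three_of_pair (x := y - a • x) (y := y)
      (h.two_of_gens hT (N.sub_mem hy (N.smul_mem _ hx)) hy ?_) ?_)
    · refine hX.trans (sup_le_sup_right (Submodule.span_le.2 ?_) _)
      rintro s (rfl | rfl)
      · exact Submodule.mem_span_pair.2 ⟨-a⁻¹, a⁻¹, by
          rw [smul_sub, smul_smul, neg_mul, inv_mul_cancel₀ hab]; module⟩
      · exact Submodule.subset_span (Or.inr rfl)
    · simp only [sub_mul, smul_mul_assoc, map_sub, map_smul, hyy, sub_self]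
  by_cases ha : a = 0
  · subst ha
    rw [zero_smul, zero_add] at hyy
    refine Or.inl (h.layer_three_of_pair (x := y) (y := y - b • x)
      (h.two_of_gens hT hy (N.sub_mem hy (N.smul_mem _ hx)) ?_) ?_)
    · refine hX.trans (sup_le_sup_right (Submodule.span_le.2 ?_) _)
      rintro s (rfl | rfl)
      · exact Submodule.mem_span_pair.2 ⟨b⁻¹, -b⁻¹, by
          rw [smul_sub, smul_smul, neg_mul, inv_mul_cancel₀ hb, neg_smul, neg_smul, one_smul]
          module⟩
      · exact Submodule.subset_span (Or.inl rfl)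
    · simp only [mul_sub, mul_smul_comm, map_sub, map_smul, hyy, sub_self]
  set P := -a⁻¹ with hP
  set Q := -b⁻¹ with hQ
  have hPQ : P - Q ≠ 0 := fun e => hab (inv_injective (neg_injective (sub_eq_zero.1 e)))
  have hPa : 1 + P * a = 0 := by rw [hP, neg_mul, inv_mul_cancel₀ ha, add_neg_cancel]
  have hQb : 1 + Q * b = 0 := by rw [hQ, neg_mul, inv_mul_cancel₀ hb, add_neg_cancel]
  refine Or.inl (h.layer_three_of_pair (x := x + P • y) (y := x + Q • y)
    (h.two_of_gens hT (N.add_mem hx (N.smul_mem _ hy)) (N.add_mem hx (N.smul_mem _ hy)) ?_) ?_)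
  · refine hX.trans (sup_le_sup_right (Submodule.span_le.2 ?_) _)
    have hi : (P - Q)⁻¹ * P - (P - Q)⁻¹ * Q = 1 := by rw [← mul_sub, inv_mul_cancel₀ hPQ]
    rintro r (rfl | rfl)
    · refine Submodule.mem_span_pair.2 ⟨-((P - Q)⁻¹ * Q), (P - Q)⁻¹ * P, ?_⟩
      conv_rhs => rw [← one_smul F r, ← hi]
      module
    · refine Submodule.mem_span_pair.2 ⟨(P - Q)⁻¹, -(P - Q)⁻¹, ?_⟩
      conv_rhs => rw [← one_smul F r, ← hi]
      module
  · simp only [add_mul, mul_add, smul_mul_assoc, mul_smul_comm, map_add, map_smul, hxx, hyy]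
    have e1 : Q * (1 + P * a) = 0 := by rw [hPa, mul_zero]
    have e2 : P * (1 + Q * b) = 0 := by rw [hQb, mul_zero]
    calc _ = (Q * (1 + P * a)) • cl N 3 (x * y) + (P * (1 + Q * b)) • cl N 3 (y * x) := by module
      _ = 0 := by rw [e1, e2, zero_smul, zero_smul, add_zero]

variable [FiniteDimensional F 𝒜]

/-- Some product of two generators vanishes in degree two. -/
theorem exists_normal_gens [IsAlgClosed F] {x y : 𝒜} (hT : Two N x y)
    (hm : finrank F ↥(N ^ 2) + 2 = finrank F N) :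
    ∃ u v, Two N u v ∧ (cl N 3 (u * v) = 0 ∨ cl N 3 (u * u) = 0) := by
  have hx := hT.memx
  have hy := hT.memy
  -- the generators are independent modulo the square
  have hind : ∀ p q : F, p • x + q • y ∈ N ^ 2 → p = 0 ∧ q = 0 := by
    intro p q hpq
    by_contra hne
    have key : ∀ w : 𝒜, N ≤ (F ∙ w) ⊔ N ^ 2 → False := fun w hw => by
      have h1 := (Submodule.finrank_mono hw).trans
        (Submodule.finrank_add_le_finrank_add_finrank _ _)
      have h2 : finrank F (F ∙ w) ≤ 1 := (finrank_span_le_card ({w} : Set 𝒜)).trans (by simp)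
      omega
    by_cases hq : q = 0
    · have hp : p ≠ 0 := fun hp => hne ⟨hp, hq⟩
      rw [hq, zero_smul, add_zero] at hpq
      have := (N ^ 2).smul_mem p⁻¹ hpq
      rw [smul_smul, inv_mul_cancel₀ hp, one_smul] at this
      refine key y (hT.gens.trans (sup_le (Submodule.span_le.2 ?_) le_sup_right))
      rintro s (rfl | rfl)
      · exact Submodule.mem_sup_right this
      · exact Submodule.mem_sup_left (Submodule.mem_span_singleton_self _)
    · refine key x (hT.gens.trans (sup_le (Submodule.span_le.2 ?_) le_sup_right))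
      rintro s (rfl | rfl)
      · exact Submodule.mem_sup_left (Submodule.mem_span_singleton_self _)
      · refine Submodule.mem_sup.2 ⟨-(q⁻¹ * p) • x, Submodule.smul_mem _ _
          (Submodule.mem_span_singleton_self x), q⁻¹ • (p • x + q • s),
          (N ^ 2).smul_mem _ hpq, ?_⟩
        rw [smul_add, smul_smul, smul_smul, inv_mul_cancel₀ hq, one_smul]
        module
  -- a pair with a vanishing product
  obtain ⟨u, hu, hu2, v, hv, hv2, huv⟩ : ∃ u, u ∈ N ∧ u ∉ N ^ 2 ∧ ∃ v, v ∈ N ∧ v ∉ N ^ 2 ∧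
      cl N 3 (u * v) = 0 := by
    by_cases hdep : ∀ p q : F, p • cl N 3 (x * x) + q • cl N 3 (x * y) = 0 → p = 0 ∧ q = 0
    swap
    · push Not at hdep
      obtain ⟨p, q, hpq, hne⟩ := hdep
      refine ⟨x, hx, fun hx2 => ?_, p • x + q • y, N.add_mem (N.smul_mem _ hx) (N.smul_mem _ hy),
        fun h2 => hne (hind p q h2).1 (hind p q h2).2, ?_⟩
      · exact one_ne_zero (hind 1 0 (by simpa using hx2)).1
      · simpa [mul_add, mul_smul_comm] using hpq
    have hexp : ∀ e ∈ N ^ 2, ∃ p q : F, cl N 3 e = p • cl N 3 (x * x) + q • cl N 3 (x * y) := by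
      intro e he
      obtain ⟨t, ht0, ht⟩ := hT.rel ![x * x, x * y, e] (fun i => by
        fin_cases i
        · exact mul_mem_two hx hx
        · exact mul_mem_two hx hy
        · exact he)
      simp only [Fin.sum_univ_three, Matrix.cons_val_zero, Matrix.cons_val_one, Matrix.cons_val]
        at ht
      have h2 : t 2 ≠ 0 := by
        intro h2
        rw [h2, zero_smul, add_zero] at ht
        refine ht0 (funext fun i => ?_)
        fin_cases i
        · exact (hdep _ _ ht).1
        · exact (hdep _ _ ht).2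
        · exact h2
      refine ⟨-((t 2)⁻¹ * t 0), -((t 2)⁻¹ * t 1), ?_⟩
      apply smul_right_injective _ h2
      show t 2 • _ = t 2 • _
      rw [smul_add, smul_smul, smul_smul, mul_neg, mul_neg, ← mul_assoc, ← mul_assoc,
        mul_inv_cancel₀ h2, one_mul, one_mul]
      linear_combination (norm := module) ht
    obtain ⟨p₀, q₀, h0⟩ := hexp _ (mul_mem_two hy hx)
    obtain ⟨p₁, q₁, h1⟩ := hexp _ (mul_mem_two hy hy)
    set T : (Fin 2 → F) →ₗ[F] (Fin 2 → F) := Matrix.toLin' !![p₀, p₁; q₀, q₁] with hTdef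
    obtain ⟨μ, hμ⟩ := Module.End.exists_eigenvalue T
    obtain ⟨w, hw⟩ := hμ.exists_hasEigenvector
    have hw0 : w ≠ 0 := hw.2
    have he := hw.apply_eq_smul
    have e0 : p₀ * w 0 + p₁ * w 1 = μ * w 0 := by
      have := congrFun he 0
      simpa [hTdef, Matrix.toLin'_apply, Matrix.mulVec, dotProduct, Fin.sum_univ_two] using this
    have e1 : q₀ * w 0 + q₁ * w 1 = μ * w 1 := by
      have := congrFun he 1
      simpa [hTdef, Matrix.toLin'_apply, Matrix.mulVec, dotProduct, Fin.sum_univ_two] using this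
    refine ⟨y - μ • x, N.sub_mem hy (N.smul_mem _ hx), fun h2 => ?_, w 0 • x + w 1 • y,
      N.add_mem (N.smul_mem _ hx) (N.smul_mem _ hy), fun h2 => hw0 (funext fun i => ?_), ?_⟩
    · exact one_ne_zero (hind (-μ) 1 (by rw [neg_smul, one_smul, neg_add_eq_sub]; exact h2)).2
    · fin_cases i
      · exact (hind _ _ h2).1
      · exact (hind _ _ h2).2
    · simp only [sub_mul, mul_add, smul_mul_assoc, mul_smul_comm, map_sub, map_add, map_smul, h0, h1]
      calc _ = (p₀ * w 0 + p₁ * w 1 - μ * w 0) • cl N 3 (x * x) +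
            (q₀ * w 0 + q₁ * w 1 - μ * w 1) • cl N 3 (x * y) := by module
        _ = 0 := by rw [e0, e1, sub_self, sub_self, zero_smul, zero_smul, add_zero]
  by_cases hindep : ∀ t : Fin 2 → F, ∑ i, t i • (![u, v] : Fin 2 → 𝒜) i ∈ N ^ 2 → t = 0
  · have hg := gens_of_indep (h.pow_le (by omega)) ![u, v] (fun i => by fin_cases i <;> assumption)
      hm.ge hindep
    rw [Matrix.range_cons, Matrix.range_cons, Matrix.range_empty, Set.union_empty,
      Set.singleton_union] at hg
    exact ⟨u, v, h.two_of_gens hT hu hv hg, Or.inl huv⟩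
  push Not at hindep
  obtain ⟨t, ht, ht0⟩ := hindep
  simp only [Fin.sum_univ_two, Matrix.cons_val_zero, Matrix.cons_val_one] at ht
  have h1 : t 1 ≠ 0 := by
    intro h1
    rw [h1, zero_smul, add_zero] at ht
    refine hu2 ?_
    have h0 : t 0 ≠ 0 := fun h0 => ht0 (funext fun i => by fin_cases i <;> assumption)
    have := (N ^ 2).smul_mem (t 0)⁻¹ ht
    rwa [smul_smul, inv_mul_cancel₀ h0, one_smul] at this
  have h0 : t 0 ≠ 0 := by
    intro h0
    rw [h0, zero_smul, zero_add] at ht
    refine hv2 ?_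
    have := (N ^ 2).smul_mem (t 1)⁻¹ ht
    rwa [smul_smul, inv_mul_cancel₀ h1, one_smul] at this
  have huu : cl N 3 (u * u) = 0 := by
    have h3 := cl_eq_zero.2 (mul_mem_pow (mem_pow_one hu) ht)
    rw [show (1 + 2 : ℕ) = 3 from rfl] at h3
    simp only [mul_add, mul_smul_comm, map_add, map_smul, huv, smul_zero, add_zero] at h3
    exact (smul_eq_zero.1 h3).resolve_left h0
  obtain ⟨w, hw, hwind⟩ : ∃ w ∈ N, ∀ t : Fin 2 → F,
      ∑ i, t i • (![u, w] : Fin 2 → 𝒜) i ∈ N ^ 2 → t = 0 := by
    have hw : ∃ w ∈ N, w ∉ (F ∙ u) ⊔ N ^ 2 := by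
      by_contra hall
      push Not at hall
      have h1 := (Submodule.finrank_mono (hall : N ≤ (F ∙ u) ⊔ N ^ 2)).trans
        (Submodule.finrank_add_le_finrank_add_finrank _ _)
      have h2 : finrank F (F ∙ u) ≤ 1 := (finrank_span_le_card ({u} : Set 𝒜)).trans (by simp)
      omega
    obtain ⟨w, hw, hwn⟩ := hw
    refine ⟨w, hw, fun s hs => ?_⟩
    simp only [Fin.sum_univ_two, Matrix.cons_val_zero, Matrix.cons_val_one] at hs
    have hs1 : s 1 = 0 := by
      by_contra hs1
      refine hwn (Submodule.mem_sup.2 ⟨-((s 1)⁻¹ * s 0) • u, Submodule.smul_mem _ _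
        (Submodule.mem_span_singleton_self u), (s 1)⁻¹ • (s 0 • u + s 1 • w),
        (N ^ 2).smul_mem _ hs, ?_⟩)
      rw [smul_add, smul_smul, smul_smul, inv_mul_cancel₀ hs1, one_smul]
      module
    rw [hs1, zero_smul, add_zero] at hs
    funext i
    fin_cases i
    · by_contra hs0
      replace hs0 : s 0 ≠ 0 := hs0
      refine hu2 ?_
      have := (N ^ 2).smul_mem (s 0)⁻¹ hs
      rwa [smul_smul, inv_mul_cancel₀ hs0, one_smul] at this
    · exact hs1
  have hg := gens_of_indep (h.pow_le (by omega)) ![u, w] (fun i => by fin_cases i <;> assumption)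
    hm.ge hwind
  rw [Matrix.range_cons, Matrix.range_cons, Matrix.range_empty, Set.union_empty,
    Set.singleton_union] at hg
  exact ⟨u, w, h.two_of_gens hT hu hw hg, Or.inr huu⟩

/-- With two generators the seventh power vanishes and the radical has dimension at most thirteen. -/
theorem finrank_le_of_two [IsAlgClosed F] (hm : finrank F ↥(N ^ 2) + 2 = finrank F N) :
    finrank F N ≤ 13 := by
  classical
  -- generators
  obtain ⟨x, hx, hx2⟩ : ∃ x ∈ N, x ∉ N ^ 2 := SetLike.not_le_iff_exists.1 fun hle => by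
    have := Submodule.finrank_mono hle; omega
  obtain ⟨y, hy, hy2⟩ : ∃ y ∈ N, y ∉ (F ∙ x) ⊔ N ^ 2 := SetLike.not_le_iff_exists.1 fun hle => by
    have h1 := (Submodule.finrank_mono hle).trans (Submodule.finrank_add_le_finrank_add_finrank _ _)
    have h2 : finrank F (F ∙ x) ≤ 1 := (finrank_span_le_card ({x} : Set 𝒜)).trans (by simp)
    omega
  have hX : N ≤ Submodule.span F ({x, y} : Set 𝒜) ⊔ N ^ 2 := by
    have hlt : (F ∙ x) ⊔ N ^ 2 < Submodule.span F ({x, y} : Set 𝒜) ⊔ N ^ 2 := by
      refine lt_of_le_not_ge (sup_le_sup_right (Submodule.span_mono (by simp)) _) fun hge => hy2 ?_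
      exact hge (Submodule.mem_sup_left (Submodule.subset_span (Or.inr rfl)))
    have hlt0 : N ^ 2 < (F ∙ x) ⊔ N ^ 2 :=
      lt_of_le_not_ge le_sup_right fun hge => hx2
        (hge (Submodule.mem_sup_left (Submodule.mem_span_singleton_self x)))
    have hle : Submodule.span F ({x, y} : Set 𝒜) ⊔ N ^ 2 ≤ N :=
      sup_le (Submodule.span_le.2 (by rintro s (rfl | rfl) <;> assumption)) (h.pow_le (by omega))
    have e1 := Submodule.finrank_lt_finrank_of_lt hlt
    have e2 := Submodule.finrank_lt_finrank_of_lt hlt0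
    exact (Submodule.eq_of_le_of_finrank_le hle (by omega)).ge
  have hXN : ∀ s ∈ ({x, y} : Set 𝒜), s ∈ N := by rintro s (rfl | rfl) <;> assumption
  by_cases h3 : N ^ 3 = ⊥
  · have e1 := h.finrank_pow_add_le (a := 2) (i := 2) (by omega) (by omega) (le_bot_iff.1
      ((h.pow_anti (by omega) (by omega)).trans h3.le))
    have e2 : finrank F ↥(N ^ 2) ≤ 4 := by
      have hle : N ^ 2 ≤ Submodule.span F (({x * x, x * y, y * x, y * y} : Finset 𝒜) : Set 𝒜) ⊔
          N ^ (2 + 1) := by
        refine h.sq_le_of_gens hX hXN ?_ le_sup_right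
        rintro s (rfl | rfl) t (rfl | rfl) <;>
          exact Submodule.mem_sup_left (Submodule.subset_span (by simp))
      refine (finrank_le_add hle).trans ?_
      rw [h3, finrank_bot, add_zero]
      exact Finset.card_le_four
    omega
  have hcomms : comms N ≤ (F ∙ (x * y - y * x)) ⊔ N ^ 3 := by
    refine comms_le_of_gens hX ?_ hXN (h.pow_le (by omega)) fun a ha b hb => ?_
    · rintro s (rfl | rfl) t (rfl | rfl)
      · simp
      · exact Submodule.mem_sup_left (Submodule.mem_span_singleton_self _)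
      · exact comm_flip_mem (Submodule.mem_sup_left (Submodule.mem_span_singleton_self _))
      · simp
    · exact Submodule.mem_sup_right ((N ^ 3).sub_mem (mul_mem_pow (i := 1) (mem_pow_one ha) hb)
        (mul_mem_pow (j := 1) hb (mem_pow_one ha)))
  by_cases hA : N ^ 2 ≤ comms N ⊔ N ^ 3
  · have hle : N ^ 2 ≤ (F ∙ (x * y - y * x)) ⊔ N ^ (2 + 1) :=
      hA.trans (sup_le hcomms le_sup_right)
    have hbot := h.pow_eq_bot_of_layer (n₀ := 2) le_rfl (by omega) hle hA
    have e1 := h.finrank_pow_add_le (a := 3) (i := 3) (by omega) (by omega) (le_bot_iff.1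
      ((h.pow_anti (by omega) (by omega)).trans hbot.le))
    have e2 := finrank_le_add (n := 2) (S := ({x * y - y * x} : Finset 𝒜)) (by simpa using hle)
    simp only [Finset.card_singleton] at e2
    have e4 : finrank F ↥(N ^ (2 + 1)) = finrank F ↥(N ^ 3) := rfl
    omega
  -- the square modulo the cube has dimension at most two
  obtain ⟨w, hw, hw2⟩ : ∃ w ∈ N ^ 2, w ∉ comms N ⊔ N ^ 3 := SetLike.not_le_iff_exists.1 hA
  have hG : N ^ 2 ≤ Submodule.span F (({x * y - y * x, w} : Finset 𝒜) : Set 𝒜) ⊔ N ^ (2 + 1) := by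
    have hlt : comms N ⊔ N ^ 3 < (F ∙ w) ⊔ (comms N ⊔ N ^ 3) :=
      lt_of_le_not_ge le_sup_right fun hge => hw2
        (hge (Submodule.mem_sup_left (Submodule.mem_span_singleton_self w)))
    have hlt0 : comms N < comms N ⊔ N ^ 3 :=
      lt_of_le_of_ne le_sup_left fun he => h.not_le_comms (by omega) h3 (he ▸ le_sup_right)
    have hle : (F ∙ w) ⊔ (comms N ⊔ N ^ 3) ≤ N ^ 2 :=
      sup_le (by rwa [Submodule.span_singleton_le_iff_mem])
        (sup_le comms_le_sq (h.pow_anti (by omega) (by omega)))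
    have e1 := Submodule.finrank_lt_finrank_of_lt hlt
    have e2 := Submodule.finrank_lt_finrank_of_lt hlt0
    have e3 := h.codim
    refine (Submodule.eq_of_le_of_finrank_le hle (by omega)).ge.trans
      (sup_le ?_ (sup_le (hcomms.trans (sup_le_sup_right ?_ _)) le_sup_right))
    · exact le_sup_of_le_left (Submodule.span_mono (by simp))
    · exact Submodule.span_mono (by simp)
  have hcard : ({x * y - y * x, w} : Finset 𝒜).card ≤ 2 := Finset.card_le_two
  -- the seventh power
  have h7 : N ^ 7 = ⊥ := by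
    by_contra h7
    have hne : ∀ n ≤ 7, 1 ≤ n → N ^ n ≠ ⊥ := fun n hn hn1 hb =>
      h7 (le_bot_iff.1 ((h.pow_anti hn1 hn).trans hb.le))
    have hcube : ∀ n, 3 ≤ n → n ≤ 7 → N ^ 3 ≤ comms N ⊔ N ^ n := fun n hn hn' =>
      h.cube_le_comms_sup hm.le hA hn (hne n hn' (by omega))
    have hkill : ∀ {n : ℕ} {f : 𝒜}, 2 ≤ n → n ≤ 4 → N ^ n ≤ (F ∙ f) ⊔ N ^ (n + 1) → False :=
      fun {n f} hn hn4 hle => hne (n + 3) (by omega) (by omega)
        (h.pow_eq_bot_of_layer hn (by omega) hle (hcube 4 (by omega) (by omega)))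
    have hc : x * y - y * x ∉ N ^ 3 := by
      intro hc
      refine hkill (f := w) le_rfl (by omega) (hG.trans (sup_le (Submodule.span_le.2 ?_) le_sup_right))
      intro s hs
      rcases Finset.mem_insert.1 (Finset.mem_coe.1 hs) with rfl | hs
      · exact Submodule.mem_sup_right hc
      · rw [Finset.mem_singleton.1 hs]
        exact Submodule.mem_sup_left (Submodule.mem_span_singleton_self w)
    have hT : Two N x y := ⟨hx, hy, hX, hc,
      fun e he => exists_relation (S := {x * y - y * x, w}) (by omega) e fun i => hG (he i),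
      hcube 4 (by omega) (by omega),
      (h.pow_anti (by omega) (by omega)).trans (hcube 5 (by omega) (by omega))⟩
    obtain ⟨u, v, hT', huv⟩ := h.exists_normal_gens hT hm
    have hres : (∃ f, N ^ 3 ≤ (F ∙ f) ⊔ N ^ 4) ∨ ∃ d, N ^ 4 ≤ (F ∙ d) ⊔ N ^ 5 := by
      rcases huv with huv | huu
      · exact Or.inl (h.layer_three_of_pair hT' huv)
      · exact h.layer_of_square hT' huu
    rcases hres with ⟨f, hf⟩ | ⟨f, hf⟩
    · exact hkill (by omega) (by omega) hf
    · exact hkill (by omega) le_rfl hf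
  have e1 := h.finrank_pow_add_le (a := 4) (i := 3) (by omega) (by omega) h7
  have e2 := finrank_le_add hG
  set S3 := ({x, y} : Finset 𝒜).biUnion fun s => ({x * y - y * x, w} : Finset 𝒜).image (s * ·)
  have hS3 : N ^ 3 ≤ Submodule.span F (S3 : Set 𝒜) ⊔ N ^ (3 + 1) := by
    refine h.cube_le_of_gens hX hXN hG (fun s hs g hg => ?_) le_sup_right
    refine Submodule.mem_sup_left (Submodule.subset_span ?_)
    simp only [S3, Finset.coe_biUnion, Set.mem_iUnion]
    exact ⟨s, by simpa using hs, Finset.mem_image_of_mem _ hg⟩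
  have e3 := finrank_le_add hS3
  have hc3 : S3.card ≤ 4 := by
    refine (Finset.card_biUnion_le).trans ((Finset.sum_le_card_nsmul _ _ 2 fun s _ =>
      Finset.card_image_le.trans hcard).trans ?_)
    have := Finset.card_le_two (a := x) (b := y)
    simp only [smul_eq_mul]
    omega
  have e4 : finrank F ↥(N ^ (2 + 1)) = finrank F ↥(N ^ 3) := rfl
  have e5 : finrank F ↥(N ^ (3 + 1)) = finrank F ↥(N ^ 4) := rfl
  omega

end Setting

end Cfsg.Agent.Blocks.FiveTraces
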